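import Cfsg.Agent.FFCells.Config

/-!
If the configuration holds on `V / C_V(P)`, then a Sylow subgroup fixes a vector that `P` does not.
-/

set_option autoImplicit false
set_option linter.style.haveILetI false
set_option maxHeartbeats 1600000

namespace CfsgLib.FFCells

open Subgroup CfsgLib.SL2Recognition CfsgLib.Linear
open scoped MatrixGroups

variable {P V W : Type*} [Group P] [Finite P] [AddCommGroup V] [Finite V] [AddCommGroup W] [Finite W]
  {σ : P →* AddMonoid.End V} {ρ : P →* AddMonoid.End W} {p : ℕ} [Fact p.Prime]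

/-- An element fixing the root's commutators: the root is exact for the quotient map. -/
def Exact (σ : P →* AddMonoid.End V) (ρ : P →* AddMonoid.End W) (π : V →+ W) (Y : Subgroup P) :
    Prop :=
  ∀ v, π v ∈ fix ρ Y → v ∈ fix σ Y

theorem card_comap {π : V →+ W} (hπ : Function.Surjective π) (U : AddSubgroup W) :
    Nat.card (U.comap π) = Nat.card U * Nat.card π.ker := by
  let f : U.comap π →+ U := π.addSubgroupComap U
  have hf : Function.Surjective f := fun ⟨w, hw⟩ => by
    obtain ⟨v, rfl⟩ := hπ w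
    exact ⟨⟨v, hw⟩, rfl⟩
  have e : f.ker = π.ker.addSubgroupOf (U.comap π) := AddSubgroup.ext fun x => by
    rw [AddMonoidHom.mem_ker, AddSubgroup.mem_addSubgroupOf, AddMonoidHom.mem_ker]
    exact Subtype.ext_iff
  rw [AddSubgroup.card_eq_card_quotient_mul_card_addSubgroup f.ker,
    Nat.card_congr (QuotientAddGroup.quotientKerEquivOfSurjective f hf).toEquiv, e,
    Nat.card_congr (AddSubgroup.addSubgroupOfEquivOfLe fun v hv => by
      show π v ∈ U
      rw [AddMonoidHom.mem_ker.1 hv]; exact zero_mem U).toEquiv]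

/-- Lifting the configuration from `V / C_V(P)` and averaging gives a fixed vector. -/
theorem exists_vector (π : V →+ W) (hπ : Function.Surjective π) (hπσ : ∀ g v, π (σ g v) = ρ g (π v))
    (hker : ∀ v, π v = 0 ↔ v ∈ fix σ ⊤) {T : Subgroup P}
    {𝒞 : Set (Subgroup P × Subgroup P)} (hC : Config ρ p T 𝒞) {B : Subgroup P} (hB : IsMinOff σ B)
    (hBT : B ≤ T) (hp0 : ∀ v : V, p • v = 0) :
    ∃ z ∈ fix σ T, z ∉ fix σ ⊤ := by
  classical
  by_contra hcon
  push Not at hcon
  haveI : Fintype 𝒞 := Fintype.ofFinite _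
  have h := hC.pre
  set F := h.fam
  set J := rootsJoin 𝒞 with hJ
  have hfix : ∀ (Y : Subgroup P) v, v ∈ fix σ Y → π v ∈ fix ρ Y := fun Y v hv y hy => by
    rw [← hπσ, hv y hy]
  -- `B` is a join of roots and exact
  have hkerC : π.ker = fix σ ⊤ := AddSubgroup.ext fun v => hker v
  have hcardV : Nat.card V = Nat.card W * Nat.card π.ker := by
    rw [AddSubgroup.card_eq_card_quotient_mul_card_addSubgroup π.ker,
      Nat.card_congr (QuotientAddGroup.quotientKerEquivOfSurjective π hπ).toEquiv]
  have hle : fix σ B ≤ (fix ρ B).comap π := fun v hv => hfix B v hv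
  have hsub : Nat.card (fix σ B) ≤ Nat.card (fix ρ B) * Nat.card π.ker := by
    rw [← card_comap hπ]
    exact Nat.card_le_card_of_injective _ (AddSubgroup.inclusion_injective hle)
  have hwB : Nat.card W ≤ wt ρ B := by
    refine Nat.le_of_mul_le_mul_right ?_ (Nat.card_pos (α := π.ker))
    rw [← hcardV]
    calc Nat.card V ≤ Nat.card B * Nat.card (fix σ B) := hB.le
      _ ≤ Nat.card B * (Nat.card (fix ρ B) * Nat.card π.ker) := Nat.mul_le_mul_left _ hsub
      _ = _ := by rw [wt]; ring
  have hBJ : B ≤ J := h.le_join hBT (fun a ha b hb w => by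
    obtain ⟨v, rfl⟩ := hπ w
    simp only [← hπσ, ← map_sub, hB.quad a ha b hb v]) hwB
  have hBex : Exact σ ρ π B := by
    have e : fix σ B = (fix ρ B).comap π := by
      refine AddSubgroup.eq_of_le_of_card_ge hle ?_
      rw [card_comap hπ]
      have h1 := h.wt_le hBT
      refine Nat.le_of_mul_le_mul_left ?_ (Nat.card_pos (α := B))
      calc Nat.card B * (Nat.card (fix ρ B) * Nat.card π.ker)
          = wt ρ B * Nat.card π.ker := by rw [wt]; ring
        _ ≤ Nat.card W * Nat.card π.ker := Nat.mul_le_mul_right _ h1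
        _ = Nat.card V := hcardV.symm
        _ ≤ _ := hB.le
    exact fun v hv => e ▸ hv
  obtain ⟨𝒟, h𝒟, hBD⟩ := (F.wt_le_of_le h.inj hBJ).2 hwB
  obtain ⟨d₀, hd₀⟩ : ∃ d, d ∈ 𝒟 := by
    by_contra hne
    push Not at hne
    refine hB.ne_bot (hBD ▸ eq_bot_iff.2 (iSup_le fun c => absurd c.2 (hne c.1)))
  -- `J`, the roots and the groups are exact
  have hJex : Exact σ ρ π J := fun v hv => fix_iSup _ fun c => by
    obtain ⟨t, ht, ht1, -⟩ := hC.trans d₀ (h𝒟 hd₀) c.1 c.2
    have hcB : c.1.1 ≤ cj t B := by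
      rw [← ht1, hBD]
      exact cj_mono (le_iSup (fun d : 𝒟 => rt d.1) ⟨d₀, hd₀⟩)
    have htJ : cj t B ≤ J := by
      refine (cj_mono hBJ).trans ?_
      rw [hJ, cj, rootsJoin, Subgroup.map_iSup]
      exact iSup_le fun e => F.root_le_join (h.img ht e)
    refine fix_anti σ hcB (mem_fix_cj.2 (hBex _ ?_))
    rw [hπσ]
    exact mem_fix_cj.1 (fix_anti ρ htJ hv)
  have hRex : ∀ c : 𝒞, Exact σ ρ π c.1.1 := by
    intro c v hv
    have hu : ∀ d : 𝒞, ∃ u, π u ∈ fix ρ J ∧ (F.data d).ψ (π u) = ![1, 0] := fun d => by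
      obtain ⟨w, hw, hwd⟩ := F.exists_line (fun _ => 1)
      obtain ⟨u, rfl⟩ := hπ w
      exact ⟨u, hw, hwd d⟩
    choose u hu1 hu2 using hu
    set f := fun d : 𝒞 => (F.data d).ψ (π v) 1
    set rest := v - ∑ d ∈ Finset.univ.erase c, (σ ((F.data d).low (f d)) (u d) - u d) with hrest
    have hrJ : π rest ∈ fix ρ J := by
      refine F.mem_fix_join.2 fun e => ?_
      rw [hrest, map_sub π, map_sub (F.data e).ψ, Pi.sub_apply, map_sum, map_sum, Finset.sum_apply,
        sub_eq_zero]
      by_cases hec : e = c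
      · subst hec
        rw [(F.data e).mem_fix_iff.1 hv, Finset.sum_eq_zero]
        intro d hd
        rw [map_sub π, hπσ]
        exact (F.data e).mem_fix_iff.1 (F.low_sub_fix (Finset.ne_of_mem_erase hd).symm _ _)
      · rw [Finset.sum_eq_single e]
        · rw [map_sub π, hπσ, (F.data e).ψ_low_sub, hu2]; simp [f]
        · intro d _ hd
          rw [map_sub π, hπσ]
          exact (F.data e).mem_fix_iff.1 (F.low_sub_fix hd.symm _ _)
        · exact fun hn => absurd (Finset.mem_erase.2 ⟨hec, Finset.mem_univ _⟩) hn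
    have h1 : rest ∈ fix σ c.1.1 := fix_anti σ (F.root_le_join c) (hJex _ hrJ)
    have h2 : ∑ d ∈ Finset.univ.erase c, (σ ((F.data d).low (f d)) (u d) - u d) ∈ fix σ c.1.1 := by
      refine sum_mem fun d hd b hb => ?_
      have hcomm := (F.orth c.1 c.2 d.1 d.2 fun e => (Finset.ne_of_mem_erase hd) (Subtype.ext e.symm)).commute
        h.inj hb ((F.data d).low_mem (f d))
      have hbu : σ b (u d) = u d := fix_anti σ (F.root_le_join c) (hJex _ (hu1 d)) b hb
      rw [map_sub, ← apply_mul, hcomm.eq, apply_mul, hbu]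
    simpa [hrest] using add_mem h1 h2
  have hLex : ∀ c : 𝒞, Exact σ ρ π c.1.2 := by
    intro c v hv
    have D := F.data c
    rw [← D.gen_weyl, fix_sup] at hv ⊢
    refine ⟨hRex c v hv.1, mem_fix_cj.2 (hRex c _ ?_)⟩
    rw [hπσ]; exact mem_fix_cj.1 hv.2
  -- a vector fixed by the stabiliser of one cell
  obtain ⟨c₀, hc₀⟩ := hC.nonempty
  set c : 𝒞 := ⟨c₀, hc₀⟩
  set D := F.data c
  set U := T ⊓ normalizer (c.1.1 : Set P) with hU
  have hUN : ∀ t ∈ U, Norm t c.1.1 c.1.2 := fun t ht => h.norm_of_root ht.1 (cj_eq_self.2 ht.2)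
  obtain ⟨w, hwJ, hwd, hwc, hwU⟩ : ∃ w, π w ∈ fix ρ J ∧ (∀ d, d ≠ c → (F.data d).ψ (π w) = 0) ∧
      D.ψ (π w) ≠ 0 ∧ ∀ t ∈ U, σ t w = w := by
    by_cases hq : Nat.card c.1.1 = 2
    · obtain ⟨w', hw'⟩ := D.surj ![0, 1]
      obtain ⟨v, rfl⟩ := hπ w'
      set b := D.u 1
      have hb : b ∈ c.1.1 := D.u_mem 1
      refine ⟨σ b v - v, ?_, fun d hd => ?_, ?_, fun t ht => ?_⟩
      · rw [map_sub, hπσ]; exact F.root_sub_mem c hb _
      · rw [map_sub π, hπσ]; exact F.ψ_root_sub_ne hd hb _
      · rw [map_sub π, hπσ, D.ψ_apply_sub, hw']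
        intro e
        exact one_ne_zero (α := D.F) (by simpa using congrFun e 0)
      · have h2F : Nat.card D.F = 2 := by rw [← D.card_root]; exact hq
        have hF2 : ∀ x : D.F, x ≠ 0 → x = 1 := fun x hx => by
          by_contra hx1
          have h3 := Nat.card_le_card_of_injective
            (fun i : Fin 3 => (![0, 1, x] i : D.F)) (by
              intro i j hij
              fin_cases i <;> fin_cases j <;> simp_all [Ne.symm hx, Ne.symm hx1])
          rw [h2F] at h3
          simp at h3
        obtain ⟨s, hs⟩ := D.exists_u (show t * b * t⁻¹ ∈ c.1.1 by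
          rw [← (hUN t ht).root]; exact conj_mem_cj hb)
        have hbne : D.u 1 ≠ 1 := D.u_ne_one one_ne_zero
        have hs1 : s = 1 := hF2 s fun e => by
          subst e
          have h0 : D.u (0 : D.F) = 1 := by
            show ((D.φ.symm (upperUni 0) : c.1.2) : P) = 1
            rw [upperUni, Matrix.SpecialLinearGroup.transvection_coeff_zero, map_one]; rfl
          exact hbne (by simpa using hs.symm.trans h0 : b = 1)
        rw [hs1] at hs
        have e1 : σ t (σ b v - v) = σ b (σ t v) - σ t v := by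
          rw [map_sub, ← apply_mul, ← apply_mul]
          conv_rhs => rw [show b = t * b * t⁻¹ from hs, inv_mul_cancel_right]
        rw [e1]
        have hy : D.ψ (π (σ t v)) 1 = 1 := by
          rw [hπσ]
          obtain ⟨α, h', β, -, hh, -⟩ := D.exists_semilinear (hUN t ht)
          rw [hh, hw']
          refine hF2 _ fun e => ?_
          have : π v ∈ fix ρ c.1.1 := by
            have h1 : ρ t (π v) ∈ fix ρ c.1.1 := D.fixB _ (by rw [hh, hw']; simpa using e)
            have h2 := CellData.apply_mem_fix_root (σ := ρ) (hUN t ht).inv h1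
            rwa [apply_inv_apply] at h2
          rw [D.mem_fix_iff, hw'] at this
          simp at this
        have hd0 : σ t v - v ∈ fix σ c.1.1 := hRex c _ (D.fixB _ (by
          rw [map_sub π, map_sub, Pi.sub_apply, hy, hw']; simp))
        have h3 := hd0 b hb
        rw [map_sub, sub_eq_sub_iff_sub_eq_sub] at h3
        exact h3
    · -- average over the Borel subgroup
      have hq2 : ∀ d : 𝒞, d ≠ c → Orth ρ c.1.2 d.1.2 := fun d hd => by
        rcases hC.dich c.1 c.2 d.1 d.2 (fun e => hd (Subtype.ext e.symm)) with ho | ⟨hl, -⟩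
        · exact ho
        · exact absurd hl hq
      set N := c.1.2 ⊓ normalizer (c.1.1 : Set P) with hN
      haveI : Fintype (N ⧸ c.1.1.subgroupOf N) := Fintype.ofFinite _
      set k := Fintype.card (N ⧸ c.1.1.subgroupOf N)
      let lam : N →* D.Fˣ :=
        MonoidHom.mk' (fun n => Units.mk0 ((D.φ ⟨n, n.2.1⟩).1 0 0) (fun e => by
          have h1 := (D.φ ⟨n, n.2.1⟩).2
          rw [Matrix.det_fin_two, e, D.apply_eq_zero_of_mem_normalizer n.2.1 n.2.2] at h1
          simp at h1)) fun a b => Units.ext (by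
          show (D.φ (⟨a, a.2.1⟩ * ⟨b, b.2.1⟩)).1 0 0 = _
          have e0 : (D.φ ⟨(b : P), b.2.1⟩).1 1 0 = 0 := D.apply_eq_zero_of_mem_normalizer b.2.1 b.2.2
          rw [map_mul, Matrix.SpecialLinearGroup.coe_mul, Matrix.mul_apply, Fin.sum_univ_two]
          show (D.φ ⟨(a : P), a.2.1⟩).1 0 0 * (D.φ ⟨(b : P), b.2.1⟩).1 0 0 +
              (D.φ ⟨(a : P), a.2.1⟩).1 0 1 * (D.φ ⟨(b : P), b.2.1⟩).1 1 0 =
            (D.φ ⟨(a : P), a.2.1⟩).1 0 0 * (D.φ ⟨(b : P), b.2.1⟩).1 0 0
          linear_combination (D.φ ⟨(a : P), a.2.1⟩).1 0 1 * e0)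
      have hlk : lam.ker = c.1.1.subgroupOf N := by
        ext n
        rw [MonoidHom.mem_ker, Units.ext_iff, mem_subgroupOf]
        show (D.φ ⟨n, n.2.1⟩).1 0 0 = 1 ↔ _
        constructor
        · intro e
          refine (D.root ⟨n, n.2.1⟩).2 ⟨(D.φ ⟨n, n.2.1⟩).1 0 1, Subtype.ext ?_⟩
          have e10 := D.apply_eq_zero_of_mem_normalizer n.2.1 n.2.2
          have e11 : (D.φ ⟨n, n.2.1⟩).1 1 1 = 1 := by
            have h1 := (D.φ ⟨n, n.2.1⟩).2
            rw [Matrix.det_fin_two, e, e10] at h1
            simpa using h1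
          rw [upperUni_val]
          ext i j; fin_cases i <;> fin_cases j <;> simp [e, e10, e11]
        · intro hn
          obtain ⟨t, ht⟩ := (D.root ⟨n, n.2.1⟩).1 hn
          rw [ht, upperUni_val]; rfl
      have hkp : ¬ p ∣ k := by
        intro hpk
        haveI := D.charP h.exp
        have h1 : k ∣ Fintype.card D.Fˣ := by
          have e : Nat.card (N ⧸ lam.ker) = Nat.card lam.range :=
            Nat.card_congr (QuotientGroup.quotientKerEquivRange lam).toEquiv
          rw [hlk, Nat.card_eq_fintype_card] at e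
          rw [← Nat.card_eq_fintype_card (α := D.Fˣ)]
          exact dvd_of_eq e |>.trans lam.range.card_subgroup_dvd_card
        rw [Fintype.card_units] at h1
        have h2 := CfsgLib.Linear.not_dvd_pow_sub_one (F := D.F) p (one_ne_zero)
        rw [pow_one] at h2
        exact h2 (hpk.trans h1)
      obtain ⟨n₀, hn₀⟩ : ∃ n : N, (lam n : D.F) ≠ 1 := by
        obtain ⟨ζ, hζ⟩ : ∃ ζ : D.Fˣ, ζ ≠ 1 := by
          by_contra hall
          push Not at hall
          refine hq ?_
          have h1 : Fintype.card D.Fˣ = 1 := Fintype.card_eq_one_iff.2 ⟨1, hall⟩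
          rw [Fintype.card_units] at h1
          rw [D.card_root, Nat.card_eq_fintype_card]; omega
        have hmem : ((D.φ.symm (CfsgLib.WeakClosed.Torus.diag ζ) : c.1.2) : P) ∈ N :=
          Subgroup.mem_inf.2 ⟨SetLike.coe_mem _, D.mem_normalizer_of_apply (SetLike.coe_mem _) (by
            rw [Subtype.coe_eta, D.φ.apply_symm_apply]; rfl)⟩
        refine ⟨⟨_, hmem⟩, ?_⟩
        show (D.φ ⟨((D.φ.symm (CfsgLib.WeakClosed.Torus.diag ζ) : c.1.2) : P), _⟩).1 0 0 ≠ 1
        rw [Subtype.coe_eta, D.φ.apply_symm_apply]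
        exact fun e => hζ (Units.ext e)
      let E : AddSubgroup V :=
        { carrier := {v | π v ∈ fix ρ J ∧ ∀ d, d ≠ c → (F.data d).ψ (π v) = 0}
          zero_mem' := ⟨by rw [map_zero]; exact zero_mem _, fun d _ => by rw [map_zero, map_zero]⟩
          add_mem' := fun {a b} ha hb => ⟨by rw [map_add]; exact add_mem ha.1 hb.1, fun d hd => by
            rw [map_add, map_add, ha.2 d hd, hb.2 d hd, add_zero]⟩
          neg_mem' := fun {a} ha => ⟨by rw [map_neg]; exact neg_mem ha.1, fun d hd => by
            rw [map_neg, map_neg, ha.2 d hd, neg_zero]⟩ }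
      have hNE : ∀ n ∈ N, ∀ v ∈ E, σ n v ∈ E := by
        intro n hn v hv
        refine ⟨?_, fun d hd => ?_⟩
        · rw [hπσ]
          refine fix_iSup _ fun d => ?_
          rcases eq_or_ne d c with hd | hd
          · rw [hd, show rt c.1 = cj n c.1.1 from (cj_eq_self.2 hn.2).symm, mem_fix_cj, apply_inv_apply]
            exact fix_anti ρ (F.root_le_join c) hv.1
          · intro b hb
            rw [← apply_mul, ((F.orth d.1 d.2 c.1 c.2 fun e => hd (Subtype.ext e)).commute h.inj hb hn.1).eq,
              apply_mul, fix_anti ρ (F.root_le_join d) hv.1 b hb]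
        · rw [hπσ, ← sub_add_cancel (ρ n (π v)) (π v), map_add, hv.2 d hd, add_zero, (F.data d).ker]
          exact fun l hl => ((hq2 d hd) n hn.1 l hl _).2
      have hEfix : ∀ v ∈ E, v ∈ fix σ c.1.1 := fun v hv => fix_anti σ (F.root_le_join c) (hJex v hv.1)
      let term : E → N ⧸ c.1.1.subgroupOf N → V := fun v q => σ (q.out : P) v
      have hterm : ∀ (v : E) (n : N), σ (n : P) v = term v ((n : N ⧸ c.1.1.subgroupOf N)) := by
        intro v n
        have hmem : ((n : N ⧸ c.1.1.subgroupOf N).out : N)⁻¹ * n ∈ c.1.1.subgroupOf N := by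
          rw [← QuotientGroup.eq, QuotientGroup.out_eq']
        have h1 := hEfix v v.2 _ (mem_subgroupOf.1 hmem)
        show σ (n : P) v = σ ((n : N ⧸ c.1.1.subgroupOf N).out : P) v
        conv_rhs => rw [← h1, ← apply_mul, Subgroup.coe_mul, InvMemClass.coe_inv, mul_inv_cancel_left]
      let Pr : E →+ V := AddMonoidHom.mk' (fun v => k • (v : V) - ∑ q, term v q) fun a b => by
        simp only [term, AddSubgroup.coe_add, map_add, Finset.sum_add_distrib, nsmul_add]; abel
      have hPrE : ∀ v : E, Pr v ∈ E := fun v =>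
        sub_mem (nsmul_mem v.2 k) (sum_mem fun q _ => hNE _ q.out.2 v v.2)
      have hPr0 : ∀ v : E, (v : V) ∈ fix σ c.1.2 → Pr v = 0 := fun v hv => by
        show k • (v : V) - ∑ q, term v q = 0
        rw [Finset.sum_congr rfl fun q _ => show term v q = v from hv _ q.out.2.1, Finset.sum_const,
          Finset.card_univ, sub_self]
      have hPrψ : ∀ v : E, D.ψ (π (Pr v)) = k • D.ψ (π v) := by
        intro v
        show D.ψ (π (k • (v : V) - ∑ q, term v q)) = _
        have hy : D.ψ (π (v : V)) 1 = 0 := F.mem_fix_join.1 v.2.1 c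
        have hq' : ∀ n : N, D.ψ (π (σ (n : P) v)) = ![(lam n : D.F) * D.ψ (π (v : V)) 0, 0] := by
          intro n
          rw [hπσ, show ((n : N) : P) = ((⟨n, n.2.1⟩ : c.1.2) : P) from rfl, D.equiv]
          have e10 := D.apply_eq_zero_of_mem_normalizer n.2.1 n.2.2
          ext i; fin_cases i
          · simp [Matrix.mulVec, dotProduct, Fin.sum_univ_two, hy]
            exact Or.inl rfl
          · simp [Matrix.mulVec, dotProduct, Fin.sum_univ_two, hy, e10]
        set s := ∑ q, D.ψ (π (term v q)) 0 with hs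
        have hs0 : s = 0 := by
          have hshift : ∀ q, D.ψ (π (term v (n₀ • q))) 0 = (lam n₀ : D.F) * D.ψ (π (term v q)) 0 := by
            intro q
            induction q using QuotientGroup.induction_on with
            | _ n =>
              rw [show n₀ • (n : N ⧸ c.1.1.subgroupOf N) = ((n₀ * n : N) : N ⧸ c.1.1.subgroupOf N) from rfl,
                ← hterm, ← hterm, hq', hq', map_mul]
              simp [mul_assoc]
          have h1 : s = (lam n₀ : D.F) * s := by
            rw [hs, Finset.mul_sum, ← Finset.sum_congr rfl fun q _ => hshift q]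
            exact ((MulAction.bijective n₀).sum_comp fun q => D.ψ (π (term v q)) 0).symm
          have h2 : ((lam n₀ : D.F) - 1) * s = 0 := by rw [sub_mul, ← h1, one_mul, sub_self]
          exact (mul_eq_zero.1 h2).resolve_left (sub_ne_zero.2 hn₀)
        have hsum : D.ψ (π (∑ q, term v q)) = 0 := by
          rw [map_sum, map_sum]
          ext i; fin_cases i
          · simpa [Finset.sum_apply] using hs0
          · rw [Finset.sum_apply, Finset.sum_eq_zero]
            · rfl
            · intro q _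
              rw [show term v q = σ (q.out : P) v from rfl, hq']; rfl
        rw [map_sub π, map_nsmul, map_sub D.ψ, map_nsmul, hsum, sub_zero]
      have hUE : ∀ t ∈ U, ∀ v ∈ E, σ t v ∈ E := by
        intro t ht v hv
        refine ⟨by rw [hπσ]; exact h.apply_fix ht.1 hv.1, fun d hd => ?_⟩
        have hd' : h.img (inv_mem ht.1) d ≠ c := fun e => hd (F.root_inj h.inj (by
          have e2 : cj t⁻¹ d.1.1 = c.1.1 := congrArg (fun c : 𝒞 => c.1.1) e
          rw [← cj_cj_inv t d.1.1, e2, (hUN t ht).root]))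
        have h2 := (h.ψ_img_eq_zero ht.1 (h.img (inv_mem ht.1) d)).2 (hv.2 _ hd')
        rw [hπσ]
        rwa [show h.img ht.1 (h.img (inv_mem ht.1) d) = d from
          Subtype.ext (Prod.ext (cj_cj_inv t _) (cj_cj_inv t _))] at h2
      have hUcomm : ∀ t (ht : t ∈ U) (v : E),
          σ t (Pr v) = Pr ⟨σ t (v : V), hUE t ht v v.2⟩ := by
        intro t ht v
        show σ t (k • (v : V) - ∑ q, term v q) =
          k • σ t (v : V) - ∑ q : N ⧸ c.1.1.subgroupOf N, σ ((q.out : N) : P) (σ t (v : V))
        rw [map_sub, map_nsmul, map_sum]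
        congr 1
        have hmem : ∀ n : N, t * n * t⁻¹ ∈ N := fun n => by
          refine Subgroup.mem_inf.2 ⟨?_, cj_eq_self.1 ?_⟩
          · have h1 := conj_mem_cj (g := t) n.2.1
            rw [(hUN t ht).grp] at h1
            exact h1
          · rw [← cj_cj, (hUN t ht).inv.root, ← cj_cj, cj_eq_self.2 n.2.2, (hUN t ht).root]
        let e : N ⧸ c.1.1.subgroupOf N → N ⧸ c.1.1.subgroupOf N :=
          Quotient.map' (fun n => ⟨t * n * t⁻¹, hmem n⟩) fun a b hab => by
            rw [QuotientGroup.leftRel_apply] at hab ⊢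
            rw [mem_subgroupOf] at hab ⊢
            have h1 := conj_mem_cj (g := t) hab
            rw [(hUN t ht).root] at h1
            simpa [mul_assoc] using h1
        have hebij : Function.Bijective e := by
          refine Finite.injective_iff_bijective.1 fun x y hxy => ?_
          induction x using QuotientGroup.induction_on with
          | _ a =>
            induction y using QuotientGroup.induction_on with
            | _ b =>
              have h1 := QuotientGroup.eq.1 hxy
              rw [mem_subgroupOf] at h1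
              rw [QuotientGroup.eq, mem_subgroupOf]
              have h2 := conj_mem_cj (g := t⁻¹) h1
              rw [show cj t⁻¹ c.1.1 = c.1.1 from (hUN t ht).inv.root] at h2
              simpa [mul_assoc] using h2
        have key : ∀ q, σ t (term v q) = σ ((e q).out : P) (σ t v) := by
          intro q
          induction q using QuotientGroup.induction_on with
          | _ n =>
            rw [← hterm]
            show σ t (σ (n : P) v) = term ⟨σ t v, hUE t ht v v.2⟩
              ((⟨t * n * t⁻¹, hmem n⟩ : N) : N ⧸ c.1.1.subgroupOf N)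
            rw [← hterm]
            show σ t (σ (n : P) v) = σ (t * n * t⁻¹) (σ t v)
            rw [← apply_mul, ← apply_mul, inv_mul_cancel_right]
        rw [Finset.sum_congr rfl fun (q : N ⧸ c.1.1.subgroupOf N) _ => key q]
        exact hebij.sum_comp fun q => σ (q.out : P) (σ t v)
      obtain ⟨w₁, hw₁J, hw₁⟩ := F.exists_line (Function.update (fun _ => 0) c 1)
      obtain ⟨v₁, rfl⟩ := hπ w₁
      have hv₁E : v₁ ∈ E := ⟨hw₁J, fun d hd => by
        rw [hw₁, Function.update_of_ne hd]; ext i; fin_cases i <;> rfl⟩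
      set Λ := Pr.range with hΛ
      letI : MulAction U Λ :=
        { smul := fun t x => ⟨σ t x, by
            obtain ⟨v, hv⟩ := x.2
            exact ⟨⟨σ t v, hUE t t.2 v v.2⟩, by rw [← hv, hUcomm t t.2]⟩⟩
          one_smul := fun x => Subtype.ext (apply_one σ _)
          mul_smul := fun a b x => Subtype.ext (apply_mul σ _ _ _) }
      have hΛ0 : ∀ x ∈ Λ, D.ψ (π x) = 0 → x = 0 := by
        rintro _ ⟨v, rfl⟩ hx
        rw [hPrψ] at hx
        haveI := D.charP h.exp
        refine hPr0 v (hLex c _ ((D.ker _).1 (funext fun i => ?_)))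
        have hi := congrFun hx i
        rw [Pi.smul_apply, Pi.zero_apply, nsmul_eq_mul, mul_eq_zero, CharP.cast_eq_zero_iff D.F p] at hi
        exact hi.resolve_left hkp
      have hdvd : p ∣ Nat.card Λ := by
        have hne : Pr ⟨v₁, hv₁E⟩ ≠ 0 := by
          intro e
          have h1 := hPrψ ⟨v₁, hv₁E⟩
          rw [e, map_zero, map_zero] at h1
          haveI := D.charP h.exp
          have h2 := congrFun h1 0
          rw [Pi.smul_apply, Pi.zero_apply, hw₁, Function.update_self, nsmul_eq_mul] at h2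
          exact hkp ((CharP.cast_eq_zero_iff D.F p k).1 (by simpa using h2.symm))
        have hord : addOrderOf (⟨Pr ⟨v₁, hv₁E⟩, ⟨_, rfl⟩⟩ : Λ) = p :=
          addOrderOf_eq_prime (Subtype.ext (hp0 _)) fun e => hne (congrArg Subtype.val e)
        exact hord ▸ addOrderOf_dvd_natCard _
      obtain ⟨x, hx, hx0⟩ := (h.pgroup.to_le inf_le_left : IsPGroup p U).exists_fixed_point_of_prime_dvd_card_of_fixed_point
        Λ hdvd (a := (0 : Λ)) fun t => Subtype.ext (map_zero (σ (t : P)))
      obtain ⟨v, hv⟩ := x.2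
      have hxE : (x : V) ∈ E := hv ▸ hPrE v
      exact ⟨x, hxE.1, hxE.2, fun e => hx0 (Subtype.ext (hΛ0 x x.2 e).symm),
        fun t ht => congrArg Subtype.val (hx ⟨t, ht⟩)⟩
  -- sum over the orbit
  haveI : Fintype (T ⧸ U.subgroupOf T) := Fintype.ofFinite _
  set z := ∑ q : T ⧸ U.subgroupOf T, σ (q.out : P) w
  have hzT : z ∈ fix σ T := by
    intro t ht
    rw [map_sum]
    refine Fintype.sum_bijective (fun q => (⟨t, ht⟩ : T) • q) (MulAction.bijective _) _ _ fun q => ?_
    have hmem : (((⟨t, ht⟩ : T) • q).out)⁻¹ * (⟨t, ht⟩ * q.out) ∈ U.subgroupOf T := by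
      rw [← QuotientGroup.eq, QuotientGroup.out_eq']
      conv_lhs => rw [← QuotientGroup.out_eq' q]
      rfl
    have h1 := hwU _ (mem_subgroupOf.1 hmem)
    conv_rhs => rw [← h1, ← apply_mul, Subgroup.coe_mul, InvMemClass.coe_inv, mul_inv_cancel_left]
    rw [Subgroup.coe_mul, apply_mul]
  have h0 : D.ψ (π z) = 0 := by rw [(hker z).2 (hcon z hzT), map_zero]
  rw [map_sum π, map_sum D.ψ, Finset.sum_eq_single ((1 : T) : T ⧸ U.subgroupOf T)] at h0
  · have hout : ((((1 : T) : T ⧸ U.subgroupOf T).out : T) : P) ∈ U := by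
      have : (((1 : T) : T ⧸ U.subgroupOf T).out : T)⁻¹ * 1 ∈ U.subgroupOf T := by
        rw [← QuotientGroup.eq, QuotientGroup.out_eq']
      rw [mul_one] at this
      simpa using inv_mem (mem_subgroupOf.1 this)
    rw [hwU _ hout] at h0
    exact hwc h0
  · intro q _ hq
    by_contra hne0
    apply hq
    have hqT : (q.out : P) ∈ T := q.out.2
    have h1 : h.img (inv_mem hqT) c = c := by
      by_contra hne1
      have h2 := (h.ψ_img_eq_zero hqT (h.img (inv_mem hqT) c)).2 (hwd _ hne1)
      rw [show h.img hqT (h.img (inv_mem hqT) c) = c from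
        Subtype.ext (Prod.ext (cj_cj_inv _ _) (cj_cj_inv _ _)), ← hπσ] at h2
      exact hne0 h2
    have h3 : (q.out : P)⁻¹ ∈ U := Subgroup.mem_inf.2
      ⟨inv_mem hqT, cj_eq_self.1 (congrArg (fun c : 𝒞 => c.1.1) h1)⟩
    rw [← QuotientGroup.out_eq' q, QuotientGroup.eq]
    exact mem_subgroupOf.2 (by simpa using h3)
  · exact fun hn => absurd (Finset.mem_univ _) hn

end CfsgLib.FFCells
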