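import Cfsg.Agent.FFCells.LocalExtend
import Cfsg.Agent.FFCells.Vector

/-!
A p-minimal group with trivial `p`-core and an offender on its module: the configuration of cells and a fixed
vector of a Sylow subgroup that the group moves.
-/

set_option autoImplicit false
set_option linter.style.haveILetI false

namespace CfsgLib.FFCells

open Subgroup CfsgLib.SL2Recognition

universe u w

theorem exists_fix_ne_zero {P V : Type*} [Group P] [Finite P] [AddCommGroup V] [Finite V] {p : ℕ}
    [Fact p.Prime] (σ : P →* AddMonoid.End V) (hp0 : ∀ v : V, p • v = 0) {T : Subgroup P}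
    (hT : IsPGroup p T) {v₀ : V} (hv₀ : v₀ ≠ 0) : ∃ v ∈ fix σ T, v ≠ 0 := by
  letI : MulAction T V :=
    { smul := fun g v => σ g v
      one_smul := apply_one σ
      mul_smul := fun g h v => apply_mul σ g h v }
  have hdvd : p ∣ Nat.card V := by
    rw [← addOrderOf_eq_prime (hp0 v₀) hv₀]
    exact addOrderOf_dvd_natCard v₀
  obtain ⟨v, hv, hne⟩ := hT.exists_fixed_point_of_prime_dvd_card_of_fixed_point V hdvd (a := (0 : V))
    (fun g => map_zero (σ (g : P)))
  exact ⟨v, fun g hg => hv ⟨g, hg⟩, Ne.symm hne⟩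

/-- The fixed vector, from the statement on smaller modules. -/
theorem exists_moved_fixed {P : Type u} {V : Type w} [Group P] [Finite P] [AddCommGroup V] [Finite V]
    {p : ℕ} [Fact p.Prime] {σ : P →* AddMonoid.End V} (hinj : Function.Injective σ)
    (hp0 : ∀ v : V, p • v = 0) {T : Sylow p P} {M : Subgroup P} (hM : PMin T M)
    (hOp : ∀ N : Subgroup P, N.Normal → IsPGroup p N → N = ⊥) (hoff : ∃ A, IsMinOff σ A)
    (hIH : ∀ (W : Type w) [AddCommGroup W] [Finite W], Nat.card W < Nat.card V → Goal p P W) :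
    ∃ z ∈ fix σ (T : Subgroup P), z ∉ fix σ ⊤ := by
  by_contra hcon
  push Not at hcon
  obtain ⟨A, hA⟩ := hoff
  obtain ⟨B, hB, hBT⟩ := exists_minOff_le (T := T) hinj hp0 ⟨A, hA⟩
  set C : AddSubgroup V := fix σ ⊤ with hCdef
  -- a nonzero fixed vector
  obtain ⟨v₀, hv₀⟩ : ∃ v : V, v ≠ 0 := by
    by_contra h
    push Not at h
    obtain ⟨a, -, ha⟩ := A.bot_or_exists_ne_one.resolve_left hA.ne_bot
    exact ha (hinj (AddMonoidHom.ext fun v => (h _).trans (h _).symm))
  obtain ⟨v₁, hv₁, hv₁0⟩ := exists_fix_ne_zero σ hp0 T.isPGroup' hv₀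
  have hC : C ≠ ⊥ := fun e => hv₁0 (AddSubgroup.mem_bot.1 (e ▸ hcon v₁ hv₁))
  have hinv : ∀ g : P, C ≤ C.comap (σ g : V →+ V) := fun g v hv => by
    show σ g v ∈ C
    rw [hv g (mem_top g)]; exact hv
  let π : V →+ V ⧸ C := QuotientAddGroup.mk' C
  have hπ : Function.Surjective π := QuotientAddGroup.mk'_surjective C
  let ρ : P →* AddMonoid.End (V ⧸ C) :=
    { toFun := fun g => QuotientAddGroup.map C C (σ g : V →+ V) (hinv g)
      map_one' := AddMonoidHom.ext fun x => by
        obtain ⟨v, rfl⟩ := hπ x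
        exact congrArg π (apply_one σ v)
      map_mul' := fun g h => AddMonoidHom.ext fun x => by
        obtain ⟨v, rfl⟩ := hπ x
        exact congrArg π (apply_mul σ g h v) }
  have hπσ : ∀ g v, π (σ g v) = ρ g (π v) := fun _ _ => rfl
  have hker : ∀ v, π v = 0 ↔ v ∈ fix σ ⊤ := fun v => QuotientAddGroup.eq_zero_iff v
  have hρexp : ∀ x : V ⧸ C, p • x = 0 := fun x => by
    obtain ⟨v, rfl⟩ := hπ x
    rw [← map_nsmul, hp0, map_zero]
  -- the kernel is a normal `p`-group
  have hρinj : Function.Injective ρ := by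
    rw [← MonoidHom.ker_eq_bot_iff]
    refine hOp _ inferInstance fun g => ⟨1, Subtype.ext (hinj (AddMonoidHom.ext fun v => ?_))⟩
    show σ ((g : P) ^ p ^ 1) v = σ 1 v
    rw [pow_one, apply_one]
    have hfx : σ (g : P) (σ (g : P) v - v) = σ (g : P) v - v := by
      refine (hker _).1 ?_ _ (mem_top _)
      rw [map_sub, hπσ, MonoidHom.mem_ker.1 g.2, sub_eq_zero]
      rfl
    have hk : ∀ k : ℕ, σ ((g : P) ^ k) v = v + k • (σ (g : P) v - v) := by
      intro k
      induction k with
      | zero => simp [apply_one]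
      | succ k ih => rw [pow_succ', apply_mul, ih, map_add, map_nsmul, hfx, succ_nsmul]; abel
    rw [hk, hp0, add_zero]
  have hcard : Nat.card V = Nat.card (V ⧸ C) * Nat.card C :=
    AddSubgroup.card_eq_card_quotient_mul_card_addSubgroup C
  have hlt : Nat.card (V ⧸ C) < Nat.card V := by
    rw [hcard]
    exact Nat.lt_mul_iff_one_lt_right Nat.card_pos |>.2 ((AddSubgroup.one_lt_card_iff_ne_bot C).2 hC)
  -- the offender persists
  have hρoff : ∃ B, IsMinOff ρ B := by
    refine (exists_minOff hρinj hρexp (hA.elementary hinj hp0) hA.ne_bot ?_).imp fun _ h => h.2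
    refine Nat.le_of_mul_le_mul_right (c := Nat.card C) ?_ Nat.card_pos
    rw [← hcard]
    refine hA.le.trans ?_
    rw [wt, wt, mul_assoc]
    refine Nat.mul_le_mul_left _ ?_
    have h1 : Nat.card π.ker = Nat.card C := by rw [QuotientAddGroup.ker_mk']
    rw [← h1, ← card_comap hπ]
    exact Nat.card_le_card_of_injective _ (AddSubgroup.inclusion_injective
      (H := fix σ A) (K := (fix ρ A).comap π) fun v hv y hy => by rw [← hπσ, hv y hy])
  obtain ⟨-, 𝒞, h𝒞⟩ := hIH (V ⧸ C) hlt ρ hρinj hρexp T M hM hOp hρoff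
  obtain ⟨z, hz, hz0⟩ := exists_vector π hπ hπσ hker h𝒞 hB hBT hp0
  exact hz0 (hcon z hz)

theorem goal_aux {p : ℕ} [Fact p.Prime] (n : ℕ) :
    ∀ (P : Type u) (V : Type w) [Group P] [Finite P] [AddCommGroup V] [Finite V],
      Nat.card P + Nat.card V ≤ n → Goal p P V := by
  induction n with
  | zero =>
    intro P V _ _ _ _ hn
    have : 0 < Nat.card P := Nat.card_pos
    omega
  | succ n ih =>
    intro P V _ _ _ _ hn σ hinj hp0 T M hM hOp hoff
    have hz := exists_moved_fixed hinj hp0 hM hOp hoff fun W _ _ hW => ih P W (by omega)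
    refine ⟨hz, ?_⟩
    obtain ⟨A, hA, hAT⟩ := exists_minOff_le (T := T) hinj hp0 hoff
    by_cases hno : NoLocal σ p M
    · exact exists_config_single hinj hp0 hM hOp hz hA hAT hno
    obtain ⟨T₁, H, h⟩ := exists_loc hinj hp0 hM hOp hz hno
    refine h.exists_config (ih _ _ ?_)
    have hH : H ≠ ⊤ := by
      intro e
      obtain ⟨R, hR, hRT, hHR⟩ := h.core
      exact hR (hOp R (normalizer_eq_top_iff.1 (top_le_iff.1 (e ▸ hHR))) (h.pgroup.to_le hRT))
    have h1 : Nat.card H < Nat.card P :=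
      lt_of_le_of_ne H.card_le_card_group fun e => hH ((card_eq_iff_eq_top H).1 e)
    have h2 : Nat.card (QG σ T₁ H) ≤ Nat.card H :=
      Nat.card_le_card_of_surjective _ (QuotientGroup.mk'_surjective (qAct σ T₁ H).ker)
    have h3 : Nat.card (qFix σ T₁ H) ≤ Nat.card V :=
      Nat.card_le_card_of_injective _ Subtype.val_injective
    omega

/-- The structure theorem. -/
theorem exists_config {P V : Type*} [Group P] [Finite P] [AddCommGroup V] [Finite V] {p : ℕ}
    [Fact p.Prime] (σ : P →* AddMonoid.End V) (hinj : Function.Injective σ)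
    (hp0 : ∀ v : V, p • v = 0) (T : Sylow p P) (M : Subgroup P) (hM : PMin T M)
    (hOp : ∀ N : Subgroup P, N.Normal → IsPGroup p N → N = ⊥) (hoff : ∃ A, IsMinOff σ A) :
    (∃ z ∈ fix σ (T : Subgroup P), z ∉ fix σ ⊤) ∧ ∃ 𝒞, Config σ p (T : Subgroup P) 𝒞 :=
  goal_aux _ P V le_rfl σ hinj hp0 T M hM hOp hoff

end CfsgLib.FFCells
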