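import Cfsg.Agent.SL2Recognition.Offender
import Cfsg.Agent.PGV.Module
import Cfsg.Agent.LocalEvenBasic.CardLattice

/-!
Weights, minimal offenders, orthogonality and p-minimal groups for a group acting on a module.

The weight of a subgroup `Y` is `|Y| · |fix Y|`; it is supermodular.  A minimal offender is a nontrivial
quadratic subgroup of weight at least `|V|` whose proper nontrivial subgroups have weight below `|V|`.
-/

set_option autoImplicit false

namespace CfsgLib.FFCells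

open Subgroup CfsgLib.SL2Recognition
open scoped Pointwise

variable {P V : Type*} [Group P] [AddCommGroup V] (σ : P →* AddMonoid.End V)

/-- The weight. -/
noncomputable def wt (Y : Subgroup P) : ℕ := Nat.card Y * Nat.card (fix σ Y)

/-- A minimal offender. -/
structure IsMinOff (A : Subgroup P) : Prop where
  ne_bot : A ≠ ⊥
  quad : ∀ a ∈ A, ∀ b ∈ A, ∀ v, σ a (σ b v - v) = σ b v - v
  le : Nat.card V ≤ wt σ A
  strict : ∀ A₀ : Subgroup P, A₀ ≤ A → A₀ ≠ ⊥ → A₀ ≠ A → wt σ A₀ < Nat.card V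

/-- `X` and `Y` commute and fix each other's commutators with `V`. -/
def Orth (X Y : Subgroup P) : Prop :=
  ∀ x ∈ X, ∀ y ∈ Y, ∀ v : V, σ x (σ y v - v) = σ y v - v ∧ σ y (σ x v - v) = σ x v - v

/-- A `p`-minimal group: every proper subgroup over `T` lies in `M`. -/
structure PMin {p : ℕ} (T : Sylow p P) (M : Subgroup P) : Prop where
  le : (T : Subgroup P) ≤ M
  ne_top : M ≠ ⊤
  uniq : ∀ X : Subgroup P, (T : Subgroup P) ≤ X → X ≠ ⊤ → X ≤ M

/-- The conjugate of `H` by `g`. -/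
abbrev cj (g : P) (H : Subgroup P) : Subgroup P := H.map (MulAut.conj g).toMonoidHom

variable {σ}

theorem mem_cj {g : P} {H : Subgroup P} {x : P} : x ∈ cj g H ↔ g⁻¹ * x * g ∈ H :=
  ⟨fun ⟨h, hh, e⟩ => by rw [← e]; simpa [mul_assoc] using hh,
    fun h => ⟨_, h, by simp [mul_assoc]⟩⟩

theorem conj_mem_cj {g : P} {H : Subgroup P} {x : P} (h : x ∈ H) : g * x * g⁻¹ ∈ cj g H :=
  mem_cj.2 (by simpa [mul_assoc] using h)

theorem cj_one (H : Subgroup P) : cj 1 H = H := SetLike.ext fun x => by simp [mem_cj]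

theorem cj_cj (g h : P) (H : Subgroup P) : cj g (cj h H) = cj (g * h) H :=
  SetLike.ext fun x => by simp [mem_cj, mul_assoc]

theorem cj_inv_cj (g : P) (H : Subgroup P) : cj g⁻¹ (cj g H) = H := by
  rw [cj_cj, inv_mul_cancel, cj_one]

theorem cj_cj_inv (g : P) (H : Subgroup P) : cj g (cj g⁻¹ H) = H := by
  rw [cj_cj, mul_inv_cancel, cj_one]

theorem cj_mono {g : P} {H K : Subgroup P} (h : H ≤ K) : cj g H ≤ cj g K := map_mono h

theorem cj_le_iff {g : P} {H K : Subgroup P} : cj g H ≤ K ↔ H ≤ cj g⁻¹ K :=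
  ⟨fun h => by simpa [cj_inv_cj] using cj_mono (g := g⁻¹) h,
    fun h => by simpa [cj_cj_inv] using cj_mono (g := g) h⟩

theorem cj_le_of_mem {g : P} {H : Subgroup P} (hg : g ∈ H) : cj g H ≤ H := fun x hx => by
  simpa [mul_assoc] using mul_mem (mul_mem hg (mem_cj.1 hx)) (inv_mem hg)

theorem cj_eq_self [Finite P] {g : P} {H : Subgroup P} :
    cj g H = H ↔ g ∈ normalizer (H : Set P) :=
  mem_normalizer_iff_map_conj_eq.symm

theorem mem_normalizer_of_cj_le [Finite P] {g : P} {H : Subgroup P} (h : cj g H ≤ H) :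
    g ∈ normalizer (H : Set P) :=
  cj_eq_self.1 (eq_of_le_of_card_ge h (card_map_of_injective (MulAut.conj g).injective).ge)

theorem card_cj (g : P) (H : Subgroup P) : Nat.card (cj g H) = Nat.card H :=
  card_map_of_injective (MulAut.conj g).injective

theorem mem_fix_cj {H : Subgroup P} {g : P} {v : V} :
    v ∈ fix σ (cj g H) ↔ σ g⁻¹ v ∈ fix σ H := mem_fix_conj σ

theorem card_fix_cj (g : P) (H : Subgroup P) :
    Nat.card (fix σ (cj g H)) = Nat.card (fix σ H) :=
  Nat.card_congr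
    { toFun := fun v => ⟨σ g⁻¹ v.1, mem_fix_cj.1 v.2⟩
      invFun := fun v => ⟨σ g v.1, mem_fix_cj.2 (by rw [apply_inv_apply]; exact v.2)⟩
      left_inv := fun v => Subtype.ext (apply_apply_inv σ g v.1)
      right_inv := fun v => Subtype.ext (apply_inv_apply σ g v.1) }

theorem wt_cj (g : P) (H : Subgroup P) : wt σ (cj g H) = wt σ H := by
  rw [wt, wt, card_cj, card_fix_cj]

theorem fix_bot : fix σ ⊥ = ⊤ := eq_top_iff.2 fun v _ g hg => by rw [mem_bot.1 hg, apply_one]

theorem wt_bot : wt σ ⊥ = Nat.card V := by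
  rw [wt, fix_bot, AddSubgroup.card_top, card_bot, one_mul]

theorem fix_sup (Y Z : Subgroup P) : fix σ (Y ⊔ Z) = fix σ Y ⊓ fix σ Z := by
  refine le_antisymm (le_inf (fix_anti σ le_sup_left) (fix_anti σ le_sup_right)) fun v hv => ?_
  let S : Subgroup P :=
    { carrier := {g | σ g v = v}
      one_mem' := apply_one σ v
      mul_mem' := fun {g k} hg hk => by
        show σ (g * k) v = v
        rw [apply_mul, show σ k v = v from hk, show σ g v = v from hg]
      inv_mem' := fun {g} hg => by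
        show σ g⁻¹ v = v
        conv_lhs => rw [← show σ g v = v from hg]
        rw [apply_inv_apply] }
  exact fun g hg => (sup_le (c := S) (fun y hy => hv.1 y hy) (fun z hz => hv.2 z hz)) hg

theorem fix_iSup {ι : Type*} (Y : ι → Subgroup P) {v : V} (h : ∀ i, v ∈ fix σ (Y i)) :
    v ∈ fix σ (⨆ i, Y i) := by
  let S : Subgroup P :=
    { carrier := {g | σ g v = v}
      one_mem' := apply_one σ v
      mul_mem' := fun {g k} hg hk => by
        show σ (g * k) v = v
        rw [apply_mul, show σ k v = v from hk, show σ g v = v from hg]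
      inv_mem' := fun {g} hg => by
        show σ g⁻¹ v = v
        conv_lhs => rw [← show σ g v = v from hg]
        rw [apply_inv_apply] }
  exact fun g hg => (iSup_le (a := S) (fun i y hy => h i y hy)) hg

theorem sup_le_fix_inf (Y Z : Subgroup P) : fix σ Y ⊔ fix σ Z ≤ fix σ (Y ⊓ Z) :=
  sup_le (fix_anti σ inf_le_left) (fix_anti σ inf_le_right)

/-- Supermodularity of the weight. -/
theorem wt_mul_le [Finite P] [Finite V] (Y Z : Subgroup P) :
    wt σ Y * wt σ Z ≤ wt σ (Y ⊔ Z) * wt σ (Y ⊓ Z) := by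
  have h1 := CfsgLib.LocalEvenBasic.card_mul_le_inf_mul_sup Y Z
  have h2 := card_sup_mul_inf (fix σ Y) (fix σ Z)
  rw [← fix_sup] at h2
  have h3 : Nat.card ↥(fix σ Y ⊔ fix σ Z) ≤ Nat.card (fix σ (Y ⊓ Z)) :=
    Nat.card_le_card_of_injective _ (AddSubgroup.inclusion_injective (sup_le_fix_inf Y Z))
  calc wt σ Y * wt σ Z
      = Nat.card Y * Nat.card Z * (Nat.card (fix σ Y) * Nat.card (fix σ Z)) := by rw [wt, wt]; ring
    _ ≤ Nat.card ↥(Y ⊓ Z) * Nat.card ↥(Y ⊔ Z) *
        (Nat.card (fix σ (Y ⊓ Z)) * Nat.card (fix σ (Y ⊔ Z))) := by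
          rw [← h2]; gcongr
    _ = _ := by rw [wt, wt]; ring

theorem wt_pos [Finite P] [Finite V] (Y : Subgroup P) : 0 < wt σ Y :=
  Nat.mul_pos Nat.card_pos Nat.card_pos

theorem apply_sub_add (g : P) (v : V) : σ g v = (σ g v - v) + v := (sub_add_cancel _ _).symm

theorem commute_of_fix (hinj : Function.Injective σ) {x y : P}
    (h1 : ∀ v : V, σ x (σ y v - v) = σ y v - v) (h2 : ∀ v : V, σ y (σ x v - v) = σ x v - v) :
    Commute x y := by
  refine hinj (AddMonoidHom.ext fun v => ?_)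
  show σ (x * y) v = σ (y * x) v
  rw [apply_mul, apply_mul, ← sub_add_cancel (σ y v) v, ← sub_add_cancel (σ x v) v, map_add,
    map_add, h1, h2]
  abel

theorem fix_of_commute {x y : P} (hc : Commute x y) {v : V}
    (h : σ x (σ y v - v) = σ y v - v) : σ y (σ x v - v) = σ x v - v := by
  have e : σ (y * x) v = σ (x * y) v := by rw [hc.eq]
  rw [apply_mul, apply_mul, ← sub_add_cancel (σ y v) v, map_add, h] at e
  rw [map_sub, e]
  abel

theorem Orth.symm {X Y : Subgroup P} (h : Orth σ X Y) : Orth σ Y X :=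
  fun y hy x hx v => (h x hx y hy v).symm

theorem Orth.mono {X X' Y Y' : Subgroup P} (h : Orth σ X Y) (hX : X' ≤ X) (hY : Y' ≤ Y) :
    Orth σ X' Y' := fun x hx y hy => h x (hX hx) y (hY hy)

theorem Orth.commute (hinj : Function.Injective σ) {X Y : Subgroup P} (h : Orth σ X Y) {x y : P}
    (hx : x ∈ X) (hy : y ∈ Y) : Commute x y :=
  commute_of_fix hinj (fun v => (h x hx y hy v).1) (fun v => (h x hx y hy v).2)

theorem Orth.le_centralizer (hinj : Function.Injective σ) {X Y : Subgroup P} (h : Orth σ X Y) :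
    X ≤ centralizer (Y : Set P) :=
  fun _ hx => mem_centralizer_iff.2 fun _ hy => (h.commute hinj hx hy).eq.symm

theorem Orth.apply_eq {X Y : Subgroup P} (h : Orth σ X Y) {x y : P} (hx : x ∈ X) (hy : y ∈ Y)
    (v : V) : σ x (σ y v) = σ x v + (σ y v - v) := by
  conv_lhs => rw [← sub_add_cancel (σ y v) v]
  rw [map_add, (h x hx y hy v).1]
  abel

theorem Orth.map_cj {X Y : Subgroup P} (h : Orth σ X Y) (g : P) :
    Orth σ (cj g X) (cj g Y) := by
  rintro _ ⟨x, hx, rfl⟩ _ ⟨y, hy, rfl⟩ v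
  show σ (g * x * g⁻¹) (σ (g * y * g⁻¹) v - v) = σ (g * y * g⁻¹) v - v ∧
    σ (g * y * g⁻¹) (σ (g * x * g⁻¹) v - v) = σ (g * x * g⁻¹) v - v
  have e : ∀ z : P, σ (g * z * g⁻¹) v - v = σ g (σ z (σ g⁻¹ v) - σ g⁻¹ v) := fun z => by
    rw [map_sub, apply_mul, apply_mul, apply_apply_inv]
  constructor
  · rw [e, apply_mul, apply_mul, apply_inv_apply, (h x hx y hy _).1]
  · rw [e, apply_mul, apply_mul, apply_inv_apply, (h x hx y hy _).2]

/-- The elements orthogonal to `X` form a subgroup. -/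
def orthGroup (σ : P →* AddMonoid.End V) (hinj : Function.Injective σ) (X : Subgroup P) :
    Subgroup P where
  carrier := {y | ∀ x ∈ X, ∀ v : V, σ x (σ y v - v) = σ y v - v ∧ σ y (σ x v - v) = σ x v - v}
  one_mem' := fun x _ v => by simp [apply_one]
  mul_mem' := fun {y z} hy hz x hx v => by
    constructor
    · have e : σ (y * z) v - v = (σ y (σ z v) - σ z v) + (σ z v - v) := by rw [apply_mul]; abel
      rw [e, map_add, (hy x hx _).1, (hz x hx v).1]
    · rw [apply_mul, (hz x hx v).2, (hy x hx v).2]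
  inv_mem' := fun {y} hy x hx v => by
    have hc : Commute x y :=
      commute_of_fix hinj (fun w => (hy x hx w).1) (fun w => (hy x hx w).2)
    have h2 : σ y⁻¹ (σ x v - v) = σ x v - v := by
      conv_lhs => rw [← (hy x hx v).2]
      rw [apply_inv_apply]
    exact ⟨fix_of_commute hc.inv_right.symm h2, h2⟩

theorem orth_iff_le_orthGroup (hinj : Function.Injective σ) {X Y : Subgroup P} :
    Orth σ X Y ↔ Y ≤ orthGroup σ hinj X :=
  ⟨fun h y hy x hx v => h x hx y hy v, fun h x hx y hy v => h hy x hx v⟩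

theorem Orth.sup_right (hinj : Function.Injective σ) {X Y Z : Subgroup P} (h1 : Orth σ X Y)
    (h2 : Orth σ X Z) : Orth σ X (Y ⊔ Z) :=
  (orth_iff_le_orthGroup hinj).2
    (sup_le ((orth_iff_le_orthGroup hinj).1 h1) ((orth_iff_le_orthGroup hinj).1 h2))

theorem Orth.iSup_right (hinj : Function.Injective σ) {ι : Type*} {X : Subgroup P}
    {Y : ι → Subgroup P} (h : ∀ i, Orth σ X (Y i)) : Orth σ X (⨆ i, Y i) :=
  (orth_iff_le_orthGroup hinj).2 (iSup_le fun i => (orth_iff_le_orthGroup hinj).1 (h i))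

theorem orth_bot (X : Subgroup P) : Orth σ X ⊥ := fun x _ y hy v => by
  rw [mem_bot.1 hy]; simp [apply_one]

namespace IsMinOff

variable {A : Subgroup P}

theorem commute (hinj : Function.Injective σ) (h : IsMinOff σ A) {a b : P} (ha : a ∈ A)
    (hb : b ∈ A) : Commute a b :=
  commute_of_fix hinj (h.quad a ha b hb) (h.quad b hb a ha)

theorem pow_eq_one {p : ℕ} (hinj : Function.Injective σ) (hp0 : ∀ v : V, p • v = 0)
    (h : IsMinOff σ A) {a : P} (ha : a ∈ A) : a ^ p = 1 := by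
  refine hinj (AddMonoidHom.ext fun v => ?_)
  show σ (a ^ p) v = σ 1 v
  have hk : ∀ k : ℕ, σ (a ^ k) v = v + k • (σ a v - v) := by
    intro k
    induction k with
    | zero => simp [apply_one]
    | succ k ih =>
      rw [pow_succ', apply_mul, ih, map_add, map_nsmul, h.quad a ha a ha v, succ_nsmul]; abel
  rw [hk, hp0, add_zero, apply_one]

theorem elementary {p : ℕ} (hinj : Function.Injective σ) (hp0 : ∀ v : V, p • v = 0)
    (h : IsMinOff σ A) : Cfsg.IsElementaryAbelian p A :=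
  ⟨⟨⟨fun a b => Subtype.ext (h.commute hinj a.2 b.2)⟩⟩, fun _ ha => h.pow_eq_one hinj hp0 ha⟩

theorem isPGroup {p : ℕ} (hinj : Function.Injective σ) (hp0 : ∀ v : V, p • v = 0)
    (h : IsMinOff σ A) : IsPGroup p A :=
  fun a => ⟨1, Subtype.ext (by
    show (a : P) ^ p ^ 1 = 1
    rw [pow_one]; exact h.pow_eq_one hinj hp0 a.2)⟩

theorem map_cj (h : IsMinOff σ A) (g : P) : IsMinOff σ (cj g A) where
  ne_bot e := h.ne_bot ((map_eq_bot_iff_of_injective _ (MulAut.conj g).injective).1 e)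
  quad := by
    rintro _ ⟨a, ha, rfl⟩ _ ⟨b, hb, rfl⟩ v
    show σ (g * a * g⁻¹) (σ (g * b * g⁻¹) v - v) = σ (g * b * g⁻¹) v - v
    have e : σ (g * b * g⁻¹) v - v = σ g (σ b (σ g⁻¹ v) - σ g⁻¹ v) := by
      rw [map_sub, apply_mul, apply_mul, apply_apply_inv]
    rw [e, apply_mul, apply_mul, apply_inv_apply, h.quad a ha b hb]
  le := by rw [wt_cj]; exact h.le
  strict A₀ h1 h2 h3 := by
    rw [← wt_cj g⁻¹ A₀]
    refine h.strict _ ?_ ?_ ?_
    · simpa [cj_inv_cj] using cj_mono (g := g⁻¹) h1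
    · exact fun e => h2 (by rw [← cj_cj_inv g A₀, e]; exact Subgroup.map_bot _)
    · exact fun e => h3 (by rw [← cj_cj_inv g A₀, e])

end IsMinOff

/-- An elementary abelian offender contains a minimal one. -/
theorem exists_minOff [Finite P] [Finite V] {p : ℕ} [Fact p.Prime] (hinj : Function.Injective σ)
    (hp0 : ∀ v : V, p • v = 0) {A : Subgroup P} (hA : Cfsg.IsElementaryAbelian p A) (h1 : A ≠ ⊥)
    (hle : Nat.card V ≤ wt σ A) : ∃ B ≤ A, IsMinOff σ B := by
  classical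
  obtain ⟨B, ⟨hBA, hB1, hBle⟩, hmin⟩ := Set.exists_min_image
    {B : Subgroup P | B ≤ A ∧ B ≠ ⊥ ∧ Nat.card V ≤ wt σ B} (fun B => Nat.card B) (Set.toFinite _)
    ⟨A, le_rfl, h1, hle⟩
  have hBel : Cfsg.IsElementaryAbelian p B :=
    ⟨⟨⟨fun x y => Subtype.ext (congrArg Subtype.val
        (hA.1.1.1 ⟨x, hBA x.2⟩ ⟨y, hBA y.2⟩) :)⟩⟩, fun b hb => hA.2 b (hBA hb)⟩
  have hstrict : ∀ A₀ : Subgroup P, A₀ ≤ B → A₀ ≠ ⊥ → A₀ ≠ B → wt σ A₀ < Nat.card V := by
    intro A₀ g1 g2 g3
    by_contra hlt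
    exact g3 (eq_of_le_of_card_ge g1 (hmin A₀ ⟨g1.trans hBA, g2, not_lt.1 hlt⟩))
  have hbest : ∀ B' : Subgroup P, B' ≤ B →
      Nat.card B' * Nat.card {v : V // ∀ b ∈ B', σ b v = v} ≤
        Nat.card B * Nat.card {v : V // ∀ a ∈ B, σ a v = v} := by
    intro B' hB'
    show wt σ B' ≤ wt σ B
    rcases eq_or_ne B' ⊥ with rfl | h2
    · rw [wt_bot]; exact hBle
    rcases eq_or_ne B' B with rfl | h3
    · exact le_rfl
    exact ((hstrict B' hB' h2 h3).le).trans hBle
  obtain ⟨s1, s2⟩ := CfsgLib.PGV.replace_spec σ hp0 hBel hbest (T := ⊤) fun _ _ _ _ => trivial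
  set Q := CfsgLib.PGV.replace σ (⊤ : AddSubgroup V) B with hQ
  have hwQ : Nat.card V ≤ wt σ Q := by
    have h := s1 ⊥ bot_le (fun d hd t _ => by rw [mem_bot.1 hd, apply_one])
    rw [AddSubgroup.card_top, card_bot, mul_one] at h
    refine h.trans_eq (congrArg (Nat.card Q * ·) (Nat.card_congr ?_))
    exact ⟨fun t => ⟨t.1.1, t.2⟩, fun v => ⟨⟨v.1, trivial⟩, v.2⟩, fun _ => rfl, fun _ => rfl⟩
  have hQB : Q = B := by
    by_cases hQ1 : Q = ⊥
    · exfalso
      refine hB1 ((Subgroup.eq_bot_iff_forall _).2 fun a ha => hinj (AddMonoidHom.ext fun v => ?_))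
      show σ a v = σ 1 v
      rw [apply_one]
      refine s2 (fun q hq t _ => ?_) a ha v trivial
      change q ∈ Q at hq
      rw [hQ1, mem_bot] at hq
      rw [hq, apply_one]
    · by_contra h
      exact absurd hwQ (not_le.2 (hstrict Q (CfsgLib.PGV.replace_le σ _ _) hQ1 h))
  refine ⟨B, hBA, hB1, fun a ha b hb v => ?_, hBle, hstrict⟩
  have hmem : v - σ b v ∈ CfsgLib.PGV.commSpace σ (⊤ : AddSubgroup V) B :=
    AddSubgroup.subset_closure ⟨v, trivial, b, hb, rfl⟩
  have := CfsgLib.PGV.fixed_of_mem_replace σ (q := a) (by rw [← hQ, hQB]; exact ha) hmem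
  rw [← neg_sub (σ b v) v, map_neg, neg_inj] at this
  exact this

section PMin

variable [Finite P] {p : ℕ} [Fact p.Prime] {T : Sylow p P} {M : Subgroup P}

theorem PMin.eq_top (h : PMin T M) {X : Subgroup P} (hT : (T : Subgroup P) ≤ X) (hX : ¬ X ≤ M) :
    X = ⊤ := by_contra fun hne => hX (h.uniq X hT hne)

/-- Normaliser growth inside a `p`-group. -/
theorem exists_mem_normalizer_notMem {Y Y₀ : Subgroup P} (hY : IsPGroup p Y) (hle : Y₀ ≤ Y)
    (hne : Y₀ ≠ Y) : ∃ y ∈ Y, y ∉ Y₀ ∧ y ∈ normalizer (Y₀ : Set P) := by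
  haveI : Group.IsNilpotent Y := hY.isNilpotent
  have hlt : Y₀.subgroupOf Y < ⊤ :=
    lt_top_iff_ne_top.2 fun h => hne (le_antisymm hle (subgroupOf_eq_top.1 h))
  obtain ⟨s, hs, hsn⟩ := SetLike.exists_of_lt (Group.normalizerCondition_of_isNilpotent _ hlt)
  refine ⟨s, s.2, fun h => hsn (mem_subgroupOf.2 h), ?_⟩
  rw [← subgroupOf_normalizer_eq hle] at hs
  exact hs

/-- Every `p`-subgroup of `M` has a conjugate under `M` inside `T`. -/
theorem PMin.exists_cj_le (h : PMin T M) {Y : Subgroup P} (hY : IsPGroup p Y) (hYM : Y ≤ M) :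
    ∃ m ∈ M, cj m Y ≤ (T : Subgroup P) := by
  obtain ⟨Q, hQ⟩ := (hY.comap_subtype (K := M)).exists_le_sylow
  obtain ⟨m, hm⟩ := MulAction.exists_smul_eq M Q (T.subtype h.le)
  refine ⟨m, m.2, fun y hy => ?_⟩
  obtain ⟨x, hx, rfl⟩ := hy
  have hx' : (⟨x, hYM hx⟩ : M) ∈ (Q : Subgroup M) := hQ hx
  have h2 : m * ⟨x, hYM hx⟩ * m⁻¹ ∈ ((T.subtype h.le : Sylow p M) : Subgroup M) := by
    rw [← hm, Sylow.coe_subgroup_smul, mem_pointwise_smul_iff_inv_smul_mem]
    simpa [MulAut.smul_def, mul_assoc] using hx'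
  simpa [mem_subgroupOf] using h2

theorem PMin.normalizer_le (h : PMin T M) (hT : ¬ (T : Subgroup P).Normal) :
    normalizer ((T : Subgroup P) : Set P) ≤ M :=
  h.uniq _ le_normalizer fun e => hT (normalizer_eq_top_iff.1 e)

/-- A normal subgroup inside `M` meets `T` in a normal subgroup. -/
theorem PMin.inf_normal_le (h : PMin T M) (N : Subgroup P) [N.Normal] (hNM : N ≤ M) :
    ((T : Subgroup P) ⊓ N).Normal := by
  obtain ⟨Q, hQ⟩ := CfsgLib.LocalEvenBasic.exists_sylow_map_eq_inf T N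
  have hF := Sylow.normalizer_sup_eq_top Q
  rw [hQ] at hF
  set R := (T : Subgroup P) ⊓ N
  have hTR : (T : Subgroup P) ≤ normalizer (R : Set P) := fun t ht =>
    mem_normalizer_of_cj_le (le_inf ((cj_mono inf_le_left).trans (cj_le_of_mem ht))
      (by rintro _ ⟨x, hx, rfl⟩; exact Normal.conj_mem inferInstance x hx.2 t))
  refine normalizer_eq_top_iff.1 (h.eq_top hTR fun hle => h.ne_top ?_)
  exact top_le_iff.1 (hF ▸ sup_le hle hNM)

theorem PMin.inf_normal_eq_bot (h : PMin T M)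
    (hOp : ∀ N : Subgroup P, N.Normal → IsPGroup p N → N = ⊥) (N : Subgroup P) [N.Normal]
    (hNM : N ≤ M) : (T : Subgroup P) ⊓ N = ⊥ :=
  hOp _ (h.inf_normal_le N hNM) (T.isPGroup'.to_le inf_le_left)

/-- A normal `p`-subgroup lies in every Sylow subgroup. -/
theorem normal_le_sylow (N : Subgroup P) [N.Normal] (hN : IsPGroup p N) :
    N ≤ (T : Subgroup P) :=
  le_sup_right.trans (T.is_maximal' (T.isPGroup'.to_sup_of_normal_right hN) le_sup_left).le

theorem PMin.le_stabilizer (h : PMin T M) {z : V} (hz : z ∈ fix σ (T : Subgroup P))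
    (hz0 : z ∉ fix σ ⊤) {g : P} (hg : σ g z = z) : g ∈ M := by
  let S : Subgroup P :=
    { carrier := {g | σ g z = z}
      one_mem' := apply_one σ z
      mul_mem' := fun {g k} hg hk => by
        show σ (g * k) z = z
        rw [apply_mul, show σ k z = z from hk, show σ g z = z from hg]
      inv_mem' := fun {g} hg => by
        show σ g⁻¹ z = z
        conv_lhs => rw [← show σ g z = z from hg]
        rw [apply_inv_apply] }
  exact h.uniq S (fun t ht => hz t ht) (fun e => hz0 fun g _ => (show g ∈ S from e ▸ mem_top g)) hg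

/-- Some fixed vector of each `p`-subgroup of `M` is centralised only inside `M`. -/
theorem PMin.exists_fix (h : PMin T M) {z : V} (hz : z ∈ fix σ (T : Subgroup P))
    (hz0 : z ∉ fix σ ⊤) {Y : Subgroup P} (hY : IsPGroup p Y) (hYM : Y ≤ M) :
    ∃ v ∈ fix σ Y, ∀ g, σ g v = v → g ∈ M := by
  obtain ⟨m, hm, hle⟩ := h.exists_cj_le hY hYM
  refine ⟨σ m⁻¹ z, ?_, fun g hg => ?_⟩
  · have h1 : z ∈ fix σ (cj m Y) := fix_anti σ hle hz
    exact mem_fix_cj.1 h1
  · have h2 : σ (m * g * m⁻¹) z = z := by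
      rw [apply_mul, apply_mul, hg, apply_apply_inv]
    have := h.le_stabilizer hz hz0 h2
    simpa [mul_assoc] using mul_mem (mul_mem (inv_mem hm) this) hm

end PMin

end CfsgLib.FFCells
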