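import Cfsg.Agent.FFCells.Basic
import Cfsg.Agent.WeakClosed.TorusCore
import Cfsg.Agent.LocalEven50.PSL2Gen

/-!
Cells: a root group `B` inside `L ≅ SL₂(q)` with `V / fix L` the natural module and `B` the upper unitriangular
group, fixing the full preimage of the fixed line.
-/

set_option autoImplicit false

namespace CfsgLib.FFCells

open Subgroup Matrix CfsgLib.SL2Recognition CfsgLib.Linear
open scoped MatrixGroups

variable {P V : Type*} [Group P] [AddCommGroup V] {σ : P →* AddMonoid.End V}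

/-- Coordinates of a cell. -/
structure CellData (σ : P →* AddMonoid.End V) (B L : Subgroup P) where
  F : Type
  [fld : Field F]
  [fin : Fintype F]
  φ : L ≃* SL(2, F)
  ψ : V →+ (Fin 2 → F)
  le : B ≤ L
  surj : Function.Surjective ψ
  ker : ∀ v, ψ v = 0 ↔ v ∈ fix σ L
  equiv : ∀ (g : L) (v : V), ψ (σ g v) = (φ g).1 *ᵥ ψ v
  root : ∀ g : L, (g : P) ∈ B ↔ ∃ t, φ g = upperUni t
  fixB : ∀ v, ψ v 1 = 0 → v ∈ fix σ B

attribute [instance] CellData.fld CellData.fin

/-- `(B, L)` is a cell. -/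
def IsCell (σ : P →* AddMonoid.End V) (B L : Subgroup P) : Prop := Nonempty (CellData σ B L)

namespace CellData

variable {B L : Subgroup P} (D : CellData σ B L)
include D

/-- The root element with parameter `t`. -/
def u (t : D.F) : P := (D.φ.symm (upperUni t) : L)

/-- The opposite root element with parameter `t`. -/
def low (t : D.F) : P := (D.φ.symm (lowerUni t) : L)

theorem u_memL (t : D.F) : D.u t ∈ L := SetLike.coe_mem _

theorem low_mem (t : D.F) : D.low t ∈ L := SetLike.coe_mem _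

theorem u_mem (t : D.F) : D.u t ∈ B :=
  (D.root _).2 ⟨t, D.φ.apply_symm_apply _⟩

theorem exists_u {b : P} (hb : b ∈ B) : ∃ t, D.u t = b := by
  obtain ⟨t, ht⟩ := (D.root ⟨b, D.le hb⟩).1 hb
  exact ⟨t, congrArg Subtype.val ((congrArg D.φ.symm ht.symm).trans (D.φ.symm_apply_apply _))⟩

theorem u_injective : Function.Injective D.u := fun _ _ h =>
  upperUni_injective (D.φ.symm.injective (Subtype.ext h : D.φ.symm (upperUni _) = D.φ.symm (upperUni _)))

theorem u_ne_one {t : D.F} (ht : t ≠ 0) : D.u t ≠ 1 := by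
  intro h
  apply ht
  have h0 : D.u 0 = 1 := by
    show ((D.φ.symm (upperUni 0) : L) : P) = 1
    rw [upperUni, Matrix.SpecialLinearGroup.transvection_coeff_zero, map_one]; rfl
  exact D.u_injective (h.trans h0.symm)

theorem ψ_u (t : D.F) (v : V) : D.ψ (σ (D.u t) v) = ![D.ψ v 0 + t * D.ψ v 1, D.ψ v 1] := by
  rw [u, D.equiv, D.φ.apply_symm_apply, upperUni_mulVec]

theorem ψ_low (t : D.F) (v : V) : D.ψ (σ (D.low t) v) = ![D.ψ v 0, D.ψ v 1 + t * D.ψ v 0] := by
  rw [low, D.equiv, D.φ.apply_symm_apply, lowerUni_val]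
  ext i; fin_cases i <;> simp [mulVec, dotProduct, Fin.sum_univ_two] <;> ring

theorem mem_fix_iff {v : V} : v ∈ fix σ B ↔ D.ψ v 1 = 0 := by
  refine ⟨fun h => ?_, D.fixB v⟩
  have h1 := congrFun (D.ψ_u 1 v) 0
  rw [h _ (D.u_mem 1)] at h1
  simpa using h1

theorem ψ_apply_sub (t : D.F) (v : V) :
    D.ψ (σ (D.u t) v - v) = ![t * D.ψ v 1, 0] := by
  rw [map_sub, D.ψ_u]; ext i; fin_cases i <;> simp

theorem ψ_low_sub (t : D.F) (v : V) :
    D.ψ (σ (D.low t) v - v) = ![0, t * D.ψ v 0] := by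
  rw [map_sub, D.ψ_low]; ext i; fin_cases i <;> simp

theorem apply_sub_mem_fix {b : P} (hb : b ∈ B) (v : V) : σ b v - v ∈ fix σ B := by
  obtain ⟨t, rfl⟩ := D.exists_u hb
  rw [D.mem_fix_iff, D.ψ_apply_sub]; rfl

/-- A nontrivial root element moving `v` only modulo `fix L` lies in `fix B`. -/
theorem moved {b : P} (hb : b ∈ B) (h1 : b ≠ 1) {v : V} (h : σ b v - v ∈ fix σ L) :
    v ∈ fix σ B := by
  obtain ⟨t, rfl⟩ := D.exists_u hb
  have ht : t ≠ 0 := by
    rintro rfl
    refine h1 ?_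
    show ((D.φ.symm (upperUni 0) : L) : P) = 1
    rw [upperUni, Matrix.SpecialLinearGroup.transvection_coeff_zero, map_one]; rfl
  have h2 := congrFun ((D.ker _).2 h) 0
  rw [D.ψ_apply_sub] at h2
  exact D.mem_fix_iff.2 ((mul_eq_zero.1 (by simpa using h2)).resolve_left ht)

theorem semireg {b : P} (hb : b ∈ B) (h1 : b ≠ 1) {v : V} (h : σ b v = v) : v ∈ fix σ B :=
  D.moved hb h1 (by rw [h, sub_self]; exact zero_mem _)

theorem quad : ∀ a ∈ B, ∀ b ∈ B, ∀ v, σ a (σ b v - v) = σ b v - v :=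
  fun a ha _ hb v => D.apply_sub_mem_fix hb v a ha

theorem fix_le : fix σ L ≤ fix σ B := fix_anti σ D.le

theorem card_root : Nat.card B = Nat.card D.F :=
  (Nat.card_congr (Equiv.ofBijective (fun t => (⟨D.u t, D.u_mem t⟩ : B))
    ⟨fun a b h => D.u_injective (by simpa using h),
      fun b => (D.exists_u b.2).imp fun _ ht => Subtype.ext ht⟩)).symm

theorem card_eq_mul_fix [Finite V] : Nat.card V = Nat.card B * Nat.card (fix σ B) := by
  let f : V →+ D.F := (Pi.evalAddMonoidHom (fun _ => D.F) 1).comp D.ψ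
  have hf : Function.Surjective f := fun t => (D.surj ![0, t]).imp fun v hv => by simp [f, hv]
  have e : f.ker = fix σ B := AddSubgroup.ext fun v => by
    rw [D.mem_fix_iff, AddMonoidHom.mem_ker]; rfl
  rw [AddSubgroup.card_eq_card_quotient_mul_card_addSubgroup f.ker,
    Nat.card_congr (QuotientAddGroup.quotientKerEquivOfSurjective f hf).toEquiv, e, D.card_root]

theorem card_fix_root [Finite V] : Nat.card (fix σ B) = Nat.card B * Nat.card (fix σ L) := by
  let f : fix σ B →+ D.F := ((Pi.evalAddMonoidHom (fun _ => D.F) 0).comp D.ψ).comp (fix σ B).subtype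
  have hf : Function.Surjective f := fun t => by
    obtain ⟨v, hv⟩ := D.surj ![t, 0]
    exact ⟨⟨v, D.mem_fix_iff.2 (by rw [hv]; rfl)⟩, by simp [f, hv]⟩
  have e : f.ker = (fix σ L).addSubgroupOf (fix σ B) := AddSubgroup.ext fun v => by
    rw [AddMonoidHom.mem_ker, AddSubgroup.mem_addSubgroupOf, ← D.ker]
    have hy := D.mem_fix_iff.1 v.2
    refine ⟨fun h => funext fun i => ?_, fun h => by simp [f, h]⟩
    fin_cases i
    · exact h
    · exact hy
  rw [AddSubgroup.card_eq_card_quotient_mul_card_addSubgroup f.ker,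
    Nat.card_congr (QuotientAddGroup.quotientKerEquivOfSurjective f hf).toEquiv, e,
    Nat.card_congr (AddSubgroup.addSubgroupOfEquivOfLe D.fix_le).toEquiv, D.card_root]

theorem wt_root [Finite V] : wt σ B = Nat.card V := D.card_eq_mul_fix.symm

theorem isMinOff [Finite P] [Finite V] : IsMinOff σ B where
  ne_bot e := by
    have := mem_bot.1 (e.le (D.u_mem 1))
    exact D.u_ne_one one_ne_zero this
  quad := D.quad
  le := D.wt_root.ge
  strict A₀ h1 h2 h3 := by
    obtain ⟨b, hb, hb1⟩ := A₀.bot_or_exists_ne_one.resolve_left h2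
    have e : fix σ A₀ = fix σ B :=
      le_antisymm (fun v hv => D.semireg (h1 hb) hb1 (hv b hb)) (fix_anti σ h1)
    rw [← D.wt_root, wt, wt, e]
    refine Nat.mul_lt_mul_of_pos_right ?_ Nat.card_pos
    exact lt_of_not_ge fun hge => h3 (eq_of_le_of_card_ge h1 hge)

theorem charP {p : ℕ} [Fact p.Prime] (hp0 : ∀ v : V, p • v = 0) : CharP D.F p := by
  refine (CharP.charP_iff_prime_eq_zero Fact.out).2 ?_
  obtain ⟨v, hv⟩ := D.surj ![1, 0]
  have := congrFun (congrArg D.ψ (hp0 v)) 0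
  simpa [hv] using this

/-- An element of `L` with lower left entry `0` normalises the root. -/
theorem mem_normalizer_of_apply [Finite P] {x : P} (hx : x ∈ L)
    (h : (D.φ ⟨x, hx⟩).1 1 0 = 0) : x ∈ normalizer (B : Set P) := by
  refine mem_normalizer_of_cj_le ?_
  rintro _ ⟨b, hb, rfl⟩
  obtain ⟨t, rfl⟩ := D.exists_u hb
  show x * D.u t * x⁻¹ ∈ B
  set g := D.φ ⟨x, hx⟩ with hg
  refine (D.root ⟨_, mul_mem (mul_mem hx (D.u_memL t)) (inv_mem hx)⟩).2 ⟨g.1 0 0 * g.1 0 0 * t, ?_⟩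
  have e : (⟨x * D.u t * x⁻¹, mul_mem (mul_mem hx (D.u_memL t)) (inv_mem hx)⟩ : L) =
      ⟨x, hx⟩ * D.φ.symm (upperUni t) * (⟨x, hx⟩ : L)⁻¹ := rfl
  rw [e, map_mul, map_mul, D.φ.apply_symm_apply, map_inv, ← hg, mul_inv_eq_iff_eq_mul]
  refine Subtype.ext ?_
  have hd := g.2
  rw [Matrix.det_fin_two, h, mul_zero, sub_zero] at hd
  simp only [Matrix.SpecialLinearGroup.coe_mul, upperUni_val]
  ext i j
  fin_cases i <;> fin_cases j <;> simp [Matrix.mul_apply, Fin.sum_univ_two, h]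
  linear_combination -(g.1 0 0 * t) * hd

/-- A subgroup containing all root and opposite root elements contains `L`. -/
theorem le_of_mem {K : Subgroup P} (hu : ∀ t, D.u t ∈ K) (hl : ∀ t, D.low t ∈ K) : L ≤ K := by
  intro x hx
  have := CfsgLib.LocalEven50.closure_upper_lower D.F ((K.comap L.subtype).comap D.φ.symm.toMonoidHom)
    (fun t => by
      show D.φ.symm (CfsgLib.LocalEven50.upperHom D.F t) ∈ K.comap L.subtype
      have e : CfsgLib.LocalEven50.upperHom D.F t = upperUni t.toAdd := by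
        refine Subtype.ext ?_; rw [upperUni_val]; rfl
      rw [e]; exact hu _)
    (fun t => by
      show D.φ.symm (CfsgLib.LocalEven50.lowerHom D.F t) ∈ K.comap L.subtype
      have e : CfsgLib.LocalEven50.lowerHom D.F t = lowerUni t.toAdd := by
        refine Subtype.ext ?_; rw [lowerUni_val]; rfl
      rw [e]; exact hl _) (D.φ ⟨x, hx⟩)
  simpa [mem_subgroupOf] using this

/-- The root and any other conjugate generate. -/
theorem gen [Finite P] {x : P} (hx : x ∈ L) (hxn : x ∉ normalizer (B : Set P)) :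
    B ⊔ cj x B = L := by
  refine le_antisymm (sup_le D.le ((cj_mono D.le).trans (cj_le_of_mem hx))) ?_
  set g := D.φ ⟨x, hx⟩ with hg
  have hc : g.1 1 0 ≠ 0 := fun h => hxn (D.mem_normalizer_of_apply hx h)
  refine D.le_of_mem (fun t => mem_sup_left (D.u_mem t)) fun s => ?_
  set a := g.1 0 0
  set c := g.1 1 0
  have e : D.φ.symm (lowerUni s) = D.φ.symm (upperUni (-(a / c))) *
      ((⟨x, hx⟩ : L) * D.φ.symm (upperUni (-(s / (c * c)))) * (⟨x, hx⟩ : L)⁻¹) *
        D.φ.symm (upperUni (a / c)) := by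
    apply D.φ.injective
    rw [D.φ.apply_symm_apply, map_mul, map_mul, map_mul, map_mul, map_inv, D.φ.apply_symm_apply,
      D.φ.apply_symm_apply, D.φ.apply_symm_apply, ← hg]
    have hd : a * g.1 1 1 - g.1 0 1 * c = 1 := by
      have := g.2; rwa [Matrix.det_fin_two] at this
    refine Subtype.ext ?_
    have hgm : g.1 = !![a, g.1 0 1; c, g.1 1 1] := Matrix.eta_fin_two g.1
    simp only [Matrix.SpecialLinearGroup.coe_mul, Matrix.SpecialLinearGroup.coe_inv,
      adjugate_fin_two, upperUni_val, lowerUni_val]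
    rw [hgm]
    ext i j
    fin_cases i <;> fin_cases j <;> simp [Matrix.mul_apply, Fin.sum_univ_two] <;> field_simp
    all_goals first
      | ring1
      | linear_combination hd
      | linear_combination -hd
      | linear_combination c * hd
      | linear_combination -c * hd
      | linear_combination s * hd
      | linear_combination -s * hd
  have e' : D.low s = D.u (-(a / c)) * (x * D.u (-(s / (c * c))) * x⁻¹) * D.u (a / c) :=
    congrArg Subtype.val e
  rw [e']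
  exact mul_mem (mul_mem (mem_sup_left (D.u_mem _)) (mem_sup_right (conj_mem_cj (D.u_mem _))))
    (mem_sup_left (D.u_mem _))

omit D in
/-- The Weyl element of `SL₂`. -/
def weylSL (F : Type*) [Field F] : SL(2, F) := ⟨!![0, 1; -1, 0], by simp [Matrix.det_fin_two]⟩

omit D in
theorem weylSL_val (F : Type*) [Field F] : (weylSL F).1 = !![0, 1; -1, 0] := rfl

/-- The Weyl element. -/
def weyl : P := (D.φ.symm (weylSL D.F) : L)

theorem weyl_mem : D.weyl ∈ L := SetLike.coe_mem _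

theorem weyl_notMem : D.weyl ∉ normalizer (B : Set P) := by
  intro h
  have h1 := (mem_normalizer_iff.1 h (D.u 1)).1 (D.u_mem 1)
  obtain ⟨t, ht⟩ := (D.root ⟨_, mul_mem (mul_mem D.weyl_mem (D.u_memL 1)) (inv_mem D.weyl_mem)⟩).1 h1
  change D.φ (D.φ.symm _ * D.φ.symm _ * (D.φ.symm _)⁻¹) = _ at ht
  simp only [map_mul, map_inv, MulEquiv.apply_symm_apply] at ht
  rw [mul_inv_eq_iff_eq_mul] at ht
  have := congrArg (fun m : SL(2, D.F) => m.1 1 1) ht
  simp only [Matrix.SpecialLinearGroup.coe_mul] at this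
  rw [weylSL_val] at this
  simp [upperUni_val, Matrix.mul_apply, Fin.sum_univ_two] at this

theorem gen_weyl [Finite P] : B ⊔ cj D.weyl B = L := D.gen D.weyl_mem D.weyl_notMem

theorem orth_of [Finite P] (hinj : Function.Injective σ) {X : Subgroup P} {x : P} (hx : x ∈ L)
    (hxn : x ∉ normalizer (B : Set P)) (h1 : Orth σ X B) (h2 : Orth σ X (cj x B)) : Orth σ X L := by
  rw [← D.gen hx hxn]; exact h1.sup_right hinj h2

theorem fix_eq_inf [Finite P] : fix σ L = fix σ B ⊓ fix σ (cj D.weyl B) := by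
  rw [← fix_sup, D.gen_weyl]

theorem card_L : Nat.card L = Nat.card SL(2, D.F) := Nat.card_congr D.φ.toEquiv

/-- Outside `M` only the Borel subgroup meets `M`. -/
theorem mem_normalizer_of_mem [Finite P] {M : Subgroup P} (hBM : B ≤ M) (hLM : ¬ L ≤ M) {x : P}
    (hx : x ∈ L) (hxM : x ∈ M) : x ∈ normalizer (B : Set P) := by
  by_contra h
  exact hLM ((D.gen hx h).ge.trans (sup_le hBM ((cj_mono hBM).trans (cj_le_of_mem hxM))))

/-- An element normalising the root has lower left entry `0`. -/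
theorem apply_eq_zero_of_mem_normalizer [Finite P] {x : P} (hx : x ∈ L)
    (h : x ∈ normalizer (B : Set P)) : (D.φ ⟨x, hx⟩).1 1 0 = 0 := by
  obtain ⟨v, hv⟩ := D.surj ![1, 0]
  have h1 : v ∈ fix σ B := D.mem_fix_iff.2 (by rw [hv]; rfl)
  have h2 : σ x v ∈ fix σ B := by
    rw [← cj_eq_self.2 h, mem_fix_cj, apply_inv_apply]; exact h1
  have h3 := D.mem_fix_iff.1 h2
  rw [show x = ((⟨x, hx⟩ : L) : P) from rfl, D.equiv, hv] at h3
  simpa [Matrix.mulVec, dotProduct, Fin.sum_univ_two] using h3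

/-- Bruhat: outside the Borel subgroup `L` is one double coset. -/
theorem exists_bruhat [Finite P] {x : P} (hx : x ∈ L) (hxn : x ∉ normalizer (B : Set P)) :
    ∃ b ∈ B, (b * D.weyl)⁻¹ * x ∈ normalizer (B : Set P) := by
  set g := D.φ ⟨x, hx⟩ with hg
  have hc : g.1 1 0 ≠ 0 := fun h => hxn (D.mem_normalizer_of_apply hx h)
  refine ⟨D.u (g.1 0 0 / g.1 1 0), D.u_mem _, ?_⟩
  set r := g.1 0 0 / g.1 1 0
  refine D.mem_normalizer_of_apply
    (mul_mem (inv_mem (mul_mem (D.u_memL r) D.weyl_mem)) hx) ?_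
  have e : (⟨(D.u r * D.weyl)⁻¹ * x,
      mul_mem (inv_mem (mul_mem (D.u_memL r) D.weyl_mem)) hx⟩ : L) =
      (D.φ.symm (upperUni r) * D.φ.symm (weylSL D.F))⁻¹ * ⟨x, hx⟩ := rfl
  rw [e, map_mul, map_inv, map_mul, D.φ.apply_symm_apply, D.φ.apply_symm_apply, ← hg]
  simp only [Matrix.SpecialLinearGroup.coe_mul, Matrix.SpecialLinearGroup.coe_inv, upperUni_val,
    weylSL_val, adjugate_fin_two, Matrix.mul_apply, Fin.sum_univ_two]
  simp [r]
  field_simp
  ring

/-- Every vector is moved into `fix B` by an element of `L`. -/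
theorem cover (v : V) : ∃ l ∈ L, σ l⁻¹ v ∈ fix σ B := by
  by_cases h0 : D.ψ v = 0
  · exact ⟨1, one_mem _, by rw [inv_one, apply_one]; exact D.fix_le ((D.ker v).1 h0)⟩
  obtain ⟨C, hC⟩ := CfsgLib.WeakClosed.Torus.exists_col h0
  refine ⟨(D.φ.symm C : L), SetLike.coe_mem _, D.mem_fix_iff.2 ?_⟩
  have e : D.ψ (σ ((D.φ.symm C : L) : P)⁻¹ v) = ![1, 0] := by
    rw [← InvMemClass.coe_inv, D.equiv, map_inv, D.φ.apply_symm_apply, ← hC, mulVec_mulVec,
      ← Matrix.SpecialLinearGroup.coe_mul, inv_mul_cancel]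
    simp
  rw [e]; rfl

end CellData

/-- Coordinates from a line: `w` spans the fixed line of `B`. -/
theorem isCell_of_line {B L : Subgroup P} (hBL : B ≤ L) {F : Type} [Field F] [Fintype F]
    (φ : L ≃* SL(2, F)) (ψ : V →+ (Fin 2 → F)) (hs : Function.Surjective ψ)
    (hk : ∀ v, ψ v = 0 ↔ v ∈ fix σ L) (he : ∀ (g : L) v, ψ (σ g v) = (φ g).1 *ᵥ ψ v)
    {w : Fin 2 → F} (hw : w ≠ 0) (hBw : ∀ g : L, (g : P) ∈ B → (φ g).1 *ᵥ w = w)
    (hstab : ∀ s : SL(2, F), s.1 *ᵥ w = w → ((φ.symm s : L) : P) ∈ B)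
    (hline : ∀ v (r : F), ψ v = r • w → v ∈ fix σ B) : IsCell σ B L := by
  obtain ⟨C, hC⟩ := CfsgLib.WeakClosed.Torus.exists_col hw
  have hCv : ∀ x : Fin 2 → F, C.1 *ᵥ ((C⁻¹).1 *ᵥ x) = x := fun x => by
    rw [mulVec_mulVec, ← Matrix.SpecialLinearGroup.coe_mul, mul_inv_cancel]; simp
  have hCi : ∀ x : Fin 2 → F, (C⁻¹).1 *ᵥ (C.1 *ᵥ x) = x := fun x => by
    rw [mulVec_mulVec, ← Matrix.SpecialLinearGroup.coe_mul, inv_mul_cancel]; simp
  let ψ' : V →+ (Fin 2 → F) :=
    AddMonoidHom.mk' (fun v => (C⁻¹).1 *ᵥ ψ v) fun v v' => by rw [map_add, mulVec_add]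
  have hψ' : ∀ v, ψ' v = (C⁻¹).1 *ᵥ ψ v := fun _ => rfl
  have hfix : ∀ s : SL(2, F), s.1 *ᵥ ![1, 0] = ![1, 0] ↔ ∃ t, s = upperUni t := by
    intro s
    constructor
    · intro h
      have e00 : s.1 0 0 = 1 := by simpa using congrFun h 0
      have e10 : s.1 1 0 = 0 := by simpa using congrFun h 1
      have e11 : s.1 1 1 = 1 := by
        have hd := s.2
        rw [Matrix.det_fin_two, e00, e10] at hd
        simpa using hd
      exact ⟨s.1 0 1, Subtype.ext (by
        rw [upperUni_val]; ext i j; fin_cases i <;> fin_cases j <;> simp [e00, e10, e11])⟩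
    · rintro ⟨t, rfl⟩
      rw [upperUni_mulVec]; simp
  refine ⟨{
    F := F
    φ := φ.trans (MulAut.conj C⁻¹)
    ψ := ψ'
    le := hBL
    surj := fun x => (hs (C.1 *ᵥ x)).imp fun v hv => by rw [hψ', hv, hCi]
    ker := fun v => by
      rw [← hk v, hψ']
      exact ⟨fun h => by rw [← hCv (ψ v), h, mulVec_zero], fun h => by rw [h, mulVec_zero]⟩
    equiv := fun g v => ?_
    root := fun g => ?_
    fixB := fun v hv => hline v (ψ' v 0) ?_ }⟩
  · rw [hψ', hψ', he]
    show _ = (C⁻¹ * φ g * C⁻¹⁻¹).1 *ᵥ _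
    rw [inv_inv, Matrix.SpecialLinearGroup.coe_mul, Matrix.SpecialLinearGroup.coe_mul, ← mulVec_mulVec,
      ← mulVec_mulVec, hCv]
  · show (g : P) ∈ B ↔ ∃ t, C⁻¹ * φ g * C⁻¹⁻¹ = upperUni t
    rw [inv_inv, ← hfix, Matrix.SpecialLinearGroup.coe_mul, Matrix.SpecialLinearGroup.coe_mul,
      ← mulVec_mulVec, ← mulVec_mulVec, hC]
    constructor
    · intro hg
      rw [hBw g hg, ← hC, hCi]
    · intro h
      have h2 : (φ g).1 *ᵥ w = w := by rw [← hCv ((φ g).1 *ᵥ w), h, hC]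
      simpa using hstab _ h2
  · have e : ψ' v = ψ' v 0 • ![1, 0] := by ext i; fin_cases i <;> simp [hv]
    rw [← hCv (ψ v), ← hψ', e, mulVec_smul, hC]
    simp

theorem IsCell.map_cj {B L : Subgroup P} (h : IsCell σ B L) (g : P) :
    IsCell σ (cj g B) (cj g L) := by
  obtain ⟨D⟩ := h
  let e : L ≃* ↥(cj g L) := L.equivMapOfInjective _ (MulAut.conj g).injective
  have he : ∀ x : ↥(cj g L), ((e.symm x : L) : P) = g⁻¹ * x * g := fun x => by
    have h1 : ((e (e.symm x) : ↥(cj g L)) : P) = g * ((e.symm x : L) : P) * g⁻¹ := rfl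
    rw [e.apply_symm_apply] at h1
    rw [h1]; group
  refine ⟨{
    F := D.F
    φ := e.symm.trans D.φ
    ψ := D.ψ.comp (σ g⁻¹ : V →+ V)
    le := cj_mono D.le
    surj := fun x => (D.surj x).elim fun v hv => ⟨σ g v, by
      show D.ψ (σ g⁻¹ (σ g v)) = x
      rw [apply_inv_apply, hv]⟩
    ker := fun v => by
      show D.ψ (σ g⁻¹ v) = 0 ↔ _
      rw [D.ker, mem_fix_cj]
    equiv := fun x v => ?_
    root := fun x => ?_
    fixB := fun v hv => mem_fix_cj.2 (D.fixB _ hv) }⟩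
  · show D.ψ (σ g⁻¹ (σ x v)) = (D.φ (e.symm x)).1 *ᵥ D.ψ (σ g⁻¹ v)
    rw [← D.equiv, he, apply_mul σ _ g, apply_apply_inv, apply_mul]
  · show (x : P) ∈ cj g B ↔ ∃ t, D.φ (e.symm x) = upperUni t
    rw [← D.root, he, mem_cj]

end CfsgLib.FFCells
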