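import Cfsg.Agent.FFCells.Pre

/-!
The configuration of a p-minimal group with an offender: one orbit of cells under a Sylow subgroup, any two with
orthogonal groups or linked (two cells with `q = 2` whose outside transvections are pairwise non-orthogonal).
-/

set_option autoImplicit false

namespace CfsgLib.FFCells

open Subgroup CfsgLib.SL2Recognition

variable {P V : Type*} [Group P] [AddCommGroup V]

/-- `g` does not fix the commutators of `h`. -/
def Pierce (σ : P →* AddMonoid.End V) (g h : P) : Prop := ∃ v : V, σ g (σ h v - v) ≠ σ h v - v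

/-- Cells with two-element roots whose outside involutions pierce each other. -/
def Linked (σ : P →* AddMonoid.End V) (c d : Subgroup P × Subgroup P) : Prop :=
  Nat.card c.1 = 2 ∧ Nat.card d.1 = 2 ∧
    ∀ g ∈ c.2, g ∉ c.1 → g * g = 1 → ∀ h ∈ d.2, h ∉ d.1 → h * h = 1 → Pierce σ g h ∧ Pierce σ h g

/-- The configuration at a Sylow subgroup `T`. -/
structure Config (σ : P →* AddMonoid.End V) (p : ℕ) (T : Subgroup P)
    (𝒞 : Set (Subgroup P × Subgroup P)) : Prop where
  pre : Pre σ p T 𝒞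
  nonempty : 𝒞.Nonempty
  trans : ∀ c ∈ 𝒞, ∀ d ∈ 𝒞, ∃ t ∈ T, cj t c.1 = d.1 ∧ cj t c.2 = d.2
  gen : grpsJoin 𝒞 ⊔ T = ⊤
  dich : ∀ c ∈ 𝒞, ∀ d ∈ 𝒞, c ≠ d → Orth σ c.2 d.2 ∨ Linked σ c d
  link_trans : ∀ c ∈ 𝒞, ∀ d ∈ 𝒞, ∀ e ∈ 𝒞, c ≠ e → Linked σ c d → Linked σ d e → Linked σ c e

end CfsgLib.FFCells
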