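import Cfsg.Agent.FFCells.Cell
import Cfsg.Agent.SL2Recognition.StronglyEmbedded

/-!
A minimal offender `B ≤ M` whose conjugates in `M` come only from `M` lies in cells, and the group is covered by
the cell and `M`.
-/

set_option autoImplicit false

namespace CfsgLib.FFCells

open Subgroup Matrix CfsgLib.SL2Recognition CfsgLib.WeakClosed.Torus CfsgLib.Linear
open scoped MatrixGroups

variable {P V : Type*} [Group P] [AddCommGroup V] {σ : P →* AddMonoid.End V} [Finite P] [Finite V]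
  {p : ℕ} [Fact p.Prime]

/-- The hypotheses of the recognition inside `K`. -/
structure CoreHyp (σ : P →* AddMonoid.End V) (p : ℕ) (M K B : Subgroup P) : Prop where
  inj : Function.Injective σ
  exp : ∀ v : V, p • v = 0
  fixv : ∀ Y : Subgroup P, IsPGroup p Y → Y ≤ M → ∃ v ∈ fix σ Y, ∀ g, σ g v = v → g ∈ M
  min : IsMinOff σ B
  leK : B ≤ K
  leM : B ≤ M
  move : ∀ x ∈ K, x ∉ M → ¬ cj x B ≤ M

theorem CoreHyp.mono {M K K' B : Subgroup P} (h : CoreHyp σ p M K B) (hK : K' ≤ K) (hB : B ≤ K') :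
    CoreHyp σ p M K' B :=
  ⟨h.inj, h.exp, h.fixv, h.min, hB, h.leM, fun x hx => h.move x (hK hx)⟩

/-- Every subgroup over `B` outside `M` contains a cell. -/
theorem CoreHyp.exists_cell {M K B : Subgroup P} (h : CoreHyp σ p M K B) (hKM : ¬ K ≤ M) :
    ∃ L : Subgroup P, L ≤ K ∧ ¬ L ≤ M ∧ IsCell σ B L := by
  obtain ⟨hinj, hp0, hfix, hB, hBK, hBM, hmove⟩ := h
  classical
  obtain ⟨L, ⟨hBL, hLK, hLM⟩, hmin⟩ := Set.exists_min_image
    {L : Subgroup P | B ≤ L ∧ L ≤ K ∧ ¬ L ≤ M} (fun L => Nat.card L)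
    (Set.toFinite _) ⟨K, hBK, le_rfl, hKM⟩
  have hprop : ∀ X : Subgroup P, B ≤ X → X < L → X ≤ M := by
    intro X hBX hXL
    by_contra hXM
    exact hXL.ne (eq_of_le_of_card_ge hXL.le (hmin X ⟨hBX, hXL.le.trans hLK, hXM⟩))
  set L₀ := M.subgroupOf L with hL₀
  set B' := B.subgroupOf L with hB'
  let σL : L →* AddMonoid.End V := σ.comp L.subtype
  have hmaxL : ∀ X : Subgroup L, B' ≤ X → X ≠ ⊤ → X ≤ L₀ := by
    intro X hBX hX y hy
    refine hprop (X.map L.subtype) (fun b hb => ⟨⟨b, hBL hb⟩, hBX hb, rfl⟩)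
      (lt_of_le_of_ne (map_subtype_le X) fun e => hX ?_) ⟨y, hy, rfl⟩
    exact map_injective L.subtype_injective (by rw [e, ← MonoidHom.range_eq_map, range_subtype])
  have hB'L₀ : B' ≤ L₀ := fun y hy => hBM hy
  have hL₀ne : L₀ ≠ ⊤ := fun e => hLM (subgroupOf_eq_top.1 e)
  have hcoat : IsCoatom L₀ :=
    ⟨hL₀ne, fun X hX => by_contra fun hne => hX.not_ge (hmaxL X (hB'L₀.trans hX.le) hne)⟩
  have hgenL : ∀ x : L, x ∉ L₀ → B' ⊔ B'.map (MulAut.conj x).toMonoidHom = ⊤ := by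
    intro x hx
    by_contra hne
    refine hmove (x : P) (hLK x.2) hx ?_
    rintro _ ⟨b, hb, rfl⟩
    exact hmaxL _ le_sup_left hne
      (le_sup_right (a := B') ⟨⟨b, hBL hb⟩, hb, rfl⟩ :
        x * ⟨b, hBL hb⟩ * x⁻¹ ∈ B' ⊔ B'.map (MulAut.conj x).toMonoidHom)
  obtain ⟨x₀, hx₀⟩ : ∃ x : L, x ∉ L₀ := by
    by_contra h
    push Not at h
    exact hL₀ne (eq_top_iff.2 fun x _ => h x)
  obtain ⟨TL, hTL⟩ := ((hB.isPGroup hinj hp0).comap_subtype (K := L)).exists_le_sylow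
  have hTLne : (TL : Subgroup L) ≠ ⊤ := by
    intro e
    haveI : Group.IsNilpotent L :=
      ((IsPGroup.of_equiv (e ▸ TL.isPGroup') Subgroup.topEquiv : IsPGroup p L)).isNilpotent
    haveI : L₀.Normal := Subgroup.NormalizerCondition.normal_of_coatom _
      Group.normalizerCondition_of_isNilpotent hcoat
    refine hL₀ne (top_le_iff.1 ((hgenL x₀ hx₀).ge.trans (sup_le hB'L₀ ?_)))
    rintro _ ⟨b, hb, rfl⟩
    exact (inferInstance : L₀.Normal).conj_mem b (hB'L₀ hb) x₀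
  have huniq : ∀ N : Subgroup L, IsCoatom N → (TL : Subgroup L) ≤ N → N = L₀ := fun N hN hTN =>
    ((hN.le_iff.1 (hmaxL N (hTL.trans hTN) hN.1)).resolve_left hL₀ne).symm
  have hTL₀ : (TL : Subgroup L) ≤ L₀ := hmaxL _ hTL hTLne
  have hfixB : fix σL B' = fix σ B := AddSubgroup.ext fun v =>
    ⟨fun h b hb => h ⟨b, hBL hb⟩ hb, fun h b hb => h b hb⟩
  have hfixL : fix σL ⊤ = fix σ L := AddSubgroup.ext fun v =>
    ⟨fun h l hl => h ⟨l, hl⟩ (mem_top _), fun h l _ => h l l.2⟩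
  have hcardB : Nat.card B' = Nat.card B := Nat.card_congr (subgroupOfEquivOfLe hBL).toEquiv
  set C := fix σL ⊤ with hC
  set X := fix σL B' with hX
  have hCX : C ≤ X := fix_anti σL le_top
  obtain ⟨v₀, hv₀T, hv₀M⟩ := hfix _ (TL.isPGroup'.map L.subtype) (by
    rintro _ ⟨y, hy, rfl⟩
    exact hTL₀ hy)
  have hv₀TL : v₀ ∈ fix σL (TL : Subgroup L) := fun g hg => hv₀T _ ⟨g, hg, rfl⟩
  have hv₀ : v₀ ∈ X := fix_anti σL hTL hv₀TL
  have hv₀C : v₀ ∉ C := fun h => hLM fun l hl => hv₀M l (h ⟨l, hl⟩ (mem_top _))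
  obtain ⟨F, _, _, φ, ψ, hcardF, hψs, hψ0, hψe, -⟩ := exists_natural_of_smul (p := p) σL
    (hinj.comp L.subtype_injective) TL L₀ hcoat hTL₀ huniq B' hTL
    (fun a ha b hb v => hB.quad a ha b hb v)
    (show Nat.card V ≤ Nat.card B' * Nat.card X by rw [hfixB, hcardB]; exact hB.le)
    (fun A₀ h1 h2 h3 => by
      have e1 : Nat.card (A₀.map L.subtype) = Nat.card A₀ := card_map_of_injective L.subtype_injective
      have e2 : fix σL A₀ = fix σ (A₀.map L.subtype) := AddSubgroup.ext fun v =>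
        ⟨fun h => by rintro _ ⟨b, hb, rfl⟩; exact h b hb, fun h b hb => h b ⟨b, hb, rfl⟩⟩
      show Nat.card A₀ * Nat.card (fix σL A₀) < Nat.card B' * Nat.card X
      rw [hfixB, hcardB, e2, ← e1]
      refine lt_of_lt_of_le (hB.strict _ (fun y hy => ?_) ?_ ?_) hB.le
      · obtain ⟨z, hz, rfl⟩ := hy; exact h1 hz
      · exact fun e => h2 ((map_eq_bot_iff_of_injective _ L.subtype_injective).1 e)
      · exact fun e => h3 (map_injective L.subtype_injective (e.trans (map_subgroupOf_eq_of_le hBL).symm)))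
    ⟨v₀, hv₀TL, hv₀C⟩ hgenL
    (fun a _ v => by rw [hp0, map_zero])
  set w := ψ v₀ with hwdef
  have hw : w ≠ 0 := fun h => hv₀C ((hψ0 v₀).1 h)
  have hBw : ∀ b ∈ B', (φ b).1 *ᵥ w = w := fun b hb => by rw [hwdef, ← hψe, hv₀ b hb]
  -- `B'` is the whole stabiliser of `w`
  have hstab : ∀ s : SL(2, F), s.1 *ᵥ w = w → ∃ b ∈ B', φ b = s := by
    obtain ⟨f, hf⟩ := exists_param hw
    have hsurj : Function.Surjective fun b : B' => f (φ b) := by
      refine ((Nat.bijective_iff_injective_and_card _).2 ⟨fun a b h => ?_, ?_⟩).2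
      · exact Subtype.ext (φ.injective (hf _ _ (hBw a a.2) (hBw b b.2) h))
      · rw [← hcardF, Nat.card_eq_fintype_card]
    intro s hs
    obtain ⟨b, hb⟩ := hsurj (f s)
    exact ⟨b, b.2, hf _ _ (hBw b b.2) hs hb⟩
  have hline : ∀ v ∈ X, ∃ r : F, ψ v = r • w := fun v hv => by
    obtain ⟨b₀, hb₀, hb₀1⟩ := B'.bot_or_exists_ne_one.resolve_left (fun e => hB.ne_bot (by
      rw [← map_subgroupOf_eq_of_le hBL]; show B'.map L.subtype = ⊥; rw [e, Subgroup.map_bot]))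
    exact eq_smul_of_fix (fun e => hb₀1 ((map_eq_one_iff φ φ.injective).1 e)) hw (hBw b₀ hb₀)
      (by rw [← hψe, hv b₀ hb₀])
  -- elements fixing the line of `w` normalise `B'`
  have hlineN : ∀ (l : L) (r : F), (φ l).1 *ᵥ w = r • w →
      l ∈ normalizer (B' : Set L) := by
    intro l r hl
    refine mem_normalizer_of_cj_le ?_
    have hr : r ≠ 0 := by
      rintro rfl
      rw [zero_smul] at hl
      apply hw
      have h2 : ((φ l)⁻¹).1 *ᵥ ((φ l).1 *ᵥ w) = w := by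
        rw [mulVec_mulVec, ← Matrix.SpecialLinearGroup.coe_mul, inv_mul_cancel]; simp
      rw [hl, mulVec_zero] at h2
      exact h2.symm
    rintro _ ⟨b, hb, rfl⟩
    have hfixed : (φ (l * b * l⁻¹)).1 *ᵥ w = w := by
      have hinv : ((φ l)⁻¹).1 *ᵥ w = r⁻¹ • w := by
        have h1 : ((φ l)⁻¹).1 *ᵥ ((φ l).1 *ᵥ w) = w := by
          rw [mulVec_mulVec, ← Matrix.SpecialLinearGroup.coe_mul, inv_mul_cancel]; simp
        rw [hl, mulVec_smul] at h1
        conv_rhs => rw [← h1]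
        rw [smul_smul, inv_mul_cancel₀ hr, one_smul]
      rw [map_mul, map_mul, map_inv, Matrix.SpecialLinearGroup.coe_mul,
        Matrix.SpecialLinearGroup.coe_mul, ← mulVec_mulVec, ← mulVec_mulVec, hinv, mulVec_smul,
        hBw b hb, mulVec_smul, hl, smul_smul, inv_mul_cancel₀ hr, one_smul]
    obtain ⟨c, hc, hce⟩ := hstab _ hfixed
    show l * b * l⁻¹ ∈ B'
    rwa [← φ.injective hce]
  have hnormL₀ : ∀ l : L, l ∈ normalizer (B' : Set L) → l ∈ L₀ := fun l hl => by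
    by_contra hl'
    have := hgenL l hl'
    have e : B'.map (MulAut.conj l).toMonoidHom = B' := mem_normalizer_iff_map_conj_eq.1 hl
    rw [e, sup_idem] at this
    exact hL₀ne (top_le_iff.1 (this ▸ hB'L₀))
  have hoff : ∀ l : L, l ∉ L₀ → ∀ r : F, (φ l).1 *ᵥ w ≠ r • w := fun l hl r h =>
    hl (hnormL₀ l (hlineN l r h))
  have htr : ∀ x l : L, x ∉ L₀ → (∀ r : F, (φ l).1 *ᵥ w ≠ r • w) →
      ∃ b ∈ B', (b * x)⁻¹ * l ∈ L₀ := by
    intro x l hx hl
    obtain ⟨s, hs, r, hr, hsr⟩ := exists_shift hw hl (hoff x hx)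
    obtain ⟨b, hb, rfl⟩ := hstab s hs
    refine ⟨b, hb, hnormL₀ _ (hlineN _ r⁻¹ ?_)⟩
    have h1 : (φ (b * x)).1 *ᵥ (r⁻¹ • w) = (φ l).1 *ᵥ w := by
      rw [mulVec_smul, map_mul, Matrix.SpecialLinearGroup.coe_mul, ← mulVec_mulVec, hsr, smul_smul,
        inv_mul_cancel₀ hr, one_smul]
    rw [map_mul, Matrix.SpecialLinearGroup.coe_mul, ← mulVec_mulVec, ← h1, mulVec_mulVec,
      ← Matrix.SpecialLinearGroup.coe_mul, map_inv, inv_mul_cancel]
    simp
  have hline0 : ∀ l : L, l ∈ L₀ → ∃ r : F, (φ l).1 *ᵥ w = r • w := by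
    intro l hl
    by_contra h
    push Not at h
    obtain ⟨b, hb, hbl⟩ := htr x₀ l hx₀ h
    refine hx₀ ?_
    have h2 : b * x₀ ∈ L₀ := by
      have := mul_mem hl (inv_mem hbl)
      simpa [mul_assoc] using this
    simpa using mul_mem (inv_mem (hB'L₀ hb)) h2
  -- the fixed points of `B'` are the whole line
  have hXline : ∀ (v : V) (r : F), ψ v = r • w → v ∈ X := by
    intro v r hr
    by_cases hr0 : r = 0
    · exact hCX ((hψ0 v).1 (by rw [hr, hr0, zero_smul]))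
    obtain ⟨C', hC'⟩ := exists_col hw
    set g := MulAut.conj C' (diag (Units.mk0 r hr0))
    have hgw : g.1 *ᵥ w = r • w := by
      show (C' * diag (Units.mk0 r hr0) * C'⁻¹).1 *ᵥ w = _
      rw [← hC', mulVec_mulVec, ← Matrix.SpecialLinearGroup.coe_mul,
        inv_mul_cancel_right, Matrix.SpecialLinearGroup.coe_mul, ← mulVec_mulVec]
      have e : (diag (Units.mk0 r hr0)).1 *ᵥ ![1, 0] = r • ![1, 0] := by
        show !![((Units.mk0 r hr0 : Fˣ) : F), 0; 0, (((Units.mk0 r hr0)⁻¹ : Fˣ) : F)] *ᵥ ![1, 0] = _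
        ext i; fin_cases i <;> simp
      rw [e, mulVec_smul]
    set k := φ.symm g
    have hk : k ∈ normalizer (B' : Set L) := hlineN k r (by rw [φ.apply_symm_apply, hgw])
    have h1 : σL k v₀ ∈ X := by
      have h := mem_normalizer_iff_map_conj_eq.1 hk
      show σL k v₀ ∈ fix σL B'
      rw [← h]
      exact (mem_fix_conj σL).2 (by rw [apply_inv_apply]; exact hv₀)
    have h2 : v - σL k v₀ ∈ C := (hψ0 _).1 (by
      rw [map_sub, hψe, φ.apply_symm_apply, hgw, hr, sub_self])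
    simpa using add_mem (hCX h2) h1
  refine ⟨L, hLK, hLM, isCell_of_line hBL φ ψ hψs (fun v => by rw [← hfixL]; exact hψ0 v)
    (fun g v => hψe g v) hw (fun g hg => hBw g hg) (fun s hs => ?_) (fun v r hr => ?_)⟩
  · obtain ⟨b, hb, rfl⟩ := hstab s hs
    rw [φ.symm_apply_apply]; exact hb
  · rw [← hfixB]; exact hXline v r hr

namespace CoreHyp

variable {M K B L : Subgroup P} (h : CoreHyp σ p M K B)
include h

theorem mem_of_fix_comm {b : P} (hb : b ∈ B) {v : V} (hv : σ b v - v ≠ 0) {g : P} (hgK : g ∈ K)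
    (hg : σ g (σ b v - v) = σ b v - v) : g ∈ M := by
  let S : Subgroup P :=
    { carrier := {g | σ g (σ b v - v) = σ b v - v}
      one_mem' := apply_one σ _
      mul_mem' := fun {g k} hg hk => by
        show σ (g * k) _ = _
        rw [apply_mul, show σ k (σ b v - v) = σ b v - v from hk]; exact hg
      inv_mem' := fun {g} hg => by
        show σ g⁻¹ _ = _
        conv_lhs => rw [← show σ g (σ b v - v) = σ b v - v from hg]
        rw [apply_inv_apply] }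
  by_contra hgM
  obtain ⟨L', hL'S, -, ⟨D⟩⟩ := (h.mono (K' := K ⊓ S) inf_le_left
    (le_inf h.leK fun a ha => h.min.quad a ha b hb v)).exists_cell fun hle => hgM (hle ⟨hgK, hg⟩)
  have hb1 : b ≠ 1 := fun e => hv (by rw [e, apply_one, sub_self])
  exact hv (by rw [D.moved hb hb1 (fun l hl => (hL'S hl).2) b hb, sub_self])

/-- The elements of a cell cover `K` modulo `M`, at any nonzero commutator. -/
theorem exists_good (D : CellData σ B L) (hLK : L ≤ K) {b : P} (hb : b ∈ B) {v : V}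
    (hv : σ b v - v ≠ 0) {g : P} (hg : g ∈ K) :
    ∃ l ∈ L, g⁻¹ * l ∈ M ∧ σ l⁻¹ (σ g (σ b v - v)) ∈ fix σ B := by
  obtain ⟨l, hl, hlX⟩ := D.cover (σ g (σ b v - v))
  refine ⟨l, hl, ?_, hlX⟩
  by_contra hn
  have hK' : g⁻¹ * l ∈ K := mul_mem (inv_mem hg) (hLK hl)
  refine h.move _ hK' hn ?_
  rintro _ ⟨b₀, hb₀, rfl⟩
  refine h.mem_of_fix_comm hb hv
    (g := g⁻¹ * l * b₀ * (g⁻¹ * l)⁻¹) (mul_mem (mul_mem hK' (h.leK hb₀)) (inv_mem hK')) ?_
  have e := hlX b₀ hb₀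
  rw [_root_.mul_inv_rev, inv_inv, apply_mul, apply_mul, apply_mul, apply_mul, e, apply_apply_inv,
    apply_inv_apply]

theorem exists_nonzero : ∃ b ∈ B, ∃ v : V, σ b v - v ≠ 0 := by
  obtain ⟨b, hb, hb1⟩ := B.bot_or_exists_ne_one.resolve_left h.min.ne_bot
  refine ⟨b, hb, ?_⟩
  by_contra hc
  push Not at hc
  refine hb1 (h.inj (AddMonoidHom.ext fun v => ?_))
  show σ b v = σ 1 v
  rw [apply_one]; exact sub_eq_zero.1 (hc v)

/-- `K = L (M ∩ K)` for every cell `L ≤ K`. -/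
theorem exists_mul (D : CellData σ B L) (hLK : L ≤ K) {g : P} (hg : g ∈ K) :
    ∃ l ∈ L, l⁻¹ * g ∈ M := by
  obtain ⟨b, hb, v, hv⟩ := h.exists_nonzero
  obtain ⟨l, hl, hlM, -⟩ := h.exists_good D hLK hb hv hg
  exact ⟨l, hl, by simpa using inv_mem hlM⟩

/-- The conjugates of the root under `M ∩ K` are orthogonal to it. -/
theorem orth_cj (D : CellData σ B L) (hLK : L ≤ K) (hLM : ¬ L ≤ M) {m : P} (hm : m ∈ M)
    (hmK : m ∈ K) : Orth σ (cj m B) B := by
  have hfixed : ∀ m ∈ M, m ∈ K → ∀ b ∈ B, ∀ v : V, ∀ a ∈ B,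
      σ (m * a * m⁻¹) (σ b v - v) = σ b v - v := by
    intro m hm hmK b hb v a ha
    by_cases hv : σ b v - v = 0
    · rw [hv, map_zero]
    obtain ⟨l, hl, hlM, hlX⟩ := h.exists_good D hLK hb hv (inv_mem hmK)
    have hlM' : l ∈ M := by simpa using mul_mem (inv_mem hm) hlM
    have hn := cj_eq_self.2 (D.mem_normalizer_of_mem h.leM hLM hl hlM')
    have h1 : σ m⁻¹ (σ b v - v) ∈ fix σ B := by
      rw [← hn]; exact mem_fix_cj.2 hlX
    rw [apply_mul, apply_mul, h1 a ha, apply_apply_inv]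
  rintro _ ⟨a, ha, rfl⟩ b hb v
  refine ⟨hfixed m hm hmK b hb v a ha, ?_⟩
  show σ b (σ (m * a * m⁻¹) v - v) = σ (m * a * m⁻¹) v - v
  have e : σ (m * a * m⁻¹) v - v = σ m (σ a (σ m⁻¹ v) - σ m⁻¹ v) := by
    rw [map_sub, apply_mul, apply_mul, apply_apply_inv]
  have h3 := hfixed m⁻¹ (inv_mem hm) (inv_mem hmK) a ha (σ m⁻¹ v) b hb
  rw [inv_inv, apply_mul, apply_mul] at h3
  rw [e]
  conv_rhs => rw [← h3, apply_apply_inv]

end CoreHyp

end CfsgLib.FFCells
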