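import Cfsg.Agent.FFCells.Trv
import Cfsg.Agent.FFCells.Config

/-!
Two cells of a system of cells are orthogonal or linked, and linking is transitive.
-/

set_option autoImplicit false
set_option linter.style.haveILetI false
set_option linter.unusedSectionVars false

namespace CfsgLib.FFCells

open Subgroup Matrix CfsgLib.SL2Recognition CfsgLib.Linear CfsgLib.WeakClosed.Torus
open scoped MatrixGroups

variable {P V : Type*} [Group P] [AddCommGroup V] {σ : P →* AddMonoid.End V}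

/-- A family of cells closed under the moves used below. -/
structure Sys (σ : P →* AddMonoid.End V) (p : ℕ) (𝒜 : Set (Subgroup P × Subgroup P)) : Prop where
  inj : Function.Injective σ
  exp : ∀ v : V, p • v = 0
  fam : Fam σ 𝒜
  conj : ∀ c ∈ 𝒜, ∀ g : P, (∀ d ∈ 𝒜, d ≠ c → ∀ b ∈ d.1, g * b = b * g) → cj g c.1 ≤ c.2
  trv : ∀ r : P, (∀ d ∈ 𝒜, ∀ b ∈ d.1, r * b = b * r) → IsMinOff σ (zpowers r) →
    ∃ c ∈ 𝒜, zpowers r = c.1

theorem Linked.symm {c d : Subgroup P × Subgroup P} (h : Linked σ c d) : Linked σ d c :=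
  ⟨h.2.1, h.1, fun g hg hgn hgg k hk hkn hkk => (h.2.2 k hk hkn hkk g hg hgn hgg).symm⟩

/-! ### Transvection calculus -/

theorem IsTrv.congr {g : P} {d d' : V} {f f' : V →+ ZMod 2} (h : IsTrv σ g d f) (hd : d = d')
    (hf : ∀ v, f v = f' v) : IsTrv σ g d' f' := fun v => by rw [← hd, ← hf]; exact h v

theorem IsTrv.apply_zero {g : P} {d : V} {f : V →+ ZMod 2} (h : IsTrv σ g d f) (hd : d ≠ 0) {u : V}
    (hu : σ g u = u) : f u = 0 :=
  add_sc_eq_zero hd (by rw [← h.sub, hu, sub_self])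

theorem IsTrv.conj_one {g k : P} {d e : V} {f φ : V →+ ZMod 2} (h2 : ∀ v : V, v + v = 0)
    (h : IsTrv σ g d f) (hk : IsTrv σ k e φ) (he : φ e = 0) (h1 : φ d = 1) (h1' : f e = 1) :
    IsTrv σ (k * g * k⁻¹) (d + e) (f + φ) :=
  (h.conj h2 hk he).congr (by rw [h1, sc_one]) fun v => by
    simp [AddMonoidHom.mulLeft, h1']

theorem IsTrv.conj_left {g k : P} {d e : V} {f φ : V →+ ZMod 2} (h2 : ∀ v : V, v + v = 0)
    (h : IsTrv σ g d f) (hk : IsTrv σ k e φ) (he : φ e = 0) (h1 : φ d = 1) (h0 : f e = 0) :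
    IsTrv σ (k * g * k⁻¹) (d + e) f :=
  (h.conj h2 hk he).congr (by rw [h1, sc_one]) fun v => by
    simp [AddMonoidHom.mulLeft, h0]

theorem IsTrv.conj_right {g k : P} {d e : V} {f φ : V →+ ZMod 2} (h2 : ∀ v : V, v + v = 0)
    (h : IsTrv σ g d f) (hk : IsTrv σ k e φ) (he : φ e = 0) (h0 : φ d = 0) (h1' : f e = 1) :
    IsTrv σ (k * g * k⁻¹) d (f + φ) :=
  (h.conj h2 hk he).congr (by rw [h0, sc_zero, add_zero]) fun v => by
    simp [AddMonoidHom.mulLeft, h1']

theorem IsTrv.pierce {g k : P} {dg dk : V} {fg fk : V →+ ZMod 2} (hg : IsTrv σ g dg fg)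
    (hk : IsTrv σ k dk fk) (hne : dg ≠ 0) (h1 : fg dk = 1) {v₀ : V} (hv : fk v₀ = 1) :
    Pierce σ g k :=
  ⟨v₀, fun e => hne (by rwa [hk.sub, hv, sc_one, hg dk, h1, sc_one, add_eq_left] at e)⟩

namespace Triple

variable {B L : Subgroup P} (t : Triple σ B L)
include t

theorem α_ne : t.α ≠ 0 := fun e => by simpa [e] using t.da

theorem δ_ne : t.δ ≠ 0 := fun e => by simpa [e] using t.ad

theorem δα_ne : t.δ + t.α ≠ 0 := fun e => by
  have h := congrArg t.fd e
  rw [map_add, t.dd, t.da, map_zero] at h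
  simp at h

theorem other_self : (t.fd + t.fa) (t.δ + t.α) = 0 := by
  simp only [AddMonoidHom.add_apply, map_add, t.dd, t.da, t.ad, t.aa]
  decide

theorem other (h2 : ∀ v : V, v + v = 0) (hinj : Function.Injective σ) :
    IsTrv σ (t.a * t.d * t.a) (t.δ + t.α) (t.fd + t.fa) := by
  have ha : t.a⁻¹ = t.a := inv_eq_of_mul_eq_one_right (t.ha.inv_eq h2 hinj t.aa)
  have h := t.hd.conj_one h2 t.ha t.aa t.ad t.da
  rwa [ha] at h

end Triple

theorem torus_val {F : Type*} [Field F] (z : Fˣ) :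
    (WeakClosed.Torus.diag z).1 = !![(z : F), 0; 0, ((z⁻¹ : Fˣ) : F)] := rfl

theorem zmod_two_add_self : ∀ x : ZMod 2, x + x = 0 := by decide

namespace Fam

variable {𝒜 : Set (Subgroup P × Subgroup P)} (hF : Fam σ 𝒜)
include hF

theorem trv_fix_join {c : 𝒜} (t : Triple σ c.1.1 c.1.2) : t.α ∈ fix σ (rootsJoin 𝒜) := by
  have h := hF.root_sub_mem c t.memB t.δ
  rwa [t.ha.sub, t.ad, sc_one] at h

/-- The functional of a root transvection vanishes on `fix J`. -/
theorem fa_eq_zero {c : 𝒜} (t : Triple σ c.1.1 c.1.2) {w : V} (hw : w ∈ fix σ (rootsJoin 𝒜)) :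
    t.fa w = 0 :=
  t.ha.apply_zero t.α_ne (hw _ (hF.root_le_join c t.memB))

/-- A transvection along `fix J` killing `fix J` centralises the roots. -/
theorem trv_commute (hinj : Function.Injective σ) {r : P} {d : V} {f : V →+ ZMod 2}
    (hr : IsTrv σ r d f) (hd : d ∈ fix σ (rootsJoin 𝒜))
    (hf : ∀ w ∈ fix σ (rootsJoin 𝒜), f w = 0) {e : Subgroup P × Subgroup P} (he : e ∈ 𝒜) {b : P}
    (hb : b ∈ e.1) : r * b = b * r :=
  hinj (AddMonoidHom.ext fun v => by
    show σ (r * b) v = σ (b * r) v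
    have hfv : f (σ b v) = f v := by
      have := hf _ (hF.root_sub_mem ⟨e, he⟩ hb v)
      rwa [map_sub, sub_eq_zero] at this
    have hbd : σ b d = d := hd b (hF.root_le_join ⟨e, he⟩ hb)
    rw [apply_mul, apply_mul, hr, hr v, map_add, apply_sc (σ := σ) b, hbd, hfv])

/-- The cross values of two members. -/
theorem cross {c d : 𝒜} (hne : c ≠ d) (t : Triple σ c.1.1 c.1.2) (u : Triple σ d.1.1 d.1.2) :
    t.fa u.α = 0 ∧ t.fa u.δ = 0 ∧ t.fd u.α = 0 := by
  refine ⟨hF.fa_eq_zero t (hF.trv_fix_join u), t.ha.apply_zero t.α_ne ?_, t.hd.apply_zero t.δ_ne ?_⟩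
  · have h := ((hF.orth c.1 c.2 d.1 d.2 fun e => hne (Subtype.ext e)) t.a t.memB u.d u.memL u.α).1
    rwa [u.hd.sub, u.da, sc_one] at h
  · have h := ((hF.orth d.1 d.2 c.1 c.2 fun e => hne (Subtype.ext e.symm)) u.a u.memB t.d t.memL
      u.δ).2
    rwa [u.ha.sub, u.ad, sc_one] at h

end Fam

namespace Sys

variable [Finite P] [Finite V] {p : ℕ} [Fact p.Prime] {𝒜 : Set (Subgroup P × Subgroup P)}
  (h : Sys σ p 𝒜)
include h

theorem two {c : Subgroup P × Subgroup P} (hc : c ∈ 𝒜) (hq : Nat.card c.1 = 2) (v : V) :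
    v + v = 0 := by
  set D := h.fam.data ⟨c, hc⟩
  haveI := D.charP h.exp
  have h2 : Nat.card D.F = 2 := by rw [← D.card_root]; exact hq
  have hp : p = 2 := by
    have hd : p ∣ Nat.card D.F := by
      rw [Nat.card_eq_fintype_card]; exact CfsgLib.Linear.prime_dvd_card p
    rw [h2] at hd
    exact (Nat.prime_dvd_prime_iff_eq Fact.out Nat.prime_two).1 hd
  rw [← two_nsmul, ← hp]; exact h.exp v

/-- A member with more than two root elements is orthogonal to every other. -/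
theorem orth_of_card {c d : Subgroup P × Subgroup P} (hc : c ∈ 𝒜) (hd : d ∈ 𝒜) (hne : c ≠ d)
    (hq : Nat.card c.1 ≠ 2) : Orth σ c.2 d.2 := by
  classical
  have hinj := h.inj
  set D := h.fam.data ⟨c, hc⟩
  set D' := h.fam.data ⟨d, hd⟩
  have hF3 : 1 < Fintype.card D.Fˣ := by
    have h1 : 2 ≤ Fintype.card D.F := Fintype.one_lt_card
    have h2 : Fintype.card D.F ≠ 2 := fun e => hq (by
      rw [show c.1 = (⟨c, hc⟩ : 𝒜).1.1 from rfl, D.card_root, Nat.card_eq_fintype_card, e])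
    rw [Fintype.card_units]; omega
  obtain ⟨ζ, hζ⟩ := Fintype.exists_ne_of_one_lt_card hF3 (1 : D.Fˣ)
  set hL : c.2 := D.φ.symm (WeakClosed.Torus.diag ζ) with hhL
  set g : P := (hL : P) with hgdef
  have hgmem : g ∈ c.2 := hL.2
  have hφ : D.φ ⟨g, hgmem⟩ = WeakClosed.Torus.diag ζ := D.φ.apply_symm_apply _
  have hgA : cj g c.1 = c.1 := cj_eq_self.2 (D.mem_normalizer_of_apply hgmem (by rw [hφ]; rfl))
  have hgR : ∀ e ∈ 𝒜, e ≠ c → ∀ b ∈ e.1, g * b = b * g := fun e he hec b hb =>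
    (((h.fam.orth e he c hc hec).commute hinj hb hgmem).eq).symm
  have hgB : cj g d.1 = d.1 := le_antisymm
    (by
      rintro _ ⟨b, hb, rfl⟩
      show g * b * g⁻¹ ∈ _
      rw [hgR d hd hne.symm b hb, mul_inv_cancel_right]; exact hb)
    (fun b hb => mem_cj.2 (by rw [mul_assoc, ← hgR d hd hne.symm b hb, inv_mul_cancel_left]; exact hb))
  -- `g` normalises the other group
  have hN : Norm g d.1 d.2 := by
    refine ⟨hgB, eq_of_le_of_card_ge ?_ (card_cj g d.2).ge⟩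
    rw [show d.2 = d.1 ⊔ cj D'.weyl d.1 from D'.gen_weyl.symm, cj, Subgroup.map_sup]
    show cj g d.1 ⊔ cj g (cj D'.weyl d.1) ≤ _
    rw [hgB]
    refine sup_le le_sup_left ?_
    have hgB' : cj g⁻¹ d.1 = d.1 := (congrArg (cj g⁻¹) hgB).symm.trans (cj_inv_cj g _)
    have e : cj g (cj D'.weyl d.1) = cj (g * D'.weyl * g⁻¹) d.1 := by
      rw [cj_cj, ← cj_cj (g * D'.weyl) g⁻¹, hgB']
    rw [e, D'.gen_weyl]
    refine h.conj d hd _ fun e he hed b hb => ?_
    have hb' : g⁻¹ * b * g ∈ e.1 := by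
      rcases eq_or_ne e c with rfl | hec
      · exact mem_cj.1 (hgA.ge hb)
      · rw [mul_assoc, ← hgR e he hec b hb, inv_mul_cancel_left]; exact hb
    have hw := ((h.fam.orth e he d hd hed).commute hinj hb' D'.weyl_mem).eq
    calc g * D'.weyl * g⁻¹ * b = g * (D'.weyl * (g⁻¹ * b * g)) * g⁻¹ := by group
      _ = g * ((g⁻¹ * b * g) * D'.weyl) * g⁻¹ := by rw [hw]
      _ = b * (g * D'.weyl * g⁻¹) := by group
  -- it fixes the line, hence acts on `V / fix L'` as a root element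
  have hBfix : ∀ b ∈ d.1, ∀ v, σ g (σ b v - v) = σ b v - v := fun b hb v =>
    ((h.fam.orth d hd c hc hne.symm) b hb g hgmem v).2
  have hline : ∀ v ∈ fix σ d.1, σ g v - v ∈ fix σ d.2 := by
    intro v hv
    obtain ⟨e, he⟩ := D'.surj ![0, D'.ψ v 0]
    have hy : v - (σ (D'.u 1) e - e) ∈ fix σ d.2 := (D'.ker _).1 (by
      rw [map_sub, D'.ψ_apply_sub, he, sub_eq_zero]
      ext i; fin_cases i
      · simp
      · exact D'.mem_fix_iff.1 hv)
    have e1 : σ g v - v =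
        σ g (v - (σ (D'.u 1) e - e)) - (v - (σ (D'.u 1) e - e)) := by
      rw [map_sub (σ g) v, hBfix _ (D'.u_mem 1)]; abel
    rw [e1]
    exact sub_mem (CellData.apply_mem_fix_grp hN hy) hy
  obtain ⟨b, hb, hgb, hgx⟩ := D'.exists_eq_root hN (hgR d hd hne.symm) hline
  obtain ⟨f, rfl⟩ := D'.exists_u hb
  haveI := D'.charP h.exp
  have hstep : ∀ v, D'.ψ (σ g v) = ![D'.ψ v 0 + f * D'.ψ v 1, D'.ψ v 1] := fun v => by
    rw [← D'.ψ_u, ← sub_eq_zero, ← map_sub]; exact (D'.ker _).2 (hgb v)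
  have hiter : ∀ (n : ℕ) v, D'.ψ (σ (g ^ n) v) 1 = D'.ψ v 1 ∧
      D'.ψ (σ (g ^ n) v) 0 = D'.ψ v 0 + (n : D'.F) * (f * D'.ψ v 1) := by
    intro n
    induction n with
    | zero => intro v; simp [apply_one]
    | succ n ih =>
      intro v
      obtain ⟨i1, i0⟩ := ih v
      rw [pow_succ', apply_mul, hstep, i1, i0]
      refine ⟨rfl, ?_⟩
      show D'.ψ v 0 + (n : D'.F) * (f * D'.ψ v 1) + f * D'.ψ v 1 = _
      push_cast; ring
  have hf : f = 0 := by
    obtain ⟨v, hv⟩ := D'.surj ![0, 1]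
    have hq1 : g ^ Fintype.card D.F = g := by
      have e : ζ ^ Fintype.card D.F = ζ := Units.ext (by
        rw [Units.val_pow_eq_pow_val]; exact FiniteField.pow_card _)
      rw [hgdef, hhL, ← SubgroupClass.coe_pow, ← map_pow, ← map_pow, e]
    haveI := D.charP h.exp
    have hz : (Fintype.card D.F : D'.F) = 0 :=
      (CharP.cast_eq_zero_iff D'.F p _).2 (CfsgLib.Linear.prime_dvd_card p)
    have e1 := (hiter (Fintype.card D.F) v).2
    rw [hq1, hstep, hv, hz] at e1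
    simpa using e1
  subst hf
  have hu0 : D'.u 0 = 1 := by
    show ((D'.φ.symm (upperUni 0) : d.2) : P) = 1
    rw [upperUni, Matrix.SpecialLinearGroup.transvection_coeff_zero, map_one]; rfl
  rw [hu0] at hgb hgx
  -- so `g` is orthogonal to the other group
  have hcomm : ∀ k ∈ d.2, Commute g k := fun k hk => by
    have := hgx k hk
    rw [one_mul, inv_one, mul_one, mul_inv_eq_iff_eq_mul] at this
    exact this
  have F2 : ∀ k ∈ d.2, ∀ v, σ k (σ g v - v) = σ g v - v := fun k hk v => by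
    have := hgb v
    rw [apply_one] at this
    exact this k hk
  have F1 : ∀ k ∈ d.2, ∀ v, σ g (σ k v - v) = σ k v - v := fun k hk v =>
    fix_of_commute (hcomm k hk).symm (F2 k hk v)
  have hfix : ∀ u, σ g u = u → u ∈ fix σ c.2 := by
    intro u hu
    refine (D.ker u).1 ?_
    have h1 : D.ψ (σ ((⟨g, hgmem⟩ : c.2) : P) u) = D.ψ u := congrArg D.ψ hu
    rw [D.equiv, hφ] at h1
    have hz1 : (ζ : D.F) ≠ 1 := fun e => hζ (Units.ext e)
    have hz2 : ((ζ⁻¹ : D.Fˣ) : D.F) ≠ 1 := fun e => hζ (inv_eq_one.1 (Units.ext e))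
    have a0 := congrFun h1 0
    have a1 := congrFun h1 1
    simp [torus_val, mulVec, dotProduct, Fin.sum_univ_two] at a0 a1

    ext i; fin_cases i
    · by_contra hne0
      exact hz1 ((mul_eq_right₀ hne0).1 a0)
    · by_contra hne0
      exact hz2 (by simpa using (mul_eq_right₀ hne0).1 a1)
  set w := D.weyl
  have hwg : w * g = g⁻¹ * w := by
    have e : D.φ.symm (CellData.weylSL D.F) * D.φ.symm (WeakClosed.Torus.diag ζ) =
        (D.φ.symm (WeakClosed.Torus.diag ζ))⁻¹ * D.φ.symm (CellData.weylSL D.F) := by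
      rw [← map_mul, ← map_inv, ← map_mul, ← map_inv]
      congr 1
      refine Subtype.ext ?_
      simp only [Matrix.SpecialLinearGroup.coe_mul, CellData.weylSL_val]
      ext i j; fin_cases i <;> fin_cases j <;> simp [torus_val, Matrix.mul_apply, Fin.sum_univ_two]
    exact congrArg Subtype.val e
  have F2' : ∀ k ∈ d.2, ∀ v, σ k (σ g⁻¹ v - v) = σ g⁻¹ v - v := fun k hk v => by
    have e : σ g⁻¹ v - v = -(σ g (σ g⁻¹ v) - σ g⁻¹ v) := by rw [apply_apply_inv]; abel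
    rw [e, map_neg, F2 k hk]
  have hw : w ∈ orthGroup σ hinj d.2 := by
    intro k hk v
    refine ⟨?_, hfix _ (F1 k hk v) w D.weyl_mem⟩
    obtain ⟨x, hx⟩ := D.surj ![D.ψ v 0 / ((ζ : D.F) - 1), D.ψ v 1 / (((ζ⁻¹ : D.Fˣ) : D.F) - 1)]
    have hy : v - (σ g x - x) ∈ fix σ c.2 := (D.ker _).1 (by
      rw [map_sub, map_sub, sub_eq_zero, show g = ((⟨g, hgmem⟩ : c.2) : P) from rfl, D.equiv, hφ, hx]
      have hz1 : (ζ : D.F) - 1 ≠ 0 := sub_ne_zero.2 fun e => hζ (Units.ext e)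
      have hz2 : ((ζ⁻¹ : D.Fˣ) : D.F) - 1 ≠ 0 :=
        sub_ne_zero.2 fun e => hζ (inv_eq_one.1 (Units.ext e))
      ext i; fin_cases i
      · simp [torus_val, mulVec, dotProduct, Fin.sum_univ_two]
        field_simp
      · have hz3 : 1 - (ζ : D.F) ≠ 0 := sub_ne_zero.2 fun e => hζ (Units.ext e.symm)
        simp [torus_val] at hz2 ⊢
        field_simp)
    have e1 : σ w v - v = σ w (σ g x - x) - (σ g x - x) := by
      have e2 := hy w D.weyl_mem
      rw [map_sub, sub_eq_sub_iff_sub_eq_sub] at e2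
      exact e2
    have e3 : σ w (σ g x - x) = σ g⁻¹ (σ w x) - σ w x := by
      rw [map_sub, ← apply_mul, hwg, apply_mul]
    rw [e1, e3, map_sub (σ k), F2' k hk, F2 k hk]
  have hA : c.1 ≤ orthGroup σ hinj d.2 :=
    (orth_iff_le_orthGroup hinj).1 (h.fam.orth c hc d hd hne).symm
  refine ((orth_iff_le_orthGroup hinj).2 ?_).symm
  rw [show c.2 = c.1 ⊔ cj w c.1 from D.gen_weyl.symm]
  refine sup_le hA ?_
  rintro _ ⟨a, ha, rfl⟩
  exact mul_mem (mul_mem hw (hA ha)) (inv_mem hw)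

theorem exists_triple {c : Subgroup P × Subgroup P} (hc : c ∈ 𝒜) (hq : Nat.card c.1 = 2) :
    Nonempty (Triple σ c.1 c.2) :=
  (h.fam.data ⟨c, hc⟩).exists_triple hq

/-- One-sided piercing is impossible. -/
theorem pierce_symm {c d : 𝒜} (hne : c ≠ d) (t : Triple σ c.1.1 c.1.2) (u : Triple σ d.1.1 d.1.2)
    (h2 : ∀ v : V, v + v = 0) (h1 : t.fd u.δ = 1) : u.fd t.δ = 1 := by
  refine (zmod_two_cases _).resolve_left fun h0 => ?_
  obtain ⟨tu, tv, tw⟩ := h.fam.cross hne t u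
  obtain ⟨ut, uv, uw⟩ := h.fam.cross hne.symm u t
  have s1 := t.hd.mul h2 (t.hd.conj_right h2 u.hd u.dd h0 h1) t.dd
  have s2 : IsTrv σ (t.d * (u.d * t.d * u.d⁻¹)) t.δ u.fd :=
    s1.congr rfl fun v => by
      simp only [AddMonoidHom.add_apply, ← add_assoc, zmod_two_add_self, zero_add]
  have e1 : (t.fd + t.fa) t.δ = 1 := by simp [t.dd, t.ad]
  have e2 : u.fd (t.δ + t.α) = 0 := by simp [h0, uw]
  have s3 := (s2.conj_left h2 (t.other h2 h.inj) t.other_self e1 e2).congr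
    (show t.δ + (t.δ + t.α) = t.α by rw [← add_assoc, h2, zero_add]) fun _ => rfl
  have e3 : (u.fd + u.fa) t.α = 0 := by simp [uw, ut]
  have e4 : u.fd (u.δ + u.α) = 1 := by simp [u.dd, u.da]
  have s4 := (s3.conj_right h2 (u.other h2 h.inj) u.other_self e3 e4).congr rfl
    (f' := u.fa) fun v => by
      simp only [AddMonoidHom.add_apply, ← add_assoc, zmod_two_add_self, zero_add]
  set r := u.a * u.d * u.a * (t.a * t.d * t.a * (t.d * (u.d * t.d * u.d⁻¹)) * (t.a * t.d * t.a)⁻¹) *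
    (u.a * u.d * u.a)⁻¹
  have hα := h.fam.trv_fix_join t
  have hmin : IsMinOff σ (zpowers r) := s4.isMinOff h2 h.inj ut u.ad t.α_ne
  obtain ⟨C, hC, hCe⟩ := h.trv r (fun e he b hb =>
    h.fam.trv_commute h.inj s4 hα (fun w hw => h.fam.fa_eq_zero u hw) he hb) hmin
  have hrC : r ∈ C.1 := hCe.le (mem_zpowers r)
  have hru : σ r u.δ = u.δ + t.α := by rw [s4 u.δ, u.ad, sc_one]
  by_cases hCc : C = c.1
  · subst hCc
    rcases t.rootB r hrC with e | e
    · rw [e, apply_one] at hru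
      exact t.α_ne (by simpa using hru.symm)
    · rw [e, t.ha u.δ, tv, sc_zero, add_zero] at hru
      exact t.α_ne (by simpa using hru.symm)
  · refine t.moved fun l hl => ?_
    have := ((h.fam.orth C hC c.1 c.2 hCc) r hrC l hl u.δ).2
    rwa [hru, add_sub_cancel_left] at this

/-- Two members are orthogonal or linked. -/
theorem dich {c d : Subgroup P × Subgroup P} (hc : c ∈ 𝒜) (hd : d ∈ 𝒜) (hne : c ≠ d) :
    Orth σ c.2 d.2 ∨ Linked σ c d := by
  by_cases hqc : Nat.card c.1 = 2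
  swap; · exact Or.inl (h.orth_of_card hc hd hne hqc)
  by_cases hqd : Nat.card d.1 = 2
  swap; · exact Or.inl (h.orth_of_card hd hc hne.symm hqd).symm
  have h2 := h.two hc hqc
  obtain ⟨t⟩ := h.exists_triple hc hqc
  obtain ⟨u⟩ := h.exists_triple hd hqd
  have hne' : (⟨c, hc⟩ : 𝒜) ≠ ⟨d, hd⟩ := fun e => hne (congrArg Subtype.val e)
  rcases zmod_two_cases (t.fd u.δ) with hx | hx
  · have hy : u.fd t.δ = 0 := (zmod_two_cases _).resolve_right fun hy =>
      zero_ne_one (hx.symm.trans (h.pierce_symm (c := ⟨d, hd⟩) (d := ⟨c, hc⟩) hne'.symm u t h2 hy))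
    left
    refine (orth_iff_le_orthGroup h.inj).2 ?_
    refine u.gen _ ((orth_iff_le_orthGroup h.inj).1 (h.fam.orth d hd c hc hne.symm).symm u.memB) ?_
    have hde : ∀ v, σ t.d (σ u.d v - v) = σ u.d v - v := fun v => by
      rw [u.hd.sub, apply_sc (σ := σ) t.d, t.hd u.δ, hx, sc_zero, add_zero]
    have hed : ∀ v, σ u.d (σ t.d v - v) = σ t.d v - v := fun v => by
      rw [t.hd.sub, apply_sc (σ := σ) u.d, u.hd t.δ, hy, sc_zero, add_zero]
    have hle : c.2 ≤ orthGroup σ h.inj (zpowers u.d) := by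
      refine t.gen _ ?_ ?_
      · exact (orth_iff_le_orthGroup h.inj).1
          ((h.fam.orth c hc d hd hne).symm.mono (zpowers_le.2 u.memL) le_rfl) t.memB
      · intro x hx' v
        rcases (show x = 1 ∨ x = u.d by
          obtain ⟨n, rfl⟩ := mem_zpowers_iff.1 hx'
          have hord : u.d ^ (2 : ℕ) = 1 := by rw [pow_two]; exact u.hd.inv_eq h2 h.inj u.dd
          rcases Int.even_or_odd' n with ⟨m, rfl | rfl⟩
          · left; rw [_root_.zpow_mul, zpow_ofNat, hord, _root_.one_zpow]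
          · right; rw [_root_.zpow_add, _root_.zpow_mul, zpow_ofNat, hord, _root_.one_zpow, one_mul, zpow_one])
          with rfl | rfl
        · simp [apply_one]
        · exact ⟨hed v, hde v⟩
    exact fun x hx' v => ((orth_iff_le_orthGroup h.inj).2 hle u.d (mem_zpowers _) x hx' v).symm
  · right
    have hy := h.pierce_symm hne' t u h2 hx
    refine ⟨hqc, hqd, fun g hg hgn hgg k hk hkn hkk => ?_⟩
    obtain ⟨tu, tv, tw⟩ := h.fam.cross hne' t u
    obtain ⟨ut, uv, uw⟩ := h.fam.cross hne'.symm u t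
    obtain ⟨dg, fg, hgT, hg0, hg1, hgs⟩ : ∃ dg fg, IsTrv σ g dg fg ∧ dg ≠ 0 ∧ fg t.α = 1 ∧
        fg u.δ = 1 ∧ fg u.α = 0 ∧ u.fd dg = 1 ∧ u.fa dg = 0 := by
      rcases t.inv g hg hgg hgn with rfl | rfl
      · exact ⟨t.δ, t.fd, t.hd, t.δ_ne, t.da, hx, tw, hy, uv⟩
      · refine ⟨_, _, t.other h2 h.inj, t.δα_ne, ?_, ?_, ?_, ?_, ?_⟩
        · simp [t.da, t.aa]
        · simp [hx, tv]
        · simp [tw, tu]
        · simp [hy, uw]
        · simp [uv, ut]
    obtain ⟨g1, g2, g3, g4⟩ := hgs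
    obtain ⟨dk, fk, hkT, hk0, hk1, hgk, hkg⟩ : ∃ dk fk, IsTrv σ k dk fk ∧ dk ≠ 0 ∧ fk u.α = 1 ∧
        fg dk = 1 ∧ fk dg = 1 := by
      rcases u.inv k hk hkk hkn with rfl | rfl
      · exact ⟨u.δ, u.fd, u.hd, u.δ_ne, u.da, g1, g3⟩
      · refine ⟨_, _, u.other h2 h.inj, u.δα_ne, ?_, ?_, ?_⟩
        · simp [u.da, u.aa]
        · simp [g1, g2]
        · simp [g3, g4]
    exact ⟨hgT.pierce hkT hg0 hgk hk1, hkT.pierce hgT hk0 hkg hg1⟩

/-- Linking is transitive. -/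
theorem link_trans {c d e : Subgroup P × Subgroup P} (hc : c ∈ 𝒜) (hd : d ∈ 𝒜) (he : e ∈ 𝒜)
    (hce : c ≠ e) (hcd : Linked σ c d) (hde : Linked σ d e) : Linked σ c e := by
  refine (h.dich hc he hce).resolve_left fun ho => ?_
  have h2 := h.two hd hcd.2.1
  obtain ⟨t⟩ := h.exists_triple hd hcd.2.1
  obtain ⟨u⟩ := h.exists_triple hc hcd.1
  obtain ⟨w⟩ := h.exists_triple he hde.2.1
  have pp : ∀ {B L : Subgroup P} (x : Triple σ B L) {B' L' : Subgroup P} (y : Triple σ B' L'),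
      Pierce σ x.d y.d → x.fd y.δ = 1 := by
    intro B L x B' L' y ⟨v, hv⟩
    refine (zmod_two_cases _).resolve_left fun h0 => hv ?_
    rw [y.hd.sub, apply_sc (σ := σ) x.d, x.hd y.δ, h0, sc_zero, add_zero]
  have hsq : ∀ {B L : Subgroup P} (x : Triple σ B L), x.d * x.d = 1 :=
    fun x => x.hd.inv_eq h2 h.inj x.dd
  obtain ⟨p1, p2⟩ := hcd.2.2 u.d u.memL u.notB (hsq u) t.d t.memL t.notB (hsq t)
  obtain ⟨p3, p4⟩ := hde.2.2 t.d t.memL t.notB (hsq t) w.d w.memL w.notB (hsq w)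
  have a1 := pp u t p1
  have a2 := pp t u p2
  have a3 := pp t w p3
  have a4 := pp w t p4
  have a5 : u.fd w.δ = 0 := by
    refine u.hd.apply_zero u.δ_ne ?_
    have := (ho u.d u.memL w.d w.memL w.α).1
    rwa [w.hd.sub, w.da, sc_one] at this
  have a6 : w.fd u.δ = 0 := by
    refine w.hd.apply_zero w.δ_ne ?_
    have := (ho u.d u.memL w.d w.memL u.α).2
    rwa [u.hd.sub, u.da, sc_one] at this
  have ncd : (⟨c, hc⟩ : 𝒜) ≠ ⟨d, hd⟩ := fun e' => by
    obtain ⟨v, hv⟩ := (hcd.2.2 u.d u.memL u.notB (hsq u) u.d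
      ((congrArg (fun x : 𝒜 => x.1.2) e').le u.memL)
      (fun hb => u.notB ((congrArg (fun x : 𝒜 => x.1.1) e').ge hb)) (hsq u)).1
    exact hv (by rw [u.hd.sub, apply_sc (σ := σ) u.d, u.hd u.δ, u.dd, sc_zero, add_zero])
  have nde : (⟨d, hd⟩ : 𝒜) ≠ ⟨e, he⟩ := fun e' => by
    obtain ⟨v, hv⟩ := (hde.2.2 t.d t.memL t.notB (hsq t) t.d
      ((congrArg (fun x : 𝒜 => x.1.2) e').le t.memL)
      (fun hb => t.notB ((congrArg (fun x : 𝒜 => x.1.1) e').ge hb)) (hsq t)).1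
    exact hv (by rw [t.hd.sub, apply_sc (σ := σ) t.d, t.hd t.δ, t.dd, sc_zero, add_zero])
  have nce : (⟨c, hc⟩ : 𝒜) ≠ ⟨e, he⟩ := fun e' => hce (congrArg Subtype.val e')
  obtain ⟨ut, ut', ut''⟩ := h.fam.cross ncd u t
  obtain ⟨tu, tu', tu''⟩ := h.fam.cross ncd.symm t u
  obtain ⟨tw, tw', tw''⟩ := h.fam.cross nde t w
  obtain ⟨wt', wt'', wt'''⟩ := h.fam.cross nde.symm w t
  obtain ⟨uw, uw', uw''⟩ := h.fam.cross nce u w
  obtain ⟨wu, wu', wu''⟩ := h.fam.cross nce.symm w u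
  have kfa : ∀ a b c : ZMod 2, a + b + c + (a + b) = c := by decide
  have s1 : IsTrv σ _ (t.δ + u.δ) (t.fd + u.fd) := t.hd.conj_one h2 u.hd u.dd a1 a2
  have s2 : IsTrv σ _ (t.δ + u.δ + w.δ) (t.fd + u.fd + w.fd) :=
    s1.conj_one h2 w.hd w.dd (by simp [a4, a6]) (by simp [a3, a5])
  have s3 : IsTrv σ _ (t.α + u.δ + w.δ) (u.fd + w.fd + t.fa) :=
    (s2.conj_one h2 (t.other h2 h.inj) t.other_self
      (by simp [t.dd, t.ad, a2, a3, tu', tw']; decide)
      (by simp [t.dd, t.da, a1, a4, ut'', wt''']; decide)).congr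
      (by
        rw [show t.δ + u.δ + w.δ + (t.δ + t.α) = (t.δ + t.δ) + (t.α + u.δ + w.δ) by abel, h2, zero_add])
      (fun v => by
        simp only [AddMonoidHom.add_apply]
        generalize t.fd v = a, t.fa v = b, u.fd v = c', w.fd v = d'
        revert a b c' d'; decide)
  have s4 : IsTrv σ _ (t.α + u.α + w.δ) (w.fd + t.fa + u.fa) :=
    (s3.conj_one h2 (u.other h2 h.inj) u.other_self
      (by simp [u.dd, u.ad, a5, ut, ut'', uw'])
      (by simp [u.dd, u.da, a6, tu, tu', wu''])).congr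
      (by
        rw [show t.α + u.δ + w.δ + (u.δ + u.α) = (u.δ + u.δ) + (t.α + u.α + w.δ) by abel, h2, zero_add])
      (fun v => by
        simp only [AddMonoidHom.add_apply]
        generalize w.fd v = a, t.fa v = b, u.fd v = c', u.fa v = d'
        revert a b c' d'; decide)
  have s5 : IsTrv σ _ (t.α + u.α + w.α) (t.fa + u.fa + w.fa) :=
    (s4.conj_one h2 (w.other h2 h.inj) w.other_self
      (by simp [w.dd, w.ad, wt', wt''', wu, wu''])
      (by simp [w.dd, w.da, tw, tw', uw, uw'])).congr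
      (by
        rw [show t.α + u.α + w.δ + (w.δ + w.α) = (w.δ + w.δ) + (t.α + u.α + w.α) by abel, h2, zero_add])
      (fun v => by
        simp only [AddMonoidHom.add_apply]
        generalize t.fa v = a, u.fa v = b, w.fd v = c', w.fa v = d'
        revert a b c' d'; decide)
  set A := t.α + u.α + w.α
  have hA : A ∈ fix σ (rootsJoin 𝒜) :=
    add_mem (add_mem (h.fam.trv_fix_join (c := ⟨d, hd⟩) t) (h.fam.trv_fix_join (c := ⟨c, hc⟩) u))
      (h.fam.trv_fix_join (c := ⟨e, he⟩) w)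
  have hkill : ∀ x ∈ fix σ (rootsJoin 𝒜), (t.fa + u.fa + w.fa) x = 0 := fun x hx => by
    simp [h.fam.fa_eq_zero (c := ⟨d, hd⟩) t hx, h.fam.fa_eq_zero (c := ⟨c, hc⟩) u hx,
      h.fam.fa_eq_zero (c := ⟨e, he⟩) w hx]
  have htA : t.fd A = 1 := by simp [A, t.da, tu'', tw'']
  have huA : u.fd A = 1 := by simp [A, u.da, ut'', uw'']
  have hA0 : A ≠ 0 := fun e' => by simp [e'] at htA
  have hv0 : (t.fa + u.fa + w.fa) t.δ = 1 := by simp [t.ad, ut', wt'']
  have hmin := s5.isMinOff h2 h.inj (hkill A hA) hv0 hA0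
  obtain ⟨C, hC, hCe⟩ := h.trv _ (fun e' he' b hb => h.fam.trv_commute h.inj s5 hA hkill he' hb) hmin
  have hrC := hCe.le (mem_zpowers _)
  have key : ∀ {m : Subgroup P × Subgroup P} (hm : m ∈ 𝒜) (x : Triple σ m.1 m.2), x.fd A = 1 →
      C = m := by
    intro m hm x hx
    by_contra hCm
    have h3 := ((h.fam.orth C hC m hm hCm) _ hrC x.d x.memL t.δ).2
    rw [s5.sub, hv0, sc_one] at h3
    rw [x.hd.apply_zero x.δ_ne h3] at hx
    exact zero_ne_one hx
  exact ncd (Subtype.ext ((key hc u huA).symm.trans (key hd t htA)))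

end Sys

end CfsgLib.FFCells
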