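import Cfsg.Agent.FFCells.Semilinear

/-!
A family of cells whose roots are orthogonal to the other groups: coordinates, the join `J` of the roots, and
the subgroups of `J` of weight at least `|V|`.
-/

set_option autoImplicit false

namespace CfsgLib.FFCells

open Subgroup CfsgLib.SL2Recognition

variable {P V : Type*} [Group P] [AddCommGroup V] {σ : P →* AddMonoid.End V}

/-- The root of a member. -/
abbrev rt (c : Subgroup P × Subgroup P) : Subgroup P := c.1

/-- A family of cells. -/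
structure Fam (σ : P →* AddMonoid.End V) (𝒞 : Set (Subgroup P × Subgroup P)) : Prop where
  cell : ∀ c ∈ 𝒞, IsCell σ c.1 c.2
  orth : ∀ c ∈ 𝒞, ∀ d ∈ 𝒞, c ≠ d → Orth σ c.1 d.2

/-- The join of the roots. -/
def rootsJoin (𝒞 : Set (Subgroup P × Subgroup P)) : Subgroup P := ⨆ c : 𝒞, rt c.1

/-- The join of the groups. -/
def grpsJoin (𝒞 : Set (Subgroup P × Subgroup P)) : Subgroup P := ⨆ c : 𝒞, c.1.2

namespace Fam

variable {𝒞 : Set (Subgroup P × Subgroup P)} (hF : Fam σ 𝒞)
include hF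

theorem subset {𝒟 : Set (Subgroup P × Subgroup P)} (h : 𝒟 ⊆ 𝒞) : Fam σ 𝒟 :=
  ⟨fun c hc => hF.cell c (h hc), fun c hc d hd => hF.orth c (h hc) d (h hd)⟩

/-- Coordinates of a member. -/
noncomputable def data (c : 𝒞) : CellData σ c.1.1 c.1.2 := (hF.cell c.1 c.2).some

theorem root_le_join (c : 𝒞) : c.1.1 ≤ rootsJoin 𝒞 := le_iSup (fun c : 𝒞 => rt c.1) c

theorem ψ_root {c d : 𝒞} (h : c ≠ d) {b : P} (hb : b ∈ d.1.1) (v : V) :
    (hF.data c).ψ (σ b v) = (hF.data c).ψ v := by
  rw [← sub_eq_zero, ← map_sub, (hF.data c).ker]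
  intro l hl
  exact ((hF.orth d.1 d.2 c.1 c.2 (fun e => h (Subtype.ext e.symm))) b hb l hl v).2

theorem root_inj [Finite P] (hinj : Function.Injective σ) {c d : 𝒞} (h : c.1.1 = d.1.1) : c = d := by
  by_contra hne
  set D := hF.data d
  have ho : Orth σ d.1.1 d.1.2 := h ▸ hF.orth c.1 c.2 d.1 d.2 (fun e => hne (Subtype.ext e))
  refine D.weyl_notMem (mem_normalizer_of_cj_le ?_)
  rintro _ ⟨b, hb, rfl⟩
  show D.weyl * b * D.weyl⁻¹ ∈ _
  rw [← (ho.commute hinj hb D.weyl_mem).eq, mul_inv_cancel_right]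
  exact hb

theorem root_orth {c d : 𝒞} (h : c ≠ d) : Orth σ c.1.1 d.1.1 :=
  (hF.orth c.1 c.2 d.1 d.2 fun e => h (Subtype.ext e)).mono le_rfl (hF.data d).le

theorem mem_fix_join {v : V} :
    v ∈ fix σ (rootsJoin 𝒞) ↔ ∀ c : 𝒞, (hF.data c).ψ v 1 = 0 :=
  ⟨fun h c => (hF.data c).mem_fix_iff.1 (fix_anti σ (hF.root_le_join c) h),
    fun h => fix_iSup _ fun c => (hF.data c).fixB v (h c)⟩

theorem mem_fix_grps {v : V} :
    v ∈ fix σ (grpsJoin 𝒞) ↔ ∀ c : 𝒞, (hF.data c).ψ v = 0 :=
  ⟨fun h c => ((hF.data c).ker v).2 (fix_anti σ (le_iSup (fun c : 𝒞 => c.1.2) c) h),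
    fun h => fix_iSup _ fun c => ((hF.data c).ker v).1 (h c)⟩

theorem root_sub_mem (c : 𝒞) {b : P} (hb : b ∈ c.1.1) (v : V) :
    σ b v - v ∈ fix σ (rootsJoin 𝒞) := by
  refine fix_iSup _ fun d => ?_
  rcases eq_or_ne d c with rfl | h
  · exact (hF.data d).apply_sub_mem_fix hb v
  · exact fun a ha => ((hF.root_orth h) a ha b hb v).1

theorem ψ_root_sub_ne {c d : 𝒞} (h : d ≠ c) {b : P} (hb : b ∈ c.1.1) (v : V) :
    (hF.data d).ψ (σ b v - v) = 0 := by rw [map_sub, hF.ψ_root h hb, sub_self]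

/-- A vector with prescribed line coordinates. -/
theorem exists_line [Fintype 𝒞] (f : ∀ c : 𝒞, (hF.data c).F) :
    ∃ v ∈ fix σ (rootsJoin 𝒞), ∀ c, (hF.data c).ψ v = ![f c, 0] := by
  classical
  have h : ∀ c : 𝒞, ∃ v, (hF.data c).ψ v = ![0, f c] := fun c => (hF.data c).surj _
  choose e he using h
  refine ⟨∑ c, (σ ((hF.data c).u 1) (e c) - e c),
    sum_mem fun c _ => hF.root_sub_mem c ((hF.data c).u_mem 1) _, fun c => ?_⟩
  rw [map_sum, Finset.sum_eq_single c (fun d _ hd => hF.ψ_root_sub_ne hd.symm ((hF.data d).u_mem 1) _)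
    (fun h => absurd (Finset.mem_univ c) h), (hF.data c).ψ_apply_sub, he]
  simp

theorem low_sub_fix {c d : 𝒞} (h : d ≠ c) (t : (hF.data c).F) (v : V) :
    σ ((hF.data c).low t) v - v ∈ fix σ d.1.1 :=
  fun b hb => ((hF.orth d.1 d.2 c.1 c.2 fun e => h (Subtype.ext e)) b hb _ ((hF.data c).low_mem t) v).1

/-- A vector with prescribed transversal coordinates. -/
theorem exists_transversal [Fintype 𝒞] (f : ∀ c : 𝒞, (hF.data c).F) :
    ∃ v, ∀ c, (hF.data c).ψ v 1 = f c := by
  classical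
  have h : ∀ c : 𝒞, ∃ v, (hF.data c).ψ v = ![1, 0] := fun c => (hF.data c).surj _
  choose e he using h
  refine ⟨∑ c, (σ ((hF.data c).low (f c)) (e c) - e c), fun c => ?_⟩
  rw [map_sum, Finset.sum_apply, Finset.sum_eq_single c (fun d _ hd =>
      (hF.data c).mem_fix_iff.1 (hF.low_sub_fix hd.symm _ _))
    (fun h => absurd (Finset.mem_univ c) h), (hF.data c).ψ_low_sub, he]
  simp

/-- Elements of `J` move every vector by the sum of their components. -/
theorem exists_components [Fintype 𝒞] {j : P} (hj : j ∈ rootsJoin 𝒞) :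
    ∃ t : ∀ c : 𝒞, (hF.data c).F,
      ∀ v, σ j v - v = ∑ c, (σ ((hF.data c).u (t c)) v - v) := by
  classical
  have hadd : ∀ (c : 𝒞) (a b : (hF.data c).F) v, σ ((hF.data c).u (a + b)) v - v =
      (σ ((hF.data c).u a) v - v) + (σ ((hF.data c).u b) v - v) := by
    intro c a b v
    have e : (hF.data c).u (a + b) = (hF.data c).u a * (hF.data c).u b := by
      show (((hF.data c).φ.symm (CfsgLib.Linear.upperUni (a + b)) : c.1.2) : P) = _
      rw [CfsgLib.Linear.upperUni, Matrix.SpecialLinearGroup.transvection_add, map_mul]; rfl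
    have hq := (hF.data c).quad _ ((hF.data c).u_mem a) _ ((hF.data c).u_mem b) v
    rw [e, apply_mul, ← sub_add_cancel (σ ((hF.data c).u b) v) v, map_add, hq]
    abel
  have hzero : ∀ (c : 𝒞) v, σ ((hF.data c).u 0) v - v = 0 := fun c v => by
    have h := hadd c 0 0 v
    rw [add_zero] at h
    simpa using h
  let S : Subgroup P :=
    { carrier := {j | (∀ v, σ j v - v ∈ fix σ (rootsJoin 𝒞)) ∧ ∃ t : ∀ c : 𝒞, (hF.data c).F,
        ∀ v, σ j v - v = ∑ c, (σ ((hF.data c).u (t c)) v - v)}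
      one_mem' := ⟨fun v => by rw [apply_one, sub_self]; exact zero_mem _, fun _ => 0, fun v => by
        rw [apply_one, sub_self, Finset.sum_eq_zero fun c _ => hzero c v]⟩
      mul_mem' := fun {j k} hj hk => by
        obtain ⟨hjf, t, ht⟩ := hj
        obtain ⟨hkf, s, hs⟩ := hk
        have hdec : ∀ v, σ (j * k) v - v =
            (∑ c, (σ ((hF.data c).u (t c)) v - v)) + ∑ c, (σ ((hF.data c).u (s c)) v - v) := by
          intro v
          rw [← hs, show σ (j * k) v - v = (σ j (σ k v) - σ k v) + (σ k v - v) by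
            rw [apply_mul]; abel, ht]
          congr 1
          refine Finset.sum_congr rfl fun c _ => ?_
          conv_lhs => rw [← sub_add_cancel (σ k v) v, map_add,
            fix_anti σ (hF.root_le_join c) (hkf v) _ ((hF.data c).u_mem _)]
          abel
        refine ⟨fun v => ?_, fun c => t c + s c, fun v => ?_⟩
        · rw [hdec]
          exact add_mem (sum_mem fun c _ => hF.root_sub_mem c ((hF.data c).u_mem _) v)
            (sum_mem fun c _ => hF.root_sub_mem c ((hF.data c).u_mem _) v)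
        · rw [hdec, ← Finset.sum_add_distrib]
          exact Finset.sum_congr rfl fun c _ => (hadd c _ _ v).symm
      inv_mem' := fun {j} hj => by
        obtain ⟨hjf, t, ht⟩ := hj
        have hinv : ∀ v, σ j⁻¹ v - v = -(σ j (σ j⁻¹ v) - σ j⁻¹ v) := fun v => by
          rw [apply_apply_inv]; abel
        refine ⟨fun v => by rw [hinv]; exact neg_mem (hjf _), fun c => -t c, fun v => ?_⟩
        have h2 : ∀ c : 𝒞, σ ((hF.data c).u (t c)) (σ j⁻¹ v) - σ j⁻¹ v =
            σ ((hF.data c).u (t c)) v - v := fun c => by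
          have hm : σ j⁻¹ v - v ∈ fix σ (rootsJoin 𝒞) := by rw [hinv]; exact neg_mem (hjf _)
          conv_lhs => rw [← sub_add_cancel (σ j⁻¹ v) v, map_add,
            fix_anti σ (hF.root_le_join c) hm _ ((hF.data c).u_mem _)]
          abel
        rw [hinv, ht, ← Finset.sum_neg_distrib]
        refine Finset.sum_congr rfl fun c _ => ?_
        rw [h2]
        have h3 := hadd c (t c) (-t c) v
        rw [add_neg_cancel, hzero] at h3
        exact (eq_neg_of_add_eq_zero_right h3.symm).symm }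
  refine ((show rootsJoin 𝒞 ≤ S from iSup_le fun c => fun b hb => ?_) hj).2
  obtain ⟨s, rfl⟩ := (hF.data c).exists_u hb
  refine ⟨fun v => hF.root_sub_mem c hb v, Function.update (fun _ => 0) c s, fun v => ?_⟩
  rw [Finset.sum_eq_single c (fun d _ hd => by rw [Function.update_of_ne hd, hzero])
    (fun h => absurd (Finset.mem_univ c) h), Function.update_self]

/-- The element of `J` with prescribed components, acting on each group like its component. -/
theorem exists_element [Fintype 𝒞] (hinj : Function.Injective σ) (f : ∀ c : 𝒞, (hF.data c).F) :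
    ∃ j ∈ rootsJoin 𝒞, (∀ v, σ j v - v = ∑ c, (σ ((hF.data c).u (f c)) v - v)) ∧
      ∀ c : 𝒞, ∀ l ∈ c.1.2, j * l * j⁻¹ = (hF.data c).u (f c) * l * ((hF.data c).u (f c))⁻¹ := by
  classical
  suffices h : ∀ s : Finset 𝒞, ∃ j ∈ ⨆ c ∈ s, rt c.1,
      (∀ v, σ j v - v = ∑ c ∈ s, (σ ((hF.data c).u (f c)) v - v)) ∧
      (∀ c : 𝒞, ∀ l ∈ c.1.2, j * l * j⁻¹ = if c ∈ s then
        (hF.data c).u (f c) * l * ((hF.data c).u (f c))⁻¹ else l) by
    obtain ⟨j, hj, h1, h2⟩ := h Finset.univ
    refine ⟨j, (iSup₂_le fun c _ => hF.root_le_join c) hj, h1, fun c l hl => ?_⟩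
    rw [h2 c l hl, if_pos (Finset.mem_univ c)]
  intro s
  induction s using Finset.induction with
  | empty =>
    exact ⟨1, one_mem _, fun v => by simp [apply_one], fun c l _ => by simp⟩
  | insert c s hcs ih =>
    obtain ⟨j, hj, h1, h2⟩ := ih
    set b := (hF.data c).u (f c) with hb
    have hbm : b ∈ c.1.1 := (hF.data c).u_mem _
    have hmono : (⨆ d ∈ s, rt d.1) ≤ ⨆ d ∈ insert c s, rt d.1 :=
      biSup_mono fun d hd => Finset.mem_insert_of_mem hd
    have hj' : j ∈ ⨆ d ∈ insert c s, rt d.1 := hmono hj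
    refine ⟨b * j, mul_mem (le_iSup₂ (f := fun (d : 𝒞) (_ : d ∈ insert c s) => rt d.1) c
      (Finset.mem_insert_self c s) hbm) hj', fun v => ?_, fun d l hl => ?_⟩
    · have hfixj : σ j v - v ∈ fix σ c.1.1 := by
        rw [h1]
        exact sum_mem fun d _ => fix_anti σ (hF.root_le_join c) (hF.root_sub_mem d ((hF.data d).u_mem _) v)
      rw [Finset.sum_insert hcs, ← h1, apply_mul]
      conv_lhs => rw [← sub_add_cancel (σ j v) v, map_add, hfixj b hbm]
      abel
    · have e : b * j * l * (b * j)⁻¹ = b * (j * l * j⁻¹) * b⁻¹ := by group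
      rw [e, h2 d l hl]
      rcases eq_or_ne d c with rfl | hdc
      · rw [if_neg hcs, if_pos (Finset.mem_insert_self _ _)]
      · have hcomm : ∀ m ∈ d.1.2, b * m * b⁻¹ = m := fun m hm => by
          rw [((hF.orth c.1 c.2 d.1 d.2 fun e => hdc (Subtype.ext e.symm)).commute hinj hbm hm).eq,
            mul_inv_cancel_right]
        by_cases hds : d ∈ s
        · rw [if_pos hds, if_pos (Finset.mem_insert_of_mem hds)]
          exact hcomm _ (mul_mem (mul_mem ((hF.data d).u_memL _) hl) (inv_mem ((hF.data d).u_memL _)))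
        · rw [if_neg hds, if_neg (by simp [hdc, hds]), hcomm l hl]

theorem components_ψ [Fintype 𝒞] {j : P} {t : ∀ c : 𝒞, (hF.data c).F}
    (ht : ∀ v, σ j v - v = ∑ c, (σ ((hF.data c).u (t c)) v - v)) (c : 𝒞) (v : V) :
    (hF.data c).ψ (σ j v - v) = ![t c * (hF.data c).ψ v 1, 0] := by
  classical
  rw [ht, map_sum, Finset.sum_eq_single c
    (fun d _ hd => hF.ψ_root_sub_ne hd.symm ((hF.data d).u_mem _) _)
    (fun h => absurd (Finset.mem_univ c) h), (hF.data c).ψ_apply_sub]

variable [Finite P] [Finite V]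

/-- `|V| = |J| · |fix J|`. -/
theorem wt_join (hinj : Function.Injective σ) : wt σ (rootsJoin 𝒞) = Nat.card V := by
  classical
  haveI : Fintype 𝒞 := Fintype.ofFinite _
  let Y : V →+ (∀ c : 𝒞, (hF.data c).F) :=
    AddMonoidHom.mk' (fun v c => (hF.data c).ψ v 1) fun v w => by funext c; simp
  have hYs : Function.Surjective Y := fun f => (hF.exists_transversal f).imp fun v hv => funext hv
  have hYk : Y.ker = fix σ (rootsJoin 𝒞) := AddSubgroup.ext fun v => by
    rw [hF.mem_fix_join, AddMonoidHom.mem_ker]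
    exact ⟨fun h c => congrFun h c, fun h => funext h⟩
  have h1 : Nat.card V = Nat.card (∀ c : 𝒞, (hF.data c).F) * Nat.card (fix σ (rootsJoin 𝒞)) := by
    rw [AddSubgroup.card_eq_card_quotient_mul_card_addSubgroup Y.ker,
      Nat.card_congr (QuotientAddGroup.quotientKerEquivOfSurjective Y hYs).toEquiv, hYk]
  have hex := fun j : rootsJoin 𝒞 => hF.exists_components j.2
  choose t ht using hex
  have hbij : Function.Bijective t := by
    refine ⟨fun j k h => Subtype.ext (hinj (AddMonoidHom.ext fun v => ?_)), fun f => ?_⟩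
    · have h1 := ht j v
      rw [h, ← ht k v] at h1
      exact sub_left_injective h1
    · obtain ⟨j, hj, hjv, -⟩ := hF.exists_element hinj f
      refine ⟨⟨j, hj⟩, funext fun c => ?_⟩
      obtain ⟨v, hv⟩ := (hF.data c).surj ![0, 1]
      have e1 := hF.components_ψ (ht ⟨j, hj⟩) c v
      rw [hF.components_ψ hjv c v, hv] at e1
      simpa using (congrFun e1 0).symm
  rw [wt, h1, Nat.card_congr (Equiv.ofBijective t hbij)]

/-- A subgroup of `J` has weight at most `|V|`, with equality only for joins of roots. -/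
theorem wt_le_of_le (hinj : Function.Injective σ) {B : Subgroup P} (hB : B ≤ rootsJoin 𝒞) :
    wt σ B ≤ Nat.card V ∧
      (Nat.card V ≤ wt σ B → ∃ 𝒟 ⊆ 𝒞, B = rootsJoin 𝒟) := by
  classical
  haveI : Fintype 𝒞 := Fintype.ofFinite _
  have hex := fun b : B => hF.exists_components (hB b.2)
  choose t ht using hex
  let 𝒟 : Set (Subgroup P × Subgroup P) := {c | ∃ h : c ∈ 𝒞, ∃ b : B, t b ⟨c, h⟩ ≠ 0}
  have h𝒟 : 𝒟 ⊆ 𝒞 := fun c hc => hc.1
  have hF' := hF.subset h𝒟
  haveI : Fintype 𝒟 := Fintype.ofFinite _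
  have hBle : B ≤ rootsJoin 𝒟 := fun b hb => by
    obtain ⟨j, hj, hjv, -⟩ := hF.exists_element hinj (t ⟨b, hb⟩)
    have e : b = j := hinj (AddMonoidHom.ext fun v => by
      have := ht ⟨b, hb⟩ v
      rw [← hjv v] at this
      exact sub_left_injective this)
    have hmem : ∀ s : Finset 𝒞, (∀ c ∈ s, c.1 ∈ 𝒟 ∨ (hF.data c).u (t ⟨b, hb⟩ c) = 1) →
        ∀ k : P, (∀ v, σ k v - v = ∑ c ∈ s, (σ ((hF.data c).u (t ⟨b, hb⟩ c)) v - v)) →
        k ∈ rootsJoin 𝒟 := by
      intro s
      induction s using Finset.induction with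
      | empty =>
        intro _ k hk
        have : k = 1 := hinj (AddMonoidHom.ext fun v => by
          have := hk v
          rw [Finset.sum_empty, sub_eq_zero] at this
          show σ k v = σ 1 v
          rw [apply_one, this])
        rw [this]; exact one_mem _
      | insert c s hcs ih =>
        intro hs k hk
        set a := (hF.data c).u (t ⟨b, hb⟩ c)
        have ha : a ∈ rootsJoin 𝒟 := by
          rcases hs c (Finset.mem_insert_self c s) with h | h
          · exact le_iSup (fun c : 𝒟 => rt c.1) ⟨c.1, h⟩ ((hF.data c).u_mem _)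
          · rw [show a = 1 from h]; exact one_mem _
        have hrest : a⁻¹ * k ∈ rootsJoin 𝒟 :=
          ih (fun d hd => hs d (Finset.mem_insert_of_mem hd)) _ fun v => by
            have hk' := hk v
            rw [Finset.sum_insert hcs] at hk'
            set S := ∑ d ∈ s, (σ ((hF.data d).u (t ⟨b, hb⟩ d)) v - v)
            have hSf : σ a S = S :=
              fix_anti σ (hF.root_le_join c) (sum_mem fun d _ => hF.root_sub_mem d ((hF.data d).u_mem _) v)
                a ((hF.data c).u_mem _)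
            have e1 : σ k v = σ a (S + v) := by
              rw [map_add, hSf, ← sub_add_cancel (σ k v) v, hk']; abel
            rw [apply_mul, e1, apply_inv_apply]; abel
        simpa using mul_mem ha hrest
    rw [e]
    refine hmem Finset.univ (fun c _ => ?_) j hjv
    by_cases h0 : t ⟨b, hb⟩ c = 0
    · right
      show (((hF.data c).φ.symm (CfsgLib.Linear.upperUni (t ⟨b, hb⟩ c)) : c.1.2) : P) = 1
      rw [h0, CfsgLib.Linear.upperUni, Matrix.SpecialLinearGroup.transvection_coeff_zero, map_one]; rfl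
    · exact Or.inl ⟨c.2, ⟨b, hb⟩, h0⟩
  have hfix : fix σ B = fix σ (rootsJoin 𝒟) := by
    refine le_antisymm (fun v hv => hF'.mem_fix_join.2 fun c => ?_) (fix_anti σ hBle)
    obtain ⟨hc, b, hb⟩ := c.2
    have e1 := hF.components_ψ (ht b) ⟨c.1, hc⟩ v
    rw [hv b b.2, sub_self, map_zero] at e1
    have h2 : (hF.data ⟨c.1, hc⟩).ψ v 1 = 0 :=
      (mul_eq_zero.1 (by simpa using (congrFun e1 0).symm)).resolve_left hb
    exact (hF'.data c).mem_fix_iff.1 ((hF.data ⟨c.1, hc⟩).fixB v h2)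
  have hw := hF'.wt_join hinj
  refine ⟨?_, fun h => ⟨𝒟, h𝒟, ?_⟩⟩
  · rw [← hw, wt, wt, hfix]
    exact Nat.mul_le_mul_right _ (card_le_of_le hBle)
  · rw [← hw, wt, wt, hfix] at h
    exact eq_of_le_of_card_ge hBle (Nat.le_of_mul_le_mul_right h Nat.card_pos)

/-- The only minimal offenders inside `J` are the roots. -/
theorem eq_root_of_le (hinj : Function.Injective σ) {B : Subgroup P} (hB : IsMinOff σ B)
    (hBJ : B ≤ rootsJoin 𝒞) : ∃ c : 𝒞, B = c.1.1 := by
  obtain ⟨𝒟, h𝒟, rfl⟩ := (hF.wt_le_of_le hinj hBJ).2 hB.le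
  obtain ⟨c, hc⟩ : ∃ c, c ∈ 𝒟 := by
    by_contra hne
    push Not at hne
    exact hB.ne_bot (eq_bot_iff.2 (iSup_le fun c => absurd c.2 (hne c.1)))
  refine ⟨⟨c, h𝒟 hc⟩, ?_⟩
  by_contra hne
  have D := hF.data ⟨c, h𝒟 hc⟩
  exact absurd D.wt_root.ge (not_le.2 (hB.strict c.1 (le_iSup (fun c : 𝒟 => rt c.1) ⟨c, hc⟩)
    D.isMinOff.ne_bot fun e => hne e.symm))

end Fam

end CfsgLib.FFCells
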