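import Cfsg.Agent.FFCells.LocalFamily
import Cfsg.Agent.FFCells.Cross

/-!
The translates form a system of cells that `T` permutes: the configuration of the local case.
-/

set_option autoImplicit false
set_option linter.style.haveILetI false
set_option maxHeartbeats 1000000

namespace CfsgLib.FFCells

open Subgroup CfsgLib.SL2Recognition

variable {P V : Type*} [Group P] [AddCommGroup V] [Finite P] [Finite V] {σ : P →* AddMonoid.End V}
  {p : ℕ} [Fact p.Prime] {T : Sylow p P} {M T₁ H : Subgroup P}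

omit [Finite V] in
theorem map_pair_surj {g : P} {𝒜 : Set (Subgroup P × Subgroup P)}
    (h : ∀ c ∈ 𝒜, (cj g c.1, cj g c.2) ∈ 𝒜) {c : Subgroup P × Subgroup P} (hc : c ∈ 𝒜) :
    (cj g⁻¹ c.1, cj g⁻¹ c.2) ∈ 𝒜 := by
  let f : 𝒜 → 𝒜 := fun d => ⟨(cj g d.1.1, cj g d.1.2), h d.1 d.2⟩
  have hf : Function.Injective f := fun d e he => Subtype.ext <| by
    have h1 : cj g d.1.1 = cj g e.1.1 := congrArg (fun x : 𝒜 => x.1.1) he
    have h2 : cj g d.1.2 = cj g e.1.2 := congrArg (fun x : 𝒜 => x.1.2) he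
    exact Prod.ext (by rw [← cj_inv_cj g d.1.1, h1, cj_inv_cj])
      (by rw [← cj_inv_cj g d.1.2, h2, cj_inv_cj])
  obtain ⟨⟨d, hd⟩, hde⟩ := (Finite.injective_iff_surjective.1 hf) ⟨c, hc⟩
  have e : c = (cj g d.1, cj g d.2) := (congrArg Subtype.val hde).symm
  rw [e]
  simpa [cj_inv_cj] using hd

/-- The elements of `T` permuting the cells. -/
def pairPerm (T : Subgroup P) (𝒜 : Set (Subgroup P × Subgroup P)) : Subgroup P where
  carrier := {t | t ∈ T ∧ ∀ c ∈ 𝒜, (cj t c.1, cj t c.2) ∈ 𝒜}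
  one_mem' := ⟨one_mem T, fun c hc => by rwa [cj_one, cj_one]⟩
  mul_mem' := fun {a b} ha hb => ⟨mul_mem ha.1 hb.1, fun c hc => by
    have := ha.2 _ (hb.2 c hc)
    rwa [cj_cj, cj_cj] at this⟩
  inv_mem' := fun {a} ha => ⟨inv_mem ha.1, fun _ hc => map_pair_surj ha.2 hc⟩

omit [Finite P] [Finite V] in
theorem mul_comm_of_le_centralizer {A B : Subgroup P} (h : A ≤ centralizer (B : Set P)) {a b : P}
    (ha : a ∈ A) (hb : b ∈ B) : a * b = b * a :=
  (mem_centralizer_iff.1 (h ha) b hb).symm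

omit [Finite V] in
theorem le_normalizer_of_le_centralizer {A B : Subgroup P} (h : A ≤ centralizer (B : Set P)) :
    A ≤ normalizer (B : Set P) := fun a ha => mem_normalizer_of_cj_le (by
  rintro _ ⟨b, hb, rfl⟩
  show a * b * a⁻¹ ∈ B
  rw [mul_comm_of_le_centralizer h ha hb, mul_inv_cancel_right]; exact hb)

omit [Finite V] in
theorem cj_eq_of_commute {g : P} {B : Subgroup P} (h : ∀ b ∈ B, g * b = b * g) : cj g B = B :=
  cj_eq_self.2 (mem_normalizer_of_cj_le (by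
    rintro _ ⟨b, hb, rfl⟩
    show g * b * g⁻¹ ∈ B
    rw [h b hb, mul_inv_cancel_right]; exact hb))

namespace Loc

variable (h : Loc σ T M T₁ H)
  {𝒞 : Set (Subgroup (QG σ T₁ H) × Subgroup (QG σ T₁ H))}
  (hC : Config (qRep σ T₁ H) p (img σ T₁ H T₁) 𝒞)
include h hC

theorem all_not_le {c : Subgroup P × Subgroup P} (hc : c ∈ allCells σ (T : Subgroup P) T₁ H 𝒞) :
    ¬ c.2 ≤ M := by
  obtain ⟨u, hu, d, hd, rfl⟩ := hc
  intro hle
  refine h.lift_not_le hC hd ?_
  have h1 := cj_mono (g := u⁻¹) hle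
  rw [cj_inv_cj] at h1
  exact h1.trans (cj_le_of_mem (inv_mem (h.pmin.le hu.1)))

/-- The roots commute. -/
theorem all_comm : rootsJoin (allCells σ (T : Subgroup P) T₁ H 𝒞) ≤
    centralizer (rootsJoin (allCells σ (T : Subgroup P) T₁ H 𝒞) : Set P) := by
  set 𝒜 := allCells σ (T : Subgroup P) T₁ H 𝒞
  set F := h.all_fam hC
  have hrr : ∀ e e' : 𝒜, e.1.1 ≤ centralizer (e'.1.1 : Set P) := fun e e' => by
    rcases eq_or_ne e e' with rfl | hne
    · exact fun a ha => mem_centralizer_iff.2 fun b hb =>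
        (commute_of_fix h.inj ((F.data e).quad b hb a ha) ((F.data e).quad a ha b hb)).eq
    · exact (F.root_orth hne).le_centralizer h.inj
  exact iSup_le fun e => le_centralizer_iff.1 (iSup_le fun e' => le_centralizer_iff.1 (hrr e e'))

theorem join_pgroup {𝒟 : Set (Subgroup P × Subgroup P)}
    (h𝒟 : 𝒟 ⊆ allCells σ (T : Subgroup P) T₁ H 𝒞) : rootsJoin 𝒟 ≤ T₁ :=
  iSup_le fun c => (h.all_root_le hC (h𝒟 c.2)).1

/-- An element centralising the other roots keeps a root inside `M` only as itself. -/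
theorem root_eq {c : Subgroup P × Subgroup P} (hc : c ∈ allCells σ (T : Subgroup P) T₁ H 𝒞) {x : P}
    (hx : ∀ d ∈ allCells σ (T : Subgroup P) T₁ H 𝒞, d ≠ c → ∀ b ∈ d.1, x * b = b * x) {Y : Subgroup P}
    (hY : IsPGroup p Y)
    (hYR : Y ≤ centralizer (rootsJoin (allCells σ (T : Subgroup P) T₁ H 𝒞 \ {c}) : Set P))
    (hcY : c.1 ≤ Y) (hxY : cj x c.1 ≤ Y) : cj x c.1 = c.1 := by
  set 𝒜 := allCells σ (T : Subgroup P) T₁ H 𝒞
  set R := rootsJoin (𝒜 \ {c})
  set F := h.all_fam hC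
  obtain ⟨u, hu, hub⟩ := h.exists_other hC c.1
  have hJR : cj u (rootsJoin (outerCells σ T₁ H 𝒞)) ≤ R := by
    rw [rootsJoin, cj, Subgroup.map_iSup]
    refine iSup_le fun e => le_iSup_of_le
      (⟨(cj u e.1.1, cj u e.1.2), ⟨u, hu, e.1, e.2, rfl⟩, fun he => hub e.1 e.2 (congrArg Prod.fst he)⟩ :
        ↥(𝒜 \ {c})) le_rfl
  have hsub : R ≤ rootsJoin 𝒜 := iSup_le fun e => F.root_le_join ⟨e.1, e.2.1⟩
  have hRR : R ≤ centralizer (R : Set P) :=
    hsub.trans ((h.all_comm hC).trans (centralizer_le (SetLike.coe_subset_coe.2 hsub)))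
  set Y' := Y ⊔ R
  have hY' : IsPGroup p Y' := hY.to_sup_of_normal_right' (h.pgroup.to_le (h.join_pgroup hC Set.sdiff_subset))
    (le_normalizer_of_le_centralizer hYR)
  have hY'N : Y' ≤ normalizer ((cj u (rootsJoin (outerCells σ T₁ H 𝒞)) : Subgroup P) : Set P) :=
    le_normalizer_of_le_centralizer
      ((sup_le hYR hRR).trans (centralizer_le (SetLike.coe_subset_coe.2 hJR)))
  obtain ⟨d, hd, hde⟩ := h.count hC hu hY' hY'N (fun e he => by
      rcases eq_or_ne e c with rfl | hne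
      · exact hcY.trans le_sup_left
      · exact le_trans (le_iSup (fun e : ↥(𝒜 \ {c}) => rt e.1) ⟨e, he, hne⟩) le_sup_right)
    ((h.all_root_le hC hc).2.map_cj x) (hxY.trans le_sup_left)
  rcases eq_or_ne d c with rfl | hne
  · exact hde.symm
  · have h1 : cj x d.1 = cj x c.1 := by rw [cj_eq_of_commute (hx d hd hne)]; exact hde
    refine absurd (congrArg Subtype.val (F.root_inj h.inj (c := ⟨d, hd⟩) (d := ⟨c, hc⟩) ?_)) hne
    show d.1 = c.1
    rw [← cj_inv_cj x d.1, h1, cj_inv_cj]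

/-- The translates form a system. -/
theorem all_sys : Sys σ p (allCells σ (T : Subgroup P) T₁ H 𝒞) := by
  classical
  set 𝒜 := allCells σ (T : Subgroup P) T₁ H 𝒞
  set F := h.all_fam hC
  refine ⟨h.inj, h.exp, F, fun c hc g hg => ?_, fun r hr hmin => ?_⟩
  · set R := rootsJoin (𝒜 \ {c})
    set K := centralizer (R : Set P)
    have hmemK : ∀ {x : P}, x ∈ K ↔ ∀ d ∈ 𝒜, d ≠ c → ∀ b ∈ d.1, x * b = b * x := by
      intro x
      refine ⟨fun hx d hd hne b hb => (mem_centralizer_iff.1 hx b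
        (le_iSup (fun e : ↥(𝒜 \ {c}) => rt e.1) ⟨d, hd, hne⟩ hb)).symm, fun hx => ?_⟩
      refine mem_centralizer_iff.2 fun b hb => ?_
      have hle : R ≤ centralizer ({x} : Set P) := iSup_le fun e a ha =>
        mem_centralizer_singleton_iff.2 (hx e.1 e.2.1 e.2.2 a ha).symm
      exact mem_centralizer_singleton_iff.1 (hle hb)
    have hLK : c.2 ≤ K := fun l hl => hmemK.2 fun d hd hne b hb =>
      (((F.orth d hd c hc hne).commute h.inj hb hl).eq).symm
    obtain ⟨D⟩ := F.cell c hc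
    have hBM : c.1 ≤ M := ((h.all_root_le hC hc).1).trans h.le_M
    obtain ⟨z, hz, hz0⟩ := h.vec
    have hcore : CoreHyp σ p M K c.1 := by
      refine ⟨h.inj, h.exp, fun Y => h.pmin.exists_fix hz hz0, (h.all_root_le hC hc).2, D.le.trans hLK,
        hBM, fun x hx hxM hle => hxM ?_⟩
      -- a Sylow subgroup of `K ⊓ M` over the root
      set X := K ⊓ M
      have hBp : IsPGroup p c.1 := (h.all_root_le hC hc).2.isPGroup h.inj h.exp
      obtain ⟨Q, hQ⟩ := (hBp.comap_subtype (K := X)).exists_le_sylow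
      have hxX : cj x c.1 ≤ X := le_inf (fun y hy => by
        obtain ⟨b, hb, rfl⟩ := hy
        exact mul_mem (mul_mem hx (hLK (D.le hb))) (inv_mem hx)) hle
      obtain ⟨Q', hQ'⟩ := ((hBp.map (MulAut.conj x).toMonoidHom).comap_subtype (K := X)).exists_le_sylow
      obtain ⟨m, hm⟩ := MulAction.exists_smul_eq X Q' Q
      have hmK : (m : P) ∈ K := m.2.1
      have hmx : cj ((m : P) * x) c.1 = c.1 := by
        refine h.root_eq hC hc (hmemK.1 (mul_mem hmK hx)) (Q.isPGroup'.map X.subtype)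
          ((map_subtype_le _).trans inf_le_left)
          (fun b hb => ⟨⟨b, hLK (D.le hb), hBM hb⟩, hQ hb, rfl⟩) ?_
        rw [← cj_cj]
        rintro _ ⟨y, hy, rfl⟩
        refine ⟨m * ⟨y, hxX hy⟩ * m⁻¹, ?_, rfl⟩
        rw [← hm, Sylow.coe_subgroup_smul]
        exact ⟨⟨y, hxX hy⟩, hQ' hy, rfl⟩
      have h1 : (m : P) * x ∈ normalizer (rootsJoin 𝒜 : Set P) := normalizer_iSup_le _ fun e => by
        rw [← cj_eq_self]
        show cj ((m : P) * x) e.1.1 = e.1.1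
        rcases eq_or_ne e.1 c with he | he
        · rw [he]; exact hmx
        · exact cj_eq_of_commute (hmemK.1 (mul_mem hmK hx) e.1 e.2 he)
      simpa using M.mul_mem (M.inv_mem m.2.2) (h.normalizer_all_le hC h1)
    have hLM := h.all_not_le hC hc
    obtain ⟨l, hl, hlg⟩ := hcore.exists_mul D hLK (hmemK.2 hg)
    set m := l⁻¹ * g
    have hmK : m ∈ K := mul_mem (inv_mem (hLK hl)) (hmemK.2 hg)
    have ho := hcore.orth_cj D hLK hLM hlg hmK
    have hBK : cj m c.1 ≤ K := fun y hy => by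
      obtain ⟨b, hb, rfl⟩ := hy
      exact mul_mem (mul_mem hmK (hLK (D.le hb))) (inv_mem hmK)
    have hBp : IsPGroup p c.1 := (h.all_root_le hC hc).2.isPGroup h.inj h.exp
    have hm1 : cj m c.1 = c.1 := h.root_eq hC hc (hmemK.1 hmK)
      (hBp.to_sup_of_normal_left' (hBp.map _)
        (le_normalizer_of_le_centralizer (ho.le_centralizer h.inj)))
      (sup_le (D.le.trans hLK) hBK) le_sup_left le_sup_right
    rw [show g = l * m by simp [m], ← cj_cj, hm1]
    exact (cj_mono D.le).trans (cj_le_of_mem hl)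
  · have hrJ : zpowers r ≤ centralizer (rootsJoin 𝒜 : Set P) := by
      refine zpowers_le.2 (mem_centralizer_iff.2 fun b hb => ?_)
      have hle : rootsJoin 𝒜 ≤ centralizer ({r} : Set P) := iSup_le fun e a ha =>
        mem_centralizer_singleton_iff.2 (hr e.1 e.2 a ha).symm
      exact mem_centralizer_singleton_iff.1 (hle hb)
    have hJJ := h.all_comm hC
    have hJ1 : cj 1 (rootsJoin (outerCells σ T₁ H 𝒞)) ≤ rootsJoin 𝒜 := by
      rw [cj_one]
      exact iSup_le fun e => F.root_le_join ⟨e.1, 1, one_mem _, e.1, e.2, by rw [cj_one, cj_one]⟩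
    obtain ⟨c, hc, hce⟩ := h.count hC (one_mem _)
      ((h.pgroup.to_le (h.join_pgroup hC subset_rfl)).to_sup_of_normal_left'
        (hmin.isPGroup h.inj h.exp) (le_normalizer_of_le_centralizer hrJ))
      (le_normalizer_of_le_centralizer ((sup_le hJJ hrJ).trans
        (centralizer_le (SetLike.coe_subset_coe.2 hJ1))))
      (fun e he => le_sup_of_le_left (F.root_le_join ⟨e, he⟩)) hmin le_sup_right
    exact ⟨c, hc, hce.symm⟩

theorem le_pairPerm : (T : Subgroup P) ⊓ normalizer (T₁ : Set P) ≤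
    pairPerm (T : Subgroup P) (allCells σ (T : Subgroup P) T₁ H 𝒞) :=
  fun _ ht => ⟨ht.1, fun _ hc => h.all_map hC ht hc⟩

theorem all_nonempty : (allCells σ (T : Subgroup P) T₁ H 𝒞).Nonempty := by
  obtain ⟨c, hc⟩ := h.outer_nonempty hC
  exact ⟨c, 1, one_mem _, c, hc, by rw [cj_one, cj_one]⟩

theorem all_pre : Pre σ p (pairPerm (T : Subgroup P) (allCells σ (T : Subgroup P) T₁ H 𝒞))
    (allCells σ (T : Subgroup P) T₁ H 𝒞) := by
  classical
  set 𝒜 := allCells σ (T : Subgroup P) T₁ H 𝒞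
  set S := pairPerm (T : Subgroup P) 𝒜
  refine ⟨h.inj, h.exp, T.isPGroup'.to_le fun x hx => hx.1, h.all_fam hC,
    fun c hc => (h.all_root_le hC hc).1.trans fun x hx => h.le_pairPerm hC ⟨h.le_T hx, le_normalizer hx⟩,
    fun g hg c hc => hg.2 c hc, fun x hx hxc => ?_⟩
  set R := S ⊓ centralizer (grpsJoin 𝒜 : Set P)
  have hxR : x ∈ R := ⟨hx, mem_centralizer_iff.2 fun y hy => by
    have hle : grpsJoin 𝒜 ≤ centralizer ({x} : Set P) := iSup_le fun c l hl =>
      mem_centralizer_singleton_iff.2 (hxc c.1 c.2 l hl).symm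
    exact mem_centralizer_singleton_iff.1 (hle hy)⟩
  suffices R = ⊥ from mem_bot.1 (this ▸ hxR)
  by_contra hR
  have hSR : S ≤ normalizer (R : Set P) := by
    intro s hs
    refine mem_normalizer_of_cj_le ?_
    rintro _ ⟨r, hr, rfl⟩
    refine ⟨S.mul_mem (S.mul_mem hs hr.1) (S.inv_mem hs), mem_centralizer_iff.2 fun y hy => ?_⟩
    have hy' : s⁻¹ * y * s ∈ grpsJoin 𝒜 := by
      have hle : cj s⁻¹ (grpsJoin 𝒜) ≤ grpsJoin 𝒜 := by
        rw [grpsJoin, cj, Subgroup.map_iSup]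
        exact iSup_le fun c => le_iSup_of_le
          (⟨_, (inv_mem hs : s⁻¹ ∈ S).2 c.1 c.2⟩ : 𝒜) le_rfl
      have := hle (conj_mem_cj hy)
      rwa [inv_inv] at this
    have e := mem_centralizer_iff.1 hr.2 _ hy'
    show y * (s * r * s⁻¹) = s * r * s⁻¹ * y
    calc y * (s * r * s⁻¹) = s * ((s⁻¹ * y * s) * r) * s⁻¹ := by group
      _ = s * (r * (s⁻¹ * y * s)) * s⁻¹ := by rw [e]
      _ = s * r * s⁻¹ * y := by group
  obtain ⟨c, hc⟩ := h.all_nonempty hC
  have hcR : c.2 ≤ normalizer (R : Set P) := by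
    refine le_normalizer_of_le_centralizer (le_centralizer_iff.1 (inf_le_right.trans ?_))
    exact centralizer_le (SetLike.coe_subset_coe.2 (le_iSup (fun c : 𝒜 => c.1.2) ⟨c, hc⟩))
  obtain ⟨A, hA, hAT⟩ := h.hasOff
  have hT₁S : T₁ ≤ S := fun y hy => h.le_pairPerm hC ⟨h.le_T hy, le_normalizer hy⟩
  have hSp : IsPGroup p S := T.isPGroup'.to_le fun y hy => hy.1
  have hSM : S ≤ M := fun y hy => h.pmin.le hy.1
  have hcard := h.maxl R S hR (hSp.to_le inf_le_left) (inf_le_left.trans hSM)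
    (fun hle => h.all_not_le hC hc (hcR.trans hle)) hSp hSM hSR ⟨A, hA, hAT.trans hT₁S⟩
  obtain ⟨t, ht, htn, htN⟩ := h.exists_outside
  exact htn ((eq_of_le_of_card_ge hT₁S hcard).ge (h.le_pairPerm hC ⟨ht, htN⟩))

/-- An element normalising the permuting group permutes the groups with the roots. -/
theorem cj_grp_le {s : P}
    (hs : s ∈ normalizer (pairPerm (T : Subgroup P) (allCells σ (T : Subgroup P) T₁ H 𝒞) : Set P))
    {c d : Subgroup P × Subgroup P} (hc : c ∈ allCells σ (T : Subgroup P) T₁ H 𝒞)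
    (hd : d ∈ allCells σ (T : Subgroup P) T₁ H 𝒞) (e : cj s c.1 = d.1) : cj s c.2 ≤ d.2 := by
  set 𝒜 := allCells σ (T : Subgroup P) T₁ H 𝒞
  set S := pairPerm (T : Subgroup P) 𝒜
  have hP := h.all_pre hC
  have hsys := h.all_sys hC
  obtain ⟨D⟩ := (h.all_fam hC).cell c hc
  obtain ⟨D'⟩ := (h.all_fam hC).cell d hd
  rw [← D.gen_weyl, cj, Subgroup.map_sup]
  show cj s c.1 ⊔ cj s (cj D.weyl c.1) ≤ _
  rw [e]
  refine sup_le D'.le ?_
  have e2 : cj s (cj D.weyl c.1) = cj (s * D.weyl * s⁻¹) d.1 := by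
    rw [← e, cj_cj, cj_cj, inv_mul_cancel_right]
  rw [e2]
  refine hsys.conj d hd _ fun f hf hne b hb => ?_
  obtain ⟨g, hg⟩ := hP.eq_root ((h.all_root_le hC hf).2.map_cj s⁻¹)
    ((cj_mono (hP.root_le f hf)).trans (cj_eq_self.2 (inv_mem hs)).le)
  have hgc : g.1 ≠ c := fun hgc => hne (congrArg Subtype.val
    ((h.all_fam hC).root_inj h.inj (c := ⟨f, hf⟩) (d := ⟨d, hd⟩) (by
      show f.1 = d.1
      rw [← e, ← hgc, ← hg, cj_cj_inv])))
  have hb' : s⁻¹ * b * s ∈ g.1.1 := by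
    rw [← hg, mem_cj]; simpa [mul_assoc] using hb
  have hw := (((h.all_fam hC).orth g.1 g.2 c hc hgc).commute h.inj hb' D.weyl_mem).eq
  calc s * D.weyl * s⁻¹ * b = s * (D.weyl * (s⁻¹ * b * s)) * s⁻¹ := by group
    _ = s * ((s⁻¹ * b * s) * D.weyl) * s⁻¹ := by rw [hw]
    _ = b * (s * D.weyl * s⁻¹) := by group

theorem pairPerm_eq : pairPerm (T : Subgroup P) (allCells σ (T : Subgroup P) T₁ H 𝒞) = T := by
  set 𝒜 := allCells σ (T : Subgroup P) T₁ H 𝒞
  set S := pairPerm (T : Subgroup P) 𝒜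
  by_contra hne
  obtain ⟨s, hs, hsS, hsN⟩ := exists_mem_normalizer_notMem T.isPGroup' (fun y hy => hy.1 : S ≤ _) hne
  refine hsS ⟨hs, fun c hc => ?_⟩
  have hP := h.all_pre hC
  obtain ⟨d, hd⟩ := hP.eq_root ((h.all_root_le hC hc).2.map_cj s)
    ((cj_mono (hP.root_le c hc)).trans (cj_eq_self.2 hsN).le)
  have e' : cj s⁻¹ d.1.1 = c.1 := by rw [← hd, cj_inv_cj]
  have h1 := h.cj_grp_le hC hsN hc d.2 hd
  have h2 := h.cj_grp_le hC (inv_mem hsN) d.2 hc e'
  have h3 : d.1.2 ≤ cj s c.2 := by simpa [cj_cj_inv] using cj_mono (g := s) h2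
  rw [hd, le_antisymm h1 h3]
  exact d.2

omit hC in
/-- The configuration of the local case. -/
theorem exists_config (hIH : Goal p (QG σ T₁ H) (qFix σ T₁ H)) :
    ∃ 𝒟, Config σ p (T : Subgroup P) 𝒟 := by
  classical
  obtain ⟨𝒞, hC⟩ := h.exists_quotient_config hIH
  set 𝒜 := allCells σ (T : Subgroup P) T₁ H 𝒞
  have hP := h.all_pre hC
  rw [h.pairPerm_eq hC] at hP
  have hsys := h.all_sys hC
  obtain ⟨c₁, hc₁⟩ := h.all_nonempty hC
  refine ⟨𝒜, hP, ⟨c₁, hc₁⟩, fun c hc d hd => ?_, h.pmin.eq_top le_sup_right fun hle =>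
    h.all_not_le hC hc₁ (((le_iSup (fun c : 𝒜 => c.1.2) ⟨c₁, hc₁⟩).trans le_sup_left).trans hle),
    fun c hc d hd hne => hsys.dich hc hd hne, fun c hc d hd e he => hsys.link_trans hc hd he⟩
  by_contra hno
  set 𝒩 : Set (Subgroup P × Subgroup P) :=
    {e ∈ 𝒜 | ¬ ∃ t ∈ (T : Subgroup P), cj t c.1 = e.1 ∧ cj t c.2 = e.2}
  have hRT : rootsJoin 𝒩 ≤ (T : Subgroup P) := iSup_le fun e => hP.root_le e.1 e.2.1
  have hTR : (T : Subgroup P) ≤ normalizer (rootsJoin 𝒩 : Set P) := fun s hs =>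
    mem_normalizer_of_cj_le (by
      rw [rootsJoin, cj, Subgroup.map_iSup]
      refine iSup_le fun e => le_iSup_of_le (⟨(cj s e.1.1, cj s e.1.2), hP.equiv s hs e.1 e.2.1,
        fun ⟨t, ht, h1, h2⟩ => e.2.2 ⟨s⁻¹ * t, mul_mem (inv_mem hs) ht, ?_, ?_⟩⟩ : 𝒩) le_rfl
      · rw [← cj_cj, h1, cj_inv_cj]
      · rw [← cj_cj, h2, cj_inv_cj])
  have hcR : c.2 ≤ normalizer (rootsJoin 𝒩 : Set P) :=
    le_normalizer_of_le_centralizer (le_centralizer_iff.1 (iSup_le fun e =>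
      ((h.all_fam hC).orth e.1 e.2.1 c hc fun he =>
        e.2.2 ⟨1, one_mem _, by rw [cj_one, he], by rw [cj_one, he]⟩).le_centralizer h.inj))
  have hR := h.pmin.eq_bot_of_normalized h.op (T.isPGroup'.to_le hRT) hTR hcR (h.all_not_le hC hc)
  exact (h.all_root_le hC hd).2.ne_bot (le_bot_iff.1
    ((le_iSup (fun e : 𝒩 => rt e.1) ⟨d, hd, hno⟩).trans hR.le))

end Loc

end CfsgLib.FFCells
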