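import Cfsg.Agent.FFCells.LocalLift

/-!
The outer cells, their translates under `N_T(T₁)`, and the count of minimal offenders.
-/

set_option autoImplicit false
set_option linter.style.haveILetI false
set_option maxHeartbeats 1000000

namespace CfsgLib.FFCells

open Subgroup CfsgLib.SL2Recognition

variable {P V : Type*} [Group P] [AddCommGroup V] [Finite P] [Finite V] {σ : P →* AddMonoid.End V}
  {p : ℕ} [Fact p.Prime] {T : Sylow p P} {M T₁ H : Subgroup P}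

/-- The lifted cells at `T₁`. -/
def outerCells (σ : P →* AddMonoid.End V) (T₁ H : Subgroup P)
    (𝒞 : Set (Subgroup (QG σ T₁ H) × Subgroup (QG σ T₁ H))) : Set (Subgroup P × Subgroup P) :=
  {c | IsOuter σ T₁ H c.1 ∧ c.1 ≤ T₁ ∧
    ∃ L, (img σ T₁ H c.1, L) ∈ 𝒞 ∧ c.2 = liftGrp σ T₁ H c.1 L}

/-- Their translates under `N_T(T₁)`. -/
def allCells (σ : P →* AddMonoid.End V) (T : Subgroup P) (T₁ H : Subgroup P)
    (𝒞 : Set (Subgroup (QG σ T₁ H) × Subgroup (QG σ T₁ H))) : Set (Subgroup P × Subgroup P) :=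
  {d | ∃ u ∈ T ⊓ normalizer (T₁ : Set P), ∃ c ∈ outerCells σ T₁ H 𝒞, d = (cj u c.1, cj u c.2)}

theorem cj_liftGrp_le {g : P} (hg : g ∈ H) (A : Subgroup P) (L : Subgroup (QG σ T₁ H)) :
    cj g (liftGrp σ T₁ H A L) ≤
      liftGrp σ T₁ H (cj g A) (cj (QuotientGroup.mk (⟨g, hg⟩ : H)) L) := by
  rw [liftGrp, cj, Subgroup.map_iSup]
  refine iSup_le fun x => le_iSup_of_le ⟨⟨g, hg⟩ * x.1 * (⟨g, hg⟩ : H)⁻¹, ?_⟩ ?_
  · rw [QuotientGroup.mk_mul, QuotientGroup.mk_mul, QuotientGroup.mk_inv]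
    exact conj_mem_cj x.2
  · show cj g (cj (x.1 : P) A) ≤ _
    rw [cj_cj, cj_cj, Subgroup.coe_mul, Subgroup.coe_mul, InvMemClass.coe_inv, inv_mul_cancel_right]

theorem cj_liftGrp {g : P} (hg : g ∈ H) (A : Subgroup P) (L : Subgroup (QG σ T₁ H)) :
    cj g (liftGrp σ T₁ H A L) =
      liftGrp σ T₁ H (cj g A) (cj (QuotientGroup.mk (⟨g, hg⟩ : H)) L) := by
  refine le_antisymm (cj_liftGrp_le hg A L) ?_
  have h1 := cj_liftGrp_le (inv_mem hg) (cj g A) (cj (QuotientGroup.mk (⟨g, hg⟩ : H)) L)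
  rw [cj_inv_cj, show (QuotientGroup.mk (⟨g⁻¹, inv_mem hg⟩ : H) : QG σ T₁ H) =
    (QuotientGroup.mk (⟨g, hg⟩ : H))⁻¹ from rfl, cj_inv_cj] at h1
  simpa [cj_cj_inv] using cj_mono (g := g) h1

namespace Loc

variable (h : Loc σ T M T₁ H)
  {𝒞 : Set (Subgroup (QG σ T₁ H) × Subgroup (QG σ T₁ H))}
  (hC : Config (qRep σ T₁ H) p (img σ T₁ H T₁) 𝒞)
include h hC

theorem exists_outerCell {c : Subgroup (QG σ T₁ H) × Subgroup (QG σ T₁ H)} (hc : c ∈ 𝒞) :
    ∃ d ∈ outerCells σ T₁ H 𝒞, img σ T₁ H d.1 = c.1 := by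
  obtain ⟨A, hA, hAT, hAQ⟩ := h.exists_outer
  obtain ⟨-, -, c₀, hc₀⟩ := h.outer_spec hC hA hAT hAQ
  obtain ⟨_, ⟨t, ht, rfl⟩, ht1, -⟩ := hC.trans c₀.1 c₀.2 c hc
  have htT : (t : P) ∈ T₁ := mem_subgroupOf.1 ht
  have himg : img σ T₁ H (cj (t : P) A) = c.1 := by rw [img_cj t.2, hc₀]; exact ht1
  refine ⟨(cj (t : P) A, liftGrp σ T₁ H (cj (t : P) A) c.2),
    ⟨IsOuter.map_cj ⟨hA, 1, one_mem H, by rwa [cj_one], by rwa [cj_one]⟩ t.2,
      (cj_mono hAT).trans (cj_le_of_mem htT), c.2, ?_, rfl⟩, himg⟩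
  show (img σ T₁ H (cj (t : P) A), c.2) ∈ 𝒞
  rw [himg]; exact hc

/-- A minimal offender of `T₁` outside `Q` is the root of an outer cell. -/
theorem exists_cell_of_outer {A : Subgroup P} (hA : IsMinOff σ A) (hAT : A ≤ T₁)
    (hAQ : ¬ A ≤ qCore T₁ H) : ∃ c ∈ outerCells σ T₁ H 𝒞, c.1 = A := by
  obtain ⟨-, -, c₀, hc₀⟩ := h.outer_spec hC hA hAT hAQ
  obtain ⟨d, hd, hde⟩ := h.exists_outerCell hC c₀.2
  exact ⟨d, hd, h.outer_unique hC hd.1 ⟨hA, 1, one_mem H, by rwa [cj_one], by rwa [cj_one]⟩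
    (hde.trans hc₀.symm)⟩

theorem not_le_qCore {c : Subgroup P × Subgroup P} (hc : c ∈ outerCells σ T₁ H 𝒞) :
    ¬ c.1 ≤ qCore T₁ H := by
  intro hle
  obtain ⟨-, g, hg, -, hgQ⟩ := hc.1
  exact hgQ ((cj_mono hle).trans (cj_qCore hg).le)

theorem outer_eq {c d : Subgroup P × Subgroup P} (hc : c ∈ outerCells σ T₁ H 𝒞)
    (hd : d ∈ outerCells σ T₁ H 𝒞) (e : c.1 = d.1) : c = d := by
  obtain ⟨hco, -, L, hL, hc2⟩ := hc
  obtain ⟨-, -, L', hL', hd2⟩ := hd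
  rw [← e] at hL' hd2
  have : L = L' := congrArg (fun x : 𝒞 => x.1.2)
    (hC.pre.fam.root_inj qRep_injective (c := ⟨_, hL⟩) (d := ⟨_, hL'⟩) rfl)
  exact Prod.ext e (by rw [hc2, hd2, this])

theorem lift_spec {c : Subgroup P × Subgroup P} (hc : c ∈ outerCells σ T₁ H 𝒞) :
    IsCell σ c.1 c.2 ∧ c.2 ≤ H ∧ (img σ T₁ H c.1, img σ T₁ H c.2) ∈ 𝒞 ∧
      (∀ v, ∀ l ∈ c.2, σ l v - v ∈ qFix σ T₁ H) ∧
      qFix σ T₁ H ⊔ fix σ c.2 = ⊤ ∧
      ∀ l ∈ c.2, (∀ w ∈ qFix σ T₁ H, σ l w = w) → l = 1 := by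
  obtain ⟨hco, -, L, hL, hc2⟩ := hc
  obtain ⟨a, b, e, f, g, i⟩ := h.isCell_lift hC hco (hC.pre.fam.cell _ hL)
  rw [← hc2] at a b e f g i
  exact ⟨a, b, by rw [e]; exact hL, f, g, i⟩

/-- Orthogonality transfers from `W`. -/
theorem orth_of_img {X Y : Subgroup P} (hX : X ≤ H) (hY : Y ≤ H)
    (hXW : qFix σ T₁ H ⊔ fix σ X = ⊤) (hYW : qFix σ T₁ H ⊔ fix σ Y = ⊤)
    (ho : Orth (qRep σ T₁ H) (img σ T₁ H X) (img σ T₁ H Y)) : Orth σ X Y := by
  intro x hx y hy v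
  constructor
  · obtain ⟨w, hw, f, hf, rfl⟩ := AddSubgroup.mem_sup.1 (hYW.ge (AddSubgroup.mem_top v))
    rw [map_add, hf y hy, add_sub_add_right_eq_sub]
    exact congrArg Subtype.val ((ho _ (mk_mem_img (Y := X) (g := ⟨x, hX hx⟩) hx) _
      (mk_mem_img (Y := Y) (g := ⟨y, hY hy⟩) hy) ⟨w, hw⟩).1)
  · obtain ⟨w, hw, f, hf, rfl⟩ := AddSubgroup.mem_sup.1 (hXW.ge (AddSubgroup.mem_top v))
    rw [map_add, hf x hx, add_sub_add_right_eq_sub]
    exact congrArg Subtype.val ((ho _ (mk_mem_img (Y := X) (g := ⟨x, hX hx⟩) hx) _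
      (mk_mem_img (Y := Y) (g := ⟨y, hY hy⟩) hy) ⟨w, hw⟩).2)

theorem outer_fam : Fam σ (outerCells σ T₁ H 𝒞) := by
  refine ⟨fun c hc => (h.lift_spec hC hc).1, fun c hc d hd hne => ?_⟩
  obtain ⟨-, hcH, hc𝒞, -, -, -⟩ := h.lift_spec hC hc
  obtain ⟨-, hdH, hd𝒞, -, hdW, -⟩ := h.lift_spec hC hd
  refine h.orth_of_img hC (hc.1.le h.le_H) hdH (h.outer_props hC hc.1).2.1 hdW
    (hC.pre.fam.orth _ hc𝒞 _ hd𝒞 fun e => hne (h.outer_eq hC hc hd ?_))
  exact h.outer_unique hC hc.1 hd.1 (congrArg Prod.fst e)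

theorem outer_map {t : P} (ht : t ∈ T₁) {c : Subgroup P × Subgroup P}
    (hc : c ∈ outerCells σ T₁ H 𝒞) : (cj t c.1, cj t c.2) ∈ outerCells σ T₁ H 𝒞 := by
  obtain ⟨hco, hcT, L, hL, hc2⟩ := hc
  refine ⟨hco.map_cj (h.le_H ht), (cj_mono hcT).trans (cj_le_of_mem ht),
    cj (QuotientGroup.mk (⟨t, h.le_H ht⟩ : H)) L, ?_, ?_⟩
  · show (img σ T₁ H (cj t c.1), _) ∈ 𝒞
    rw [img_cj (h.le_H ht)]
    exact hC.pre.equiv _ (mk_mem_img (Y := T₁) (g := ⟨t, h.le_H ht⟩) ht) _ hL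
  · show cj t c.2 = _
    rw [hc2, cj_liftGrp (h.le_H ht)]

theorem outer_trans {c d : Subgroup P × Subgroup P} (hc : c ∈ outerCells σ T₁ H 𝒞)
    (hd : d ∈ outerCells σ T₁ H 𝒞) : ∃ t ∈ T₁, cj t c.1 = d.1 ∧ cj t c.2 = d.2 := by
  obtain ⟨_, ⟨t, ht, rfl⟩, ht1, -⟩ :=
    hC.trans _ (h.lift_spec hC hc).2.2.1 _ (h.lift_spec hC hd).2.2.1
  have htT : (t : P) ∈ T₁ := mem_subgroupOf.1 ht
  have hm := h.outer_map hC htT hc
  have e1 : cj (t : P) c.1 = d.1 :=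
    h.outer_unique hC hm.1 hd.1 (by rw [img_cj t.2]; exact ht1)
  exact ⟨t, htT, e1, congrArg Prod.snd (h.outer_eq hC hm hd e1)⟩

/-- `Q` is orthogonal to the lifted groups. -/
theorem orth_qCore {c : Subgroup P × Subgroup P} (hc : c ∈ outerCells σ T₁ H 𝒞) :
    Orth σ (qCore T₁ H) c.2 := by
  intro x hx l hl v
  have h1 : σ x (σ l v - v) = σ l v - v :=
    h.trivial_of_mem_qCore hx _ ((h.lift_spec hC hc).2.2.2.1 v l hl)
  refine ⟨h1, fix_of_commute ?_ h1⟩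
  obtain ⟨L, -, hc2⟩ := hc.2.2
  have hle : c.2 ≤ centralizer ({x} : Set P) := by
    rw [hc2]
    refine iSup_le fun y => ?_
    intro a ha
    refine mem_centralizer_singleton_iff.2 ?_
    have := h.conj_eq_of_alike hC (hc.1.map_cj y.1.2) (x := ⟨x, h.qCore_le_H hx⟩) (fun z _ => by
      rw [(QuotientGroup.eq_one_iff (⟨x, h.qCore_le_H hx⟩ : H)).2
        (h.mem_ker_iff.2 (h.trivial_of_mem_qCore hx)), one_mul, inv_one, mul_one]) ha
    exact (mul_inv_eq_iff_eq_mul.1 this).symm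
  exact (mem_centralizer_singleton_iff.1 (hle hl)).symm

theorem outer_nonempty : (outerCells σ T₁ H 𝒞).Nonempty := by
  obtain ⟨c, hc⟩ := hC.nonempty
  obtain ⟨d, hd, -⟩ := h.exists_outerCell hC hc
  exact ⟨d, hd⟩

/-- The lifted groups are outside `M`. -/
theorem lift_not_le {c : Subgroup P × Subgroup P} (hc : c ∈ outerCells σ T₁ H 𝒞) : ¬ c.2 ≤ M := by
  intro hle
  apply h.not_le
  set K : Subgroup P := T₁ ⊔ grpsJoin (outerCells σ T₁ H 𝒞) with hK
  have hKM : K ≤ M := sup_le h.le_M (iSup_le fun d => by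
    obtain ⟨t, ht, -, h2⟩ := h.outer_trans hC hc d.2
    rw [← h2]
    exact (cj_mono hle).trans (cj_le_of_mem (h.le_M ht)))
  have hKH : K ≤ H := sup_le h.le_H (iSup_le fun d => (h.lift_spec hC d.2).2.1)
  have htop : img σ T₁ H K = ⊤ := by
    rw [eq_top_iff, ← hC.gen]
    refine sup_le (iSup_le fun c' => ?_) (img_mono le_sup_left)
    obtain ⟨d, hd, hde⟩ := h.exists_outerCell hC c'.2
    have e : c'.1.2 = img σ T₁ H d.2 := congrArg (fun x : 𝒞 => x.1.2)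
      (hC.pre.fam.root_inj qRep_injective (c := c') (d := ⟨_, (h.lift_spec hC hd).2.2.1⟩) hde.symm)
    rw [e]
    exact img_mono ((le_iSup (fun d : outerCells σ T₁ H 𝒞 => d.1.2) ⟨d, hd⟩).trans le_sup_right)
  intro x hx
  obtain ⟨y, hy, hyx⟩ := htop.ge (mem_top (QuotientGroup.mk (⟨x, hx⟩ : H)))
  have h2 := h.mem_M_of_trivial (h.mem_ker_iff.1 (QuotientGroup.eq.1 hyx))
  simpa using mul_mem (hKM (mem_subgroupOf.1 hy)) h2

theorem join_outer_le : rootsJoin (outerCells σ T₁ H 𝒞) ≤ T₁ := iSup_le fun c => c.2.2.1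

/-- The centraliser of the outer roots in `T₁` is `Q J`. -/
theorem centralizer_join {x : P} (hx : x ∈ T₁)
    (hc : ∀ j ∈ rootsJoin (outerCells σ T₁ H 𝒞), x * j = j * x) :
    ∃ j ∈ rootsJoin (outerCells σ T₁ H 𝒞), ∃ r ∈ qCore T₁ H, x = j * r := by
  set J := rootsJoin (outerCells σ T₁ H 𝒞)
  set xb : QG σ T₁ H := QuotientGroup.mk (⟨x, h.le_H hx⟩ : H)
  have hroot : ∀ c ∈ 𝒞, c.1 ≤ img σ T₁ H J := fun c hc => by
    obtain ⟨d, hd, hde⟩ := h.exists_outerCell hC hc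
    rw [← hde]
    exact img_mono ((h.outer_fam hC).root_le_join ⟨d, hd⟩)
  have h1 : xb ∈ rootsJoin 𝒞 := by
    refine hC.pre.mem_join_of_commute (mk_mem_img (Y := T₁) (g := ⟨x, h.le_H hx⟩) hx) fun c hc' b hb => ?_
    obtain ⟨j, hj, rfl⟩ := hroot c hc' hb
    show xb * QuotientGroup.mk j = QuotientGroup.mk j * xb
    rw [← QuotientGroup.mk_mul, ← QuotientGroup.mk_mul]
    congr 1
    exact Subtype.ext (hc j (mem_subgroupOf.1 hj))
  obtain ⟨j, hj, hjx⟩ := (iSup_le (fun c : 𝒞 => hroot c.1 c.2) : rootsJoin 𝒞 ≤ _) h1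
  refine ⟨j, mem_subgroupOf.1 hj, (j : P)⁻¹ * x, ?_, by group⟩
  exact h.mem_qCore_of_trivial (mul_mem (inv_mem (h.join_outer_le hC (mem_subgroupOf.1 hj))) hx)
    (h.mem_ker_iff.1 (QuotientGroup.eq.1 hjx))

/-- No element outside `T₁` keeps an outer root outer. -/
theorem translate_le_qCore {t : P} (ht : t ∈ (T : Subgroup P)) (htN : t ∈ normalizer (T₁ : Set P))
    (htn : t ∉ T₁) {c : Subgroup P × Subgroup P} (hc : c ∈ outerCells σ T₁ H 𝒞) :
    cj t c.1 ≤ qCore T₁ H := by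
  classical
  set O := outerCells σ T₁ H 𝒞
  set F := h.outer_fam hC
  haveI : Fintype O := Fintype.ofFinite _
  have hcT : cj t c.1 ≤ T₁ := (cj_mono hc.2.1).trans (cj_eq_self.2 htN).le
  by_contra hQ
  obtain ⟨d, hd, hde⟩ := h.exists_cell_of_outer hC (hc.1.1.map_cj t) hcT hQ
  -- then `t` permutes the outer roots
  set J := rootsJoin O
  have htJ : cj t J = J := by
    refine eq_of_le_of_card_ge ?_ (card_cj t J).ge
    rw [show J = rootsJoin O from rfl, rootsJoin, cj, Subgroup.map_iSup]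
    refine iSup_le fun e => ?_
    obtain ⟨s, hs, h1, -⟩ := h.outer_trans hC hc e.2
    have hs' : t * s * t⁻¹ ∈ T₁ := (cj_eq_self.2 htN).le (conj_mem_cj hs)
    show cj t e.1.1 ≤ _
    rw [← h1, cj_cj, show t * s = (t * s * t⁻¹) * t by group, ← cj_cj, ← hde]
    exact F.root_le_join ⟨_, h.outer_map hC hs' hd⟩
  have hQJ : ∀ r ∈ qCore T₁ H, ∀ j ∈ J, Commute r j := fun r hr j hj => by
    have : J ≤ centralizer ({r} : Set P) := iSup_le fun e a ha => mem_centralizer_singleton_iff.2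
      ((h.orth_qCore hC e.2).commute h.inj hr ((F.data e).le ha)).eq.symm
    exact (mem_centralizer_singleton_iff.1 (this hj)).symm
  have hJcomm : ∀ i ∈ J, ∀ j ∈ J, i * j = j * i := by
    have hrr : ∀ e e' : O, e.1.1 ≤ centralizer (e'.1.1 : Set P) := fun e e' => by
      rcases eq_or_ne e e' with rfl | hne
      · exact fun a ha => mem_centralizer_iff.2 fun b hb =>
          (commute_of_fix h.inj ((F.data e).quad b hb a ha) ((F.data e).quad a ha b hb)).eq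
      · exact (F.root_orth hne).le_centralizer h.inj
    have hJJ : J ≤ centralizer (J : Set P) := iSup_le fun e =>
      le_centralizer_iff.1 (iSup_le fun e' => le_centralizer_iff.1 (hrr e e'))
    exact fun i hi j hj => (mem_centralizer_iff.1 (hJJ hi) j hj).symm
  -- a vector of `W` moved by a given nontrivial element of `J`
  have hmoved : ∀ j ∈ J, j ≠ 1 → ∃ w ∈ qFix σ T₁ H, σ j w ≠ w := by
    intro j hj hj1
    by_contra hall
    push Not at hall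
    have hjQ := h.mem_qCore_of_trivial (h.join_outer_le hC hj) hall
    obtain ⟨tc, htc⟩ := F.exists_components hj
    refine hj1 (h.inj (AddMonoidHom.ext fun v => ?_))
    show σ j v = σ 1 v
    rw [apply_one, ← sub_eq_zero, htc]
    refine Finset.sum_eq_zero fun e _ => ?_
    have h2 : σ j v - v ∈ fix σ e.1.2 := fun l hl => ((h.orth_qCore hC e.2) j hjQ l hl v).2
    have h3 := ((F.data e).ker _).2 h2
    rw [F.components_ψ htc] at h3
    rcases mul_eq_zero.1 (by simpa using congrFun h3 0 : tc e * (F.data e).ψ v 1 = 0) with h4 | h4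
    · rw [h4, show (F.data e).u 0 = 1 by
        show (((F.data e).φ.symm (CfsgLib.Linear.upperUni 0) : e.1.2) : P) = 1
        rw [CfsgLib.Linear.upperUni, Matrix.SpecialLinearGroup.transvection_coeff_zero, map_one]; rfl,
        apply_one, sub_self]
    · rw [sub_eq_zero]; exact (F.data e).fixB v h4 _ ((F.data e).u_mem _)
  -- fixed points of `r j`
  have hfix : ∀ r ∈ qCore T₁ H, ∀ j ∈ J, ∀ v, σ (r * j) v = v → σ r v = v ∧ σ j v = v := by
    intro r hr j hj v hv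
    obtain ⟨tc, htc⟩ := F.exists_components hj
    have e1 : σ (r * j) v - v = (σ r v - v) + (σ j v - v) := by
      have h1 : σ r (σ j v - v) = σ j v - v := by
        rw [htc, map_sum]
        exact Finset.sum_congr rfl fun e _ =>
          ((h.orth_qCore hC e.2) r hr _ ((F.data e).le ((F.data e).u_mem _)) v).1
      rw [apply_mul, ← sub_add_cancel (σ j v) v, map_add, h1]; abel
    rw [hv, sub_self] at e1
    have hjv : σ j v = v := by
      rw [← sub_eq_zero, htc]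
      refine Finset.sum_eq_zero fun e _ => ?_
      have h2 : σ j v - v ∈ fix σ e.1.2 := by
        rw [eq_neg_of_add_eq_zero_right e1.symm]
        exact neg_mem fun l hl => ((h.orth_qCore hC e.2) r hr l hl v).2
      have h3 := ((F.data e).ker _).2 h2
      rw [F.components_ψ htc] at h3
      rcases mul_eq_zero.1 (by simpa using congrFun h3 0 : tc e * (F.data e).ψ v 1 = 0) with h4 | h4
      · rw [h4, show (F.data e).u 0 = 1 by
          show (((F.data e).φ.symm (CfsgLib.Linear.upperUni 0) : e.1.2) : P) = 1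
          rw [CfsgLib.Linear.upperUni, Matrix.SpecialLinearGroup.transvection_coeff_zero, map_one]; rfl,
          apply_one, sub_self]
      · rw [sub_eq_zero]; exact (F.data e).fixB v h4 _ ((F.data e).u_mem _)
    refine ⟨?_, hjv⟩
    rwa [apply_mul, hjv] at hv
  set N := normalizer (qCore T₁ H : Set P)
  suffices htQ : t ∈ N by
    exact h.q_ne_bot (h.eq_bot_of_outside qCore_le le_normalizer_qCore ht htn htQ)
  refine mem_normalizer_of_cj_le ?_
  rintro _ ⟨r, hr, rfl⟩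
  show t * r * t⁻¹ ∈ qCore T₁ H
  have hconjT : t * r * t⁻¹ ∈ T₁ := (cj_eq_self.2 htN).le (conj_mem_cj (qCore_le hr))
  obtain ⟨j, hj, r', hr', he⟩ := h.centralizer_join hC hconjT fun i hi => by
    obtain ⟨i', hi', rfl⟩ := htJ.ge hi
    show t * r * t⁻¹ * (t * i' * t⁻¹) = t * i' * t⁻¹ * (t * r * t⁻¹)
    calc t * r * t⁻¹ * (t * i' * t⁻¹) = t * (r * i') * t⁻¹ := by group
      _ = t * (i' * r) * t⁻¹ := by rw [(hQJ r hr i' hi').eq]
      _ = _ := by group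
  by_cases hj1 : j = 1
  · rw [hj1, one_mul] at he
    rwa [he]
  -- otherwise pull back the enlargement
  exfalso
  set i := t⁻¹ * j⁻¹ * t with hi
  have hiJ : i ∈ J := mem_cj.1 (htJ.ge (inv_mem hj))
  have hi1 : i ≠ 1 := fun e => hj1 (by
    have : j⁻¹ = t * i * t⁻¹ := by rw [hi]; group
    rw [e] at this; simpa using this)
  obtain ⟨w, hw, hwm⟩ := hmoved i hiJ hi1
  have hconj : t * (r * i) * t⁻¹ = r' := by
    calc t * (r * i) * t⁻¹ = t * r * t⁻¹ * j⁻¹ := by rw [hi]; group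
      _ = j * r' * j⁻¹ := by rw [he]
      _ = r' := by rw [← (hQJ r' hr' j hj).eq, mul_inv_cancel_right]
  -- `w` is fixed by `r`, hence its translate by `r'` and `j`
  have h1 : σ (t * r * t⁻¹) (σ t w) = σ t w := by
    rw [← apply_mul, inv_mul_cancel_right, apply_mul, h.trivial_of_mem_qCore hr w hw]
  rw [he, ← (hQJ r' hr' j hj).eq] at h1
  obtain ⟨h2, -⟩ := hfix r' hr' j hj _ h1
  rw [← hconj, ← apply_mul, inv_mul_cancel_right, apply_mul] at h2
  exact hwm (hfix r hr i hiJ w (apply_injective σ t h2)).2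

/-- The translates form the family of all minimal offenders of `T₁`. -/
theorem exists_root {A : Subgroup P} (hA : IsMinOff σ A) (hAT : A ≤ T₁) :
    ∃ c ∈ allCells σ (T : Subgroup P) T₁ H 𝒞, c.1 = A := by
  classical
  by_contra hno
  push Not at hno
  set 𝒜 := allCells σ (T : Subgroup P) T₁ H 𝒞
  set R : Subgroup P := ⨆ B : {B : Subgroup P // IsMinOff σ B ∧ B ≤ T₁ ∧ ∀ c ∈ 𝒜, c.1 ≠ B}, B.1
  have hRQ : R ≤ qCore T₁ H := iSup_le fun B => by
    by_contra hQ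
    obtain ⟨c, hc, hcB⟩ := h.exists_cell_of_outer hC B.2.1 B.2.2.1 hQ
    exact B.2.2.2 c ⟨1, one_mem _, c, hc, by rw [cj_one, cj_one]⟩ hcB
  have hN1 : ∀ u ∈ (T : Subgroup P) ⊓ normalizer (T₁ : Set P), u ∈ normalizer (R : Set P) := by
    intro u hu
    refine mem_normalizer_of_cj_le ?_
    rw [show R = _ from rfl, cj, Subgroup.map_iSup]
    refine iSup_le fun B => le_iSup_of_le ⟨cj u B.1, B.2.1.map_cj u,
      (cj_mono B.2.2.1).trans (cj_eq_self.2 hu.2).le, fun c hc hcB => ?_⟩ le_rfl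
    obtain ⟨v, hv, d, hd, rfl⟩ := hc
    exact B.2.2.2 _ ⟨u⁻¹ * v, mul_mem (inv_mem hu) hv, d, hd, rfl⟩ (by
      show cj (u⁻¹ * v) d.1 = B.1
      rw [← cj_cj, show cj v d.1 = cj u B.1 from hcB, cj_inv_cj])
  obtain ⟨c, hc⟩ := h.outer_nonempty hC
  have hLR : c.2 ≤ normalizer (R : Set P) := fun l hl => mem_normalizer_of_cj_le (by
    rintro _ ⟨r, hr, rfl⟩
    show l * r * l⁻¹ ∈ R
    rw [← ((h.orth_qCore hC hc).commute h.inj (hRQ hr) hl).eq, mul_inv_cancel_right]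
    exact hr)
  have hTN : T₁ ≤ normalizer (R : Set P) := fun t ht => hN1 t ⟨h.le_T ht, le_normalizer ht⟩
  have hH : H ≤ normalizer (R : Set P) := by
    by_contra hne
    have := h.minimal (H ⊓ normalizer (R : Set P)) (le_inf h.le_H hTN) inf_le_left
      fun e => hne (e ▸ inf_le_right)
    exact h.lift_not_le hC hc ((le_inf (h.lift_spec hC hc).2.1 hLR).trans this)
  obtain ⟨t, ht, htn, htN⟩ := h.exists_outside
  have hR := h.eq_bot_of_outside (hRQ.trans qCore_le) hH ht htn (hN1 t ⟨ht, htN⟩)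
  exact hA.ne_bot (le_bot_iff.1 ((le_iSup (fun B : {B : Subgroup P // IsMinOff σ B ∧ B ≤ T₁ ∧
    ∀ c ∈ 𝒜, c.1 ≠ B} => B.1) ⟨A, hA, hAT, hno⟩).trans hR.le))

theorem all_root_le {c : Subgroup P × Subgroup P} (hc : c ∈ allCells σ (T : Subgroup P) T₁ H 𝒞) :
    c.1 ≤ T₁ ∧ IsMinOff σ c.1 := by
  obtain ⟨u, hu, d, hd, rfl⟩ := hc
  exact ⟨(cj_mono hd.2.1).trans (cj_eq_self.2 hu.2).le, hd.1.1.map_cj u⟩

theorem all_map {t : P} (ht : t ∈ (T : Subgroup P) ⊓ normalizer (T₁ : Set P))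
    {c : Subgroup P × Subgroup P} (hc : c ∈ allCells σ (T : Subgroup P) T₁ H 𝒞) :
    (cj t c.1, cj t c.2) ∈ allCells σ (T : Subgroup P) T₁ H 𝒞 := by
  obtain ⟨u, hu, d, hd, rfl⟩ := hc
  exact ⟨t * u, mul_mem ht hu, d, hd, by rw [cj_cj, cj_cj]⟩

theorem all_fam : Fam σ (allCells σ (T : Subgroup P) T₁ H 𝒞) := by
  refine ⟨fun c hc => ?_, fun c hc d hd hne => ?_⟩
  · obtain ⟨u, hu, d, hd, rfl⟩ := hc
    exact (h.lift_spec hC hd).1.map_cj u
  · obtain ⟨u, hu, c', hc', rfl⟩ := hc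
    obtain ⟨v, hv, d', hd', rfl⟩ := hd
    have key : Orth σ (cj (v⁻¹ * u) c'.1) d'.2 := by
      by_cases hT : v⁻¹ * u ∈ T₁
      · refine (h.outer_fam hC).orth _ (h.outer_map hC hT hc') _ hd' fun e => hne ?_
        rw [← e]
        simp only [cj_cj, mul_inv_cancel_left]
      · exact (h.orth_qCore hC hd').mono
          (h.translate_le_qCore hC (mul_mem (inv_mem hv.1) hu.1) (mul_mem (inv_mem hv.2) hu.2) hT hc')
          le_rfl
    have h2 := key.map_cj v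
    rwa [cj_cj, mul_inv_cancel_left] at h2

/-- The translates of the outer roots. -/
theorem local_join {u : P} (hu : u ∈ (T : Subgroup P) ⊓ normalizer (T₁ : Set P)) :
    cj u (rootsJoin (outerCells σ T₁ H 𝒞)) ≠ ⊥ ∧ cj u (rootsJoin (outerCells σ T₁ H 𝒞)) ≤ T₁ ∧
      T₁ ≤ normalizer ((cj u (rootsJoin (outerCells σ T₁ H 𝒞)) : Subgroup P) : Set P) ∧
      ¬ normalizer ((cj u (rootsJoin (outerCells σ T₁ H 𝒞)) : Subgroup P) : Set P) ≤ M := by
  set J := rootsJoin (outerCells σ T₁ H 𝒞) with hJ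
  obtain ⟨c, hc⟩ := h.outer_nonempty hC
  refine ⟨fun e => hc.1.1.ne_bot (le_bot_iff.1 ?_),
    (cj_mono (h.join_outer_le hC)).trans (cj_eq_self.2 hu.2).le, fun x hx => ?_, fun hle => ?_⟩
  · have h1 := (cj_mono (g := u⁻¹) e.le)
    rw [cj_inv_cj] at h1
    exact (((h.outer_fam hC).root_le_join ⟨c, hc⟩).trans h1).trans (Subgroup.map_bot _).le
  · have hx' : u⁻¹ * x * u ∈ T₁ := mem_cj.1 ((cj_eq_self.2 hu.2).ge hx)
    have hN : u⁻¹ * x * u ∈ normalizer (J : Set P) := mem_normalizer_of_cj_le (by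
      rw [hJ, rootsJoin, cj, Subgroup.map_iSup]
      exact iSup_le fun e => (h.outer_fam hC).root_le_join ⟨_, h.outer_map hC hx' e.2⟩)
    have h1 := le_normalizer_map (H := J) (MulAut.conj u).toMonoidHom (conj_mem_cj hN)
    simpa [mul_assoc] using h1
  · obtain ⟨t, ht, htn, htN⟩ := h.exists_outside
    have hQ : cj t J ≤ qCore T₁ H := by
      rw [hJ, rootsJoin, cj, Subgroup.map_iSup]
      exact iSup_le fun e => h.translate_le_qCore hC ht htN htn e.2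
    have hLN : c.2 ≤ normalizer ((cj t J : Subgroup P) : Set P) := fun l hl =>
      mem_normalizer_of_cj_le (by
        rintro _ ⟨r, hr, rfl⟩
        show l * r * l⁻¹ ∈ cj t J
        rw [← ((h.orth_qCore hC hc).commute h.inj (hQ hr) hl).eq, mul_inv_cancel_right]
        exact hr)
    apply h.lift_not_le hC hc
    intro l hl
    have h1 : cj (u * t⁻¹ * l * (u * t⁻¹)⁻¹) (cj u J) = cj u J := by
      have e : cj l (cj t J) = cj t J := cj_eq_self.2 (hLN hl)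
      rw [cj_cj, show u * t⁻¹ * l * (u * t⁻¹)⁻¹ * u = u * t⁻¹ * (l * t) by group, ← cj_cj (u * t⁻¹),
        ← cj_cj l t, e, cj_cj, inv_mul_cancel_right]
    have h2 := hle (cj_eq_self.1 h1)
    have hut : u * t⁻¹ ∈ M := mul_mem (h.pmin.le hu.1) (inv_mem (h.pmin.le ht))
    have h3 := mul_mem (mul_mem (inv_mem hut) h2) hut
    rwa [show (u * t⁻¹)⁻¹ * (u * t⁻¹ * l * (u * t⁻¹)⁻¹) * (u * t⁻¹) = l by group] at h3

/-- A `p`-group normalising one translate and containing all roots has no other minimal offender. -/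
theorem count {u : P} (hu : u ∈ (T : Subgroup P) ⊓ normalizer (T₁ : Set P)) {Y : Subgroup P}
    (hY : IsPGroup p Y) (hYN : Y ≤ normalizer
      ((cj u (rootsJoin (outerCells σ T₁ H 𝒞)) : Subgroup P) : Set P))
    (hroots : ∀ c ∈ allCells σ (T : Subgroup P) T₁ H 𝒞, c.1 ≤ Y) {B : Subgroup P}
    (hB : IsMinOff σ B) (hBY : B ≤ Y) : ∃ c ∈ allCells σ (T : Subgroup P) T₁ H 𝒞, c.1 = B := by
  classical
  set R := cj u (rootsJoin (outerCells σ T₁ H 𝒞))
  set 𝒜 := allCells σ (T : Subgroup P) T₁ H 𝒞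
  obtain ⟨hR, hRT, hTR, hRM⟩ := h.local_join hC hu
  set N := normalizer (R : Set P)
  obtain ⟨S, hS⟩ := (h.pgroup.comap_subtype (K := N)).exists_le_sylow
  have hST : (S : Subgroup N).map N.subtype = T₁ :=
    h.eq_of_le_local hR (h.pgroup.to_le hRT) (hRT.trans h.le_M) hRM (S.isPGroup'.map _)
      (map_subtype_le _) fun x hx => ⟨⟨x, hTR hx⟩, hS hx, rfl⟩
  obtain ⟨S', hS'⟩ := (hY.comap_subtype (K := N)).exists_le_sylow
  obtain ⟨g, hg⟩ := MulAction.exists_smul_eq N S' S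
  have hYT : cj (g : P) Y ≤ T₁ := by
    rintro _ ⟨y, hy, rfl⟩
    rw [← hST]
    refine ⟨g * ⟨y, hYN hy⟩ * g⁻¹, ?_, rfl⟩
    rw [← hg, Sylow.coe_subgroup_smul]
    exact ⟨⟨y, hYN hy⟩, hS' hy, rfl⟩
  let roots : Set (Subgroup P) := Prod.fst '' 𝒜
  let offs : Set (Subgroup P) := {B | IsMinOff σ B ∧ B ≤ Y}
  have hsub : roots ⊆ offs := by
    rintro _ ⟨c, hc, rfl⟩
    exact ⟨(h.all_root_le hC hc).2, hroots c hc⟩
  have hmaps : Set.MapsTo (fun B => cj (g : P) B) offs roots := by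
    intro B hB'
    obtain ⟨c, hc, hce⟩ := h.exists_root hC (hB'.1.map_cj g) ((cj_mono hB'.2).trans hYT)
    exact ⟨c, hc, hce⟩
  have hcard : offs.ncard ≤ roots.ncard :=
    Set.ncard_le_ncard_of_injOn _ hmaps
      (fun a _ b _ e => by
        have e' : cj (g : P) a = cj (g : P) b := e
        rw [← cj_inv_cj (g : P) a, e', cj_inv_cj]) (Set.toFinite _)
  have heq := Set.eq_of_subset_of_ncard_le hsub hcard (Set.toFinite _)
  obtain ⟨c, hc, hce⟩ := heq.ge (⟨hB, hBY⟩ : B ∈ offs)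
  exact ⟨c, hc, hce⟩

/-- Two translates differ. -/
theorem exists_other (B : Subgroup P) :
    ∃ u ∈ (T : Subgroup P) ⊓ normalizer (T₁ : Set P),
      ∀ c ∈ outerCells σ T₁ H 𝒞, cj u c.1 ≠ B := by
  obtain ⟨t, ht, htn, htN⟩ := h.exists_outside
  by_cases hB : ∃ c ∈ outerCells σ T₁ H 𝒞, c.1 = B
  · obtain ⟨c₀, hc₀, rfl⟩ := hB
    exact ⟨t, ⟨ht, htN⟩, fun c hc e =>
      h.not_le_qCore hC hc₀ (e ▸ h.translate_le_qCore hC ht htN htn hc)⟩
  · exact ⟨1, one_mem _, fun c hc e => hB ⟨c, hc, by rwa [cj_one] at e⟩⟩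

theorem normalizer_all_le :
    normalizer ((rootsJoin (allCells σ (T : Subgroup P) T₁ H 𝒞) : Subgroup P) : Set P) ≤ M := by
  set 𝒜 := allCells σ (T : Subgroup P) T₁ H 𝒞
  by_contra hle
  obtain ⟨A, hA, hAT⟩ := h.hasOff
  obtain ⟨t, ht, htn, htN⟩ := h.exists_outside
  have hJT : rootsJoin 𝒜 ≤ T₁ := iSup_le fun c => (h.all_root_le hC c.2).1
  have hNn : ∀ u ∈ (T : Subgroup P) ⊓ normalizer (T₁ : Set P),
      u ∈ normalizer (rootsJoin 𝒜 : Set P) := fun u hu => mem_normalizer_of_cj_le (by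
    rw [rootsJoin, cj, Subgroup.map_iSup]
    exact iSup_le fun c => (h.all_fam hC).root_le_join ⟨_, h.all_map hC hu c.2⟩)
  obtain ⟨c, hc⟩ := h.outer_nonempty hC
  have hne : rootsJoin 𝒜 ≠ ⊥ := fun e => hc.1.1.ne_bot (le_bot_iff.1
    (((h.all_fam hC).root_le_join ⟨c, 1, one_mem _, c, hc, by rw [cj_one, cj_one]⟩).trans e.le))
  set Y := T₁ ⊔ zpowers t
  have hYT : Y ≤ (T : Subgroup P) := sup_le h.le_T (zpowers_le.2 ht)
  have hcard := h.maxl _ Y hne (h.pgroup.to_le hJT) (hJT.trans h.le_M) hle (T.isPGroup'.to_le hYT)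
    (hYT.trans h.pmin.le)
    (sup_le (fun x hx => hNn x ⟨h.le_T hx, le_normalizer hx⟩) (zpowers_le.2 (hNn t ⟨ht, htN⟩)))
    ⟨A, hA, hAT.trans le_sup_left⟩
  have e : T₁ = Y := eq_of_le_of_card_ge le_sup_left hcard
  exact htn (e.symm.le (mem_sup_right (mem_zpowers t)))

end Loc

end CfsgLib.FFCells
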