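import Cfsg.Agent.FFCells.LocalOuter

/-!
An outer minimal offender is determined by its action on `W`; hence the cells of `W` lift to cells of `V`.
-/

set_option autoImplicit false
set_option linter.style.haveILetI false
set_option maxHeartbeats 1000000

namespace CfsgLib.FFCells

open Subgroup CfsgLib.SL2Recognition

variable {P V : Type*} [Group P] [AddCommGroup V] [Finite P] [Finite V] {σ : P →* AddMonoid.End V}
  {p : ℕ} [Fact p.Prime] {T : Sylow p P} {M T₁ H : Subgroup P}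

/-- The group over a cell of `W` generated by the conjugates of `A`. -/
def liftGrp (σ : P →* AddMonoid.End V) (T₁ H A : Subgroup P) (L : Subgroup (QG σ T₁ H)) :
    Subgroup P :=
  ⨆ x : {x : H // (QuotientGroup.mk x : QG σ T₁ H) ∈ L}, cj (x.1 : P) A

/-- Two elements acting alike on `W`. -/
def Alike (σ : P →* AddMonoid.End V) (T₁ H : Subgroup P) (a b : P) : Prop :=
  ∀ w ∈ qFix σ T₁ H, σ a w = σ b w

theorem alike_of_mk {a b : H}
    (e : (QuotientGroup.mk a : QG σ T₁ H) = QuotientGroup.mk b) : Alike σ T₁ H a b := fun w hw => by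
  have := congrArg (fun x => (qRep σ T₁ H x ⟨w, hw⟩ : V)) e
  simpa only [qRep_mk] using this

namespace Loc

variable (h : Loc σ T M T₁ H)
  {𝒞 : Set (Subgroup (QG σ T₁ H) × Subgroup (QG σ T₁ H))}
  (hC : Config (qRep σ T₁ H) p (img σ T₁ H T₁) 𝒞)
include h

theorem mk_eq_of_alike {a b : H} (e : Alike σ T₁ H (a : P) b) :
    (QuotientGroup.mk a : QG σ T₁ H) = QuotientGroup.mk b := by
  rw [QuotientGroup.eq, h.mem_ker_iff]
  intro w hw
  rw [Subgroup.coe_mul, apply_mul, ← e w hw, ← apply_mul, ← Subgroup.coe_mul, inv_mul_cancel]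
  exact apply_one σ w

/-- The normal `p`-group of transvections along `W`. -/
theorem mem_qCore_of_translation {n : P} (hn : n ∈ H) (h1 : ∀ w ∈ qFix σ T₁ H, σ n w = w)
    (h2 : ∀ v, σ n v - v ∈ qFix σ T₁ H) : n ∈ qCore T₁ H := by
  let K : Subgroup P :=
    { carrier := {n | n ∈ H ∧ (∀ w ∈ qFix σ T₁ H, σ n w = w) ∧ ∀ v, σ n v - v ∈ qFix σ T₁ H}
      one_mem' := ⟨one_mem H, fun w _ => apply_one σ w, fun v => by simp [apply_one]⟩
      mul_mem' := fun {a b} ha hb => ⟨mul_mem ha.1 hb.1,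
        fun w hw => by rw [apply_mul, hb.2.1 w hw, ha.2.1 w hw],
        fun v => by
          rw [apply_mul, ← sub_add_sub_cancel (σ a (σ b v)) (σ b v) v]
          exact add_mem (ha.2.2 _) (hb.2.2 v)⟩
      inv_mem' := fun {a} ha => ⟨inv_mem ha.1,
        fun w hw => by conv_lhs => rw [← ha.2.1 w hw, apply_inv_apply],
        fun v => by
          rw [show σ a⁻¹ v - v = -(σ a (σ a⁻¹ v) - σ a⁻¹ v) by rw [apply_apply_inv]; abel]
          exact neg_mem (ha.2.2 _)⟩ }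
  have hKp : IsPGroup p K := fun ⟨x, hx⟩ => ⟨1, Subtype.ext (h.inj (AddMonoidHom.ext fun v => by
    show σ (x ^ p ^ 1) v = σ 1 v
    have hk : ∀ k : ℕ, σ (x ^ k) v = v + k • (σ x v - v) := by
      intro k
      induction k with
      | zero => simp [apply_one]
      | succ k ih =>
        rw [pow_succ', apply_mul, ih, map_add, map_nsmul, hx.2.1 _ (hx.2.2 v), succ_nsmul]; abel
    rw [pow_one, hk, h.exp, add_zero, apply_one]))⟩
  refine h.le_qCore_of_pgroup (fun x (hx : x ∈ K) => hx.1) hKp (fun g hg => mem_normalizer_of_cj_le ?_)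
    (show n ∈ K from ⟨hn, h1, h2⟩)
  rintro _ ⟨x, hx, rfl⟩
  show g * x * g⁻¹ ∈ H ∧ (∀ w ∈ qFix σ T₁ H, σ (g * x * g⁻¹) w = w) ∧
    ∀ v, σ (g * x * g⁻¹) v - v ∈ qFix σ T₁ H
  refine ⟨mul_mem (mul_mem hg hx.1) (inv_mem hg), fun w hw => ?_, fun v => ?_⟩
  · rw [apply_mul, apply_mul, hx.2.1 _ (apply_qFix (inv_mem hg) hw), apply_apply_inv]
  · have e : σ (g * x * g⁻¹) v - v = σ g (σ x (σ g⁻¹ v) - σ g⁻¹ v) := by
      rw [map_sub, apply_mul, apply_mul, apply_apply_inv]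
    rw [e]; exact apply_qFix hg (hx.2.2 _)

include hC

/-- The basic properties of an outer minimal offender. -/
theorem outer_props {A : Subgroup P} (hA : IsOuter σ T₁ H A) :
    (∀ a ∈ A, (∀ w ∈ qFix σ T₁ H, σ a w = w) → a = 1) ∧
      qFix σ T₁ H ⊔ fix σ A = ⊤ ∧
      ∃ L, IsCell (qRep σ T₁ H) (img σ T₁ H A) L := by
  obtain ⟨hm, g, hg, hgT, hgQ⟩ := hA
  obtain ⟨hinf, hsplit, c, hc⟩ := h.outer_spec hC (hm.map_cj g) hgT hgQ
  refine ⟨fun a ha hw => ?_, ?_, ?_⟩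
  · have h1 : g * a * g⁻¹ ∈ cj g A ⊓ qCore T₁ H := by
      refine ⟨conj_mem_cj ha, h.mem_qCore_of_trivial (hgT (conj_mem_cj ha)) fun w hw' => ?_⟩
      rw [apply_mul, apply_mul, hw _ (apply_qFix (inv_mem hg) hw'), apply_apply_inv]
    rw [hinf, mem_bot] at h1
    simpa using h1
  · refine eq_top_iff.2 fun v _ => ?_
    obtain ⟨w, hw, f, hf, e⟩ := AddSubgroup.mem_sup.1 (hsplit.ge (AddSubgroup.mem_top (σ g v)))
    refine AddSubgroup.mem_sup.2 ⟨σ g⁻¹ w, apply_qFix (inv_mem hg) hw, σ g⁻¹ f, mem_fix_cj.1 hf, ?_⟩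
    rw [← map_add, e, apply_inv_apply]
  · obtain ⟨D⟩ := hC.pre.fam.cell c.1 c.2
    refine ⟨cj (QuotientGroup.mk (⟨g, hg⟩ : H))⁻¹ c.1.2, ?_⟩
    have h1 := IsCell.map_cj ⟨D⟩ (σ := qRep σ T₁ H) (QuotientGroup.mk (⟨g, hg⟩ : H))⁻¹
    rwa [← hc, img_cj hg, cj_inv_cj] at h1

theorem apply_sub_mem {A : Subgroup P} (hA : IsOuter σ T₁ H A) {a : P} (ha : a ∈ A) (v : V) :
    σ a v - v ∈ qFix σ T₁ H := by
  obtain ⟨-, hsplit, -⟩ := h.outer_props hC hA
  obtain ⟨w, hw, f, hf, rfl⟩ := AddSubgroup.mem_sup.1 (hsplit.ge (AddSubgroup.mem_top v))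
  rw [map_add, hf a ha, add_sub_add_right_eq_sub]
  exact sub_mem (apply_qFix (hA.le h.le_H ha) hw) hw

theorem card_img_outer {A : Subgroup P} (hA : IsOuter σ T₁ H A) :
    Nat.card (img σ T₁ H A) = Nat.card A := by
  refine (Nat.card_congr (Equiv.ofBijective
    (fun a : A => (⟨QuotientGroup.mk (⟨a, hA.le h.le_H a.2⟩ : H),
      mk_mem_img (Y := A) (g := ⟨a, hA.le h.le_H a.2⟩) a.2⟩ : img σ T₁ H A)) ⟨fun a b e => ?_, ?_⟩)).symm
  · refine Subtype.ext (inv_mul_eq_one.1 ((h.outer_props hC hA).1 _ (mul_mem (inv_mem a.2) b.2) ?_))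
    intro w hw
    have e' := alike_of_mk (congrArg Subtype.val e) w hw
    rw [apply_mul, ← e', apply_inv_apply]
  · rintro ⟨_, y, hy, rfl⟩
    exact ⟨⟨y, mem_subgroupOf.1 hy⟩, rfl⟩

/-- An outer offender is determined by its action on `W`. -/
theorem outer_unique {A A' : Subgroup P} (hA : IsOuter σ T₁ H A) (hA' : IsOuter σ T₁ H A')
    (himg : img σ T₁ H A = img σ T₁ H A') : A = A' := by
  classical
  obtain ⟨htriv, hsplit, L, ⟨D⟩⟩ := h.outer_props hC hA
  obtain ⟨htriv', hsplit', L', ⟨D'⟩⟩ := h.outer_props hC hA'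
  have hAH := hA.le h.le_H
  have hAH' := hA'.le h.le_H
  have hmate : ∀ a ∈ A, ∃ a' ∈ A', Alike σ T₁ H a' a := fun a ha => by
    obtain ⟨y, hy, hya⟩ := himg.le (mk_mem_img (Y := A) (g := ⟨a, hAH ha⟩) ha)
    exact ⟨y, mem_subgroupOf.1 hy, alike_of_mk (b := ⟨a, hAH ha⟩) hya⟩
  have hmate' : ∀ a ∈ A', ∃ a' ∈ A, Alike σ T₁ H a a' := fun a ha => by
    obtain ⟨y, hy, hya⟩ := himg.ge (mk_mem_img (Y := A') (g := ⟨a, hAH' ha⟩) ha)
    exact ⟨y, mem_subgroupOf.1 hy, fun w hw => (alike_of_mk (b := ⟨a, hAH' ha⟩) hya w hw).symm⟩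
  have hsub : ∀ {a a' : P}, a ∈ A → a' ∈ A' → Alike σ T₁ H a' a → ∀ v,
      σ (a' * a⁻¹) v - v ∈ qFix σ T₁ H ∧ ∃ w ∈ qFix σ T₁ H,
        σ (a' * a⁻¹) v - v = σ a' w - w ∧ σ a' w = σ a w := by
    intro a a' ha ha' hal v
    obtain ⟨w, hw, f, hf, rfl⟩ := AddSubgroup.mem_sup.1 (hsplit.ge (AddSubgroup.mem_top v))
    obtain ⟨w', hw', f', hf', e⟩ := AddSubgroup.mem_sup.1 (hsplit'.ge (AddSubgroup.mem_top f))
    have h1 : σ (a' * a⁻¹) (w + f) = w + σ a' f := by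
      rw [apply_mul, map_add, hf _ (inv_mem ha), map_add, hal _ (apply_qFix (inv_mem (hAH ha)) hw),
        apply_apply_inv]
    have h2 : σ (a' * a⁻¹) (w + f) - (w + f) = σ a' w' - w' := by
      rw [h1, ← e, map_add, hf' a' ha']; abel
    exact ⟨h2 ▸ sub_mem (apply_qFix (hAH' ha') hw') hw', w', hw', h2, hal w' hw'⟩
  have hnQ : ∀ {a a' : P}, a ∈ A → a' ∈ A' → Alike σ T₁ H a' a → a' * a⁻¹ ∈ qCore T₁ H := by
    intro a a' ha ha' hal
    refine h.mem_qCore_of_translation (mul_mem (hAH' ha') (inv_mem (hAH ha))) (fun w hw => ?_)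
      fun v => (hsub ha ha' hal v).1
    rw [apply_mul, hal _ (apply_qFix (inv_mem (hAH ha)) hw), apply_apply_inv]
  by_cases hone : ∃ a ∈ A, a ≠ 1 ∧ ∃ a' ∈ A', Alike σ T₁ H a' a ∧ a' = a
  · -- a common element forces equality
    obtain ⟨a, ha, ha1, a', ha', hal, rfl⟩ := hone
    have key : ∀ {B : Subgroup P} {LB : Subgroup (QG σ T₁ H)}, IsOuter σ T₁ H B →
        CellData (qRep σ T₁ H) (img σ T₁ H B) LB → a' ∈ B → ∀ v, σ a' v = v → v ∈ fix σ B := by
      intro B LB hB DB haB v hv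
      obtain ⟨htr, hsp, -⟩ := h.outer_props hC hB
      obtain ⟨w, hw, f, hf, rfl⟩ := AddSubgroup.mem_sup.1 (hsp.ge (AddSubgroup.mem_top v))
      rw [map_add, hf a' haB, add_left_inj] at hv
      have hmk : (QuotientGroup.mk (⟨a', hB.le h.le_H haB⟩ : H) : QG σ T₁ H) ≠ 1 := fun e =>
        ha1 (htr a' haB (h.mem_ker_iff.1 ((QuotientGroup.eq_one_iff _).1 e)))
      have h3 := DB.semireg (mk_mem_img (Y := B) (g := ⟨a', hB.le h.le_H haB⟩) haB) hmk
        (v := ⟨w, hw⟩) (Subtype.ext hv)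
      exact add_mem ((mem_fix_img (hB.le h.le_H)).1 h3) hf
    have hAA : fix σ A = fix σ A' := le_antisymm (fun v hv => key hA' D' ha' v (hv a' ha))
      fun v hv => key hA D ha v (hv a' ha')
    have heq : ∀ {b b' : P}, b ∈ A → b' ∈ A' → Alike σ T₁ H b' b → b' = b := by
      intro b b' hb hb' hbal
      refine h.inj (AddMonoidHom.ext fun v => ?_)
      obtain ⟨w, hw, f, hf, rfl⟩ := AddSubgroup.mem_sup.1 (hsplit.ge (AddSubgroup.mem_top v))
      show σ b' (w + f) = σ b (w + f)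
      rw [map_add, map_add, hbal w hw, hf b hb, (hAA ▸ hf : f ∈ fix σ A') b' hb']
    refine le_antisymm (fun b hb => ?_) fun b hb => ?_
    · obtain ⟨b', hb', hbal⟩ := hmate b hb
      rw [← heq hb hb' hbal]; exact hb'
    · obtain ⟨b', hb', hbal⟩ := hmate' b hb
      rw [heq hb' hb hbal]; exact hb'
  exfalso
  push Not at hone
  -- the translations
  have hcomm : ∀ {a a' : P} {x : P}, a ∈ A → a' ∈ A' → Alike σ T₁ H a' a → x ∈ A' →
      Commute x (a' * a⁻¹) := by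
    intro a a' x ha ha' hal hx
    refine commute_of_fix h.inj (fun v => ?_) fun v => ?_
    · obtain ⟨-, w, -, e, -⟩ := hsub ha ha' hal v
      rw [e]; exact hA'.1.quad x hx a' ha' w
    · exact h.trivial_of_mem_qCore (hnQ ha ha' hal) _ (h.apply_sub_mem hC hA' hx v)
  have hcomm2 : ∀ {a a' b b' : P}, a ∈ A → a' ∈ A' → Alike σ T₁ H a' a → b ∈ A → b' ∈ A' →
      Alike σ T₁ H b' b → Commute (a' * a⁻¹) (b' * b⁻¹) := by
    intro a a' b b' ha ha' hal hb hb' hbal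
    exact commute_of_fix h.inj
      (fun v => h.trivial_of_mem_qCore (hnQ ha ha' hal) _ (hsub hb hb' hbal v).1)
      fun v => h.trivial_of_mem_qCore (hnQ hb hb' hbal) _ (hsub ha ha' hal v).1
  let N : Subgroup P :=
    { carrier := {n | ∃ a ∈ A, ∃ a' ∈ A', Alike σ T₁ H a' a ∧ n = a' * a⁻¹}
      one_mem' := ⟨1, one_mem A, 1, one_mem A', fun w _ => rfl, by simp⟩
      mul_mem' := fun {x y} hx hy => by
        obtain ⟨a, ha, a', ha', hal, rfl⟩ := hx
        obtain ⟨b, hb, b', hb', hbal, rfl⟩ := hy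
        refine ⟨a * b, mul_mem ha hb, a' * b', mul_mem ha' hb', fun w hw => ?_, ?_⟩
        · rw [apply_mul, apply_mul, hbal w hw, hal _ (apply_qFix (hAH hb) hw)]
        · rw [(hcomm2 ha ha' hal hb hb' hbal).eq]
          calc b' * b⁻¹ * (a' * a⁻¹) = b' * b⁻¹ * a' * a⁻¹ := by group
            _ = a' * (b' * b⁻¹) * a⁻¹ := by rw [(hcomm hb hb' hbal ha').eq]
            _ = a' * b' * (a * b)⁻¹ := by group
      inv_mem' := fun {x} hx => by
        obtain ⟨a, ha, a', ha', hal, rfl⟩ := hx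
        refine ⟨a⁻¹, inv_mem ha, a'⁻¹, inv_mem ha', fun w hw => ?_, ?_⟩
        · apply apply_injective σ a'
          rw [apply_apply_inv, hal _ (apply_qFix (inv_mem (hAH ha)) hw), apply_apply_inv]
        · rw [inv_inv, _root_.mul_inv_rev, inv_inv]
          calc a * a'⁻¹ = a'⁻¹ * (a' * (a' * a⁻¹)⁻¹) := by group
            _ = a'⁻¹ * ((a' * a⁻¹)⁻¹ * a') := by rw [((hcomm ha ha' hal ha').inv_right).eq]
            _ = a'⁻¹ * a := by group }
  have hNQ : N ≤ qCore T₁ H := by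
    rintro _ ⟨a, ha, a', ha', hal, rfl⟩
    exact hnQ ha ha' hal
  have hNcard : Nat.card A ≤ Nat.card N := by
    choose m hm hmal using hmate
    refine Nat.card_le_card_of_injective
      (fun a : A => (⟨m a a.2 * (a : P)⁻¹, a, a.2, m a a.2, hm a a.2, hmal a a.2, rfl⟩ : N))
      fun a b e => ?_
    have e' : m a a.2 * (a : P)⁻¹ = m b b.2 * (b : P)⁻¹ := congrArg Subtype.val e
    have heq : (m b b.2)⁻¹ * m a a.2 = (b : P)⁻¹ * a := by
      calc (m b b.2)⁻¹ * m a a.2 = (m b b.2)⁻¹ * (m a a.2 * (a : P)⁻¹) * a := by group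
        _ = (b : P)⁻¹ * a := by rw [e']; group
    by_contra hne
    refine hone _ (mul_mem (inv_mem b.2) a.2) (fun e1 => hne (Subtype.ext (inv_mul_eq_one.1 e1).symm))
      _ (mul_mem (inv_mem (hm b b.2)) (hm a a.2)) (fun w hw => ?_) heq
    apply apply_injective σ (m b b.2)
    rw [← apply_mul, mul_inv_cancel_left, hmal a a.2 w hw,
      hmal b b.2 _ (apply_qFix (mul_mem (inv_mem (hAH b.2)) (hAH a.2)) hw), ← apply_mul,
      mul_inv_cancel_left]
  set Z₀ := qFix σ T₁ H ⊔ (fix σ A ⊓ fix σ A') with hZ₀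
  have hZN : ∀ n ∈ N, ∀ z ∈ Z₀, σ n z = z := by
    rintro _ ⟨a, ha, a', ha', hal, rfl⟩ z hz
    obtain ⟨w, hw, f, hf, rfl⟩ := AddSubgroup.mem_sup.1 hz
    rw [map_add, h.trivial_of_mem_qCore (hnQ ha ha' hal) w hw, apply_mul, hf.1 _ (inv_mem ha),
      hf.2 a' ha']
  have hZcard : Nat.card V ≤ Nat.card A * Nat.card Z₀ := by
    have h1 := card_sup_mul_inf (qFix σ T₁ H) (fix σ A ⊓ fix σ A')
    have h2 : Nat.card ↥(qFix σ T₁ H ⊓ (fix σ A ⊓ fix σ A')) ≤ Nat.card ↥(qFix σ T₁ H ⊓ fix σ A) :=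
      Nat.card_le_card_of_injective _ (AddSubgroup.inclusion_injective (inf_le_inf_left _ inf_le_left))
    have h3 := D.card_eq_mul_fix
    rw [h.card_img_outer hC hA, card_fix_img hAH] at h3
    have h4 := card_sup_mul_inf (fix σ A) (fix σ A')
    have h5 : Nat.card ↥(fix σ A ⊔ fix σ A') ≤ Nat.card V :=
      Nat.card_le_card_of_injective _ Subtype.val_injective
    have h6 := hA.1.le
    have h7 := hA'.1.le
    rw [wt] at h6 h7
    have hq : Nat.card A' = Nat.card A := by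
      rw [← h.card_img_outer hC hA', ← himg, h.card_img_outer hC hA]
    rw [hq] at h7
    rw [← hZ₀] at h1
    have hI : Nat.card A * Nat.card ↥(fix σ A ⊓ fix σ A') ≤ Nat.card Z₀ := by
      refine Nat.le_of_mul_le_mul_right ?_ (Nat.card_pos (α := ↥(qFix σ T₁ H ⊓ fix σ A)))
      calc Nat.card A * Nat.card ↥(fix σ A ⊓ fix σ A') * Nat.card ↥(qFix σ T₁ H ⊓ fix σ A)
          = Nat.card (qFix σ T₁ H) * Nat.card ↥(fix σ A ⊓ fix σ A') := by rw [h3]; ring
        _ ≤ Nat.card Z₀ * Nat.card ↥(qFix σ T₁ H ⊓ fix σ A) := by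
          rw [← h1]; exact Nat.mul_le_mul_left _ h2
    refine Nat.le_of_mul_le_mul_right ?_ (Nat.card_pos (α := V))
    calc Nat.card V * Nat.card V
        ≤ Nat.card A * Nat.card (fix σ A) * (Nat.card A * Nat.card (fix σ A')) := Nat.mul_le_mul h6 h7
      _ = Nat.card A * Nat.card A *
          (Nat.card ↥(fix σ A ⊔ fix σ A') * Nat.card ↥(fix σ A ⊓ fix σ A')) := by rw [h4]; ring
      _ ≤ Nat.card A * Nat.card A * (Nat.card V * Nat.card ↥(fix σ A ⊓ fix σ A')) := by gcongr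
      _ = Nat.card A * (Nat.card A * Nat.card ↥(fix σ A ⊓ fix σ A')) * Nat.card V := by ring
      _ ≤ Nat.card A * Nat.card Z₀ * Nat.card V := by gcongr
  -- a conjugate of the translations on another line
  obtain ⟨g, hgw⟩ := QuotientGroup.mk_surjective D.weyl
  have hA₂ : IsOuter σ T₁ H (cj (g : P) A) := hA.map_cj g.2
  obtain ⟨x, hx, hxn⟩ : ∃ (x : H), (x : P) ∈ cj (g : P) A ∧
      (QuotientGroup.mk x : QG σ T₁ H) ∉ normalizer (img σ T₁ H A : Set (QG σ T₁ H)) := by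
    by_contra hcon
    push Not at hcon
    apply D.weyl_notMem
    have hle : img σ T₁ H A ⊔ cj D.weyl (img σ T₁ H A) ≤ normalizer (img σ T₁ H A : Set (QG σ T₁ H)) := by
      refine sup_le le_normalizer ?_
      rw [← hgw, ← img_cj g.2]
      rintro _ ⟨y, hy, rfl⟩
      exact hcon y (mem_subgroupOf.1 hy)
    exact hle (D.gen_weyl.ge D.weyl_mem)
  have hxL : (QuotientGroup.mk x : QG σ T₁ H) ∈ L := by
    have h1 : (QuotientGroup.mk x : QG σ T₁ H) ∈ cj D.weyl (img σ T₁ H A) := by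
      rw [← hgw, ← img_cj g.2]
      exact mk_mem_img hx
    exact (cj_mono D.le).trans (cj_le_of_mem D.weyl_mem) h1
  have hxW : ∀ v, σ (x : P) v - v ∈ qFix σ T₁ H := h.apply_sub_mem hC hA₂ hx
  set N' := cj (x : P) N
  have hN'Q : N' ≤ qCore T₁ H := (cj_mono hNQ).trans (cj_qCore x.2).le
  have hinf : N ⊓ N' = ⊥ := by
    rw [Subgroup.eq_bot_iff_forall]
    rintro n ⟨⟨a, ha, a', ha', hal, rfl⟩, hn'⟩
    obtain ⟨b, hb, b', hb', hbal, hb_eq⟩ := mem_cj.1 hn'
    refine h.inj (AddMonoidHom.ext fun v => ?_)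
    show σ (a' * a⁻¹) v = σ 1 v
    rw [apply_one]
    obtain ⟨-, w, hw, e, e'⟩ := hsub ha ha' hal v
    by_cases hane : a = 1
    · subst hane
      rw [← sub_eq_zero, e, e', apply_one, sub_self]
    -- the value lies in `fix A` and in `fix (x A)`
    have hd1 : σ (a' * a⁻¹) v - v ∈ fix σ A := by
      rw [e, e']
      exact fun c hc => hA.1.quad c hc a ha w
    have hd2 : σ (a' * a⁻¹) v - v ∈ fix σ (cj (x : P) A) := by
      obtain ⟨-, w2, -, e2, e2'⟩ := hsub hb hb' hbal (σ (x : P)⁻¹ v)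
      have : σ (x : P)⁻¹ (σ (a' * a⁻¹) v - v) = σ b w2 - w2 := by
        rw [← e2', ← e2, ← hb_eq, map_sub]
        simp only [apply_mul, apply_apply_inv]
      refine mem_fix_cj.2 ?_
      rw [this]
      exact fun c hc => hA.1.quad c hc b hb w2
    have hdW : σ (a' * a⁻¹) v - v ∈ qFix σ T₁ H := (hsub ha ha' hal v).1
    have hdL : (⟨_, hdW⟩ : qFix σ T₁ H) ∈ fix (qRep σ T₁ H) L := by
      rw [← D.gen hxL hxn, fix_sup]
      refine ⟨(mem_fix_img hAH).2 hd1, ?_⟩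
      rw [← img_cj x.2]
      exact (mem_fix_img ((cj_mono hAH).trans (cj_le_of_mem x.2))).2 hd2
    have hmk : (QuotientGroup.mk (⟨a, hAH ha⟩ : H) : QG σ T₁ H) ≠ 1 := fun e1 =>
      hane (htriv a ha (h.mem_ker_iff.1 ((QuotientGroup.eq_one_iff _).1 e1)))
    have h8 := D.moved (mk_mem_img (Y := A) (g := ⟨a, hAH ha⟩) ha) hmk (v := ⟨w, hw⟩) (by
      have : qRep σ T₁ H (QuotientGroup.mk (⟨a, hAH ha⟩ : H)) ⟨w, hw⟩ - ⟨w, hw⟩ = ⟨_, hdW⟩ :=
        Subtype.ext (show σ a w - w = σ (a' * a⁻¹) v - v by rw [e, e'])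
      rw [this]; exact hdL)
    rw [← sub_eq_zero, e, e', sub_eq_zero]
    exact (mem_fix_img hAH).1 h8 a ha
  have hbig : Nat.card A * Nat.card A ≤ Nat.card ↥(N ⊔ N') := by
    have h9 := CfsgLib.LocalEvenBasic.card_mul_le_inf_mul_sup N N'
    rw [hinf, card_bot, one_mul, card_cj] at h9
    exact (Nat.mul_le_mul hNcard hNcard).trans h9
  have hfix : Z₀ ≤ fix σ (N ⊔ N') := by
    rw [fix_sup]
    intro z hz
    refine ⟨fun n hn => hZN n hn z hz, mem_fix_cj.2 fun n hn => hZN n hn _ ?_⟩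
    have e : σ (x : P)⁻¹ z = z - σ (x : P)⁻¹ (σ (x : P) z - z) := by
      rw [map_sub, apply_inv_apply]; abel
    rw [e]
    exact sub_mem hz (AddSubgroup.mem_sup_left (apply_qFix (inv_mem x.2) (hxW z)))
  have h10 := h.wt_le hC ((sup_le hNQ hN'Q).trans qCore_le)
  rw [wt] at h10
  have h11 : Nat.card A * Nat.card A * Nat.card Z₀ ≤ Nat.card V :=
    le_trans (Nat.mul_le_mul hbig
      (Nat.card_le_card_of_injective _ (AddSubgroup.inclusion_injective hfix))) h10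
  have h12 : 2 ≤ Nat.card A := by
    obtain ⟨a, ha, ha1⟩ := A.bot_or_exists_ne_one.resolve_left hA.1.ne_bot
    exact A.one_lt_card_iff_ne_bot.2 hA.1.ne_bot
  have h13 : 0 < Nat.card V := Nat.card_pos
  nlinarith [Nat.mul_le_mul_left (Nat.card A) hZcard]

theorem outer_eq_of_alike {A : Subgroup P} (hA : IsOuter σ T₁ H A) {a b : P} (ha : a ∈ A) (hb : b ∈ A)
    (hal : Alike σ T₁ H a b) : a = b := by
  refine inv_mul_eq_one.1 ((h.outer_props hC hA).1 _ (mul_mem (inv_mem ha) hb) fun w hw => ?_)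
  rw [apply_mul, ← hal w hw, apply_inv_apply]

/-- Elements of `H` fixing the image centralise it. -/
theorem conj_eq_of_alike {A : Subgroup P} (hA : IsOuter σ T₁ H A) {x : H}
    (hx : ∀ y ∈ img σ T₁ H A, (QuotientGroup.mk x : QG σ T₁ H) * y * (QuotientGroup.mk x)⁻¹ = y)
    {a : P} (ha : a ∈ A) : (x : P) * a * (x : P)⁻¹ = a := by
  have himg : img σ T₁ H (cj (x : P) A) = img σ T₁ H A := by
    rw [img_cj x.2]
    ext y
    rw [mem_cj]
    constructor <;> intro hy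
    · have h1 := hx _ hy
      have e : (QuotientGroup.mk x : QG σ T₁ H)⁻¹ * y * QuotientGroup.mk x = y :=
        h1.symm.trans (by group)
      exact e ▸ hy
    · rw [show (QuotientGroup.mk x : QG σ T₁ H)⁻¹ * y * QuotientGroup.mk x = y by
        conv_lhs => rw [← hx y hy]
        group]
      exact hy
  have heq := h.outer_unique hC (hA.map_cj x.2) hA himg
  have hmem : (x : P) * a * (x : P)⁻¹ ∈ A := heq ▸ conj_mem_cj ha
  refine h.outer_eq_of_alike hC hA hmem ha ?_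
  have := hx _ (mk_mem_img (Y := A) (g := ⟨a, hA.le h.le_H ha⟩) ha)
  exact alike_of_mk (a := x * ⟨a, hA.le h.le_H ha⟩ * x⁻¹) (b := ⟨a, hA.le h.le_H ha⟩)
    (by rw [QuotientGroup.mk_mul, QuotientGroup.mk_mul, QuotientGroup.mk_inv]; exact this)

/-- A cell of `W` lifts to a cell of `V`. -/
theorem isCell_lift {A : Subgroup P} (hA : IsOuter σ T₁ H A) {L : Subgroup (QG σ T₁ H)}
    (hL : IsCell (qRep σ T₁ H) (img σ T₁ H A) L) :
    IsCell σ A (liftGrp σ T₁ H A L) ∧ liftGrp σ T₁ H A L ≤ H ∧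
      img σ T₁ H (liftGrp σ T₁ H A L) = L ∧
      (∀ v, ∀ l ∈ liftGrp σ T₁ H A L, σ l v - v ∈ qFix σ T₁ H) ∧
      qFix σ T₁ H ⊔ fix σ (liftGrp σ T₁ H A L) = ⊤ ∧
      ∀ l ∈ liftGrp σ T₁ H A L, (∀ w ∈ qFix σ T₁ H, σ l w = w) → l = 1 := by
  classical
  obtain ⟨D⟩ := hL
  have hAH := hA.le h.le_H
  obtain ⟨g, hgw⟩ := QuotientGroup.mk_surjective D.weyl
  have hA₂ : IsOuter σ T₁ H (cj (g : P) A) := hA.map_cj g.2
  set L' := A ⊔ cj (g : P) A with hL'
  have hL'H : L' ≤ H := sup_le hAH (hA₂.le h.le_H)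
  have himg : img σ T₁ H L' = L := by
    rw [hL', img_sup hAH (hA₂.le h.le_H), img_cj g.2, Subtype.coe_eta, hgw, D.gen_weyl]
  have hlift : liftGrp σ T₁ H A L = L' := by
    refine le_antisymm (iSup_le fun x => ?_) (sup_le ?_ ?_)
    · obtain ⟨y, hy, hyx⟩ := himg.ge x.2
      have hy' : cj (y : P) A ≤ L' :=
        (cj_mono le_sup_left).trans (cj_le_of_mem (mem_subgroupOf.1 hy))
      refine le_of_eq_of_le ?_ hy'
      refine h.outer_unique hC (hA.map_cj x.1.2) (hA.map_cj y.2) ?_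
      rw [img_cj x.1.2, img_cj y.2]
      exact congrArg (cj · _) hyx.symm
    · exact le_iSup_of_le ⟨1, one_mem _⟩ (cj_one A).ge
    · exact le_iSup_of_le ⟨g, hgw ▸ D.weyl_mem⟩ le_rfl
  rw [hlift]
  have hW : ∀ v, ∀ l ∈ L', σ l v - v ∈ qFix σ T₁ H := by
    intro v l hl
    let K : Subgroup P :=
      { carrier := {l | l ∈ H ∧ ∀ v, σ l v - v ∈ qFix σ T₁ H}
        one_mem' := ⟨one_mem H, fun v => by simp [apply_one]⟩
        mul_mem' := fun {a b} ha hb => ⟨mul_mem ha.1 hb.1, fun v => by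
          rw [apply_mul, ← sub_add_sub_cancel (σ a (σ b v)) (σ b v) v]
          exact add_mem (ha.2 _) (hb.2 v)⟩
        inv_mem' := fun {a} ha => ⟨inv_mem ha.1, fun v => by
          rw [show σ a⁻¹ v - v = -(σ a (σ a⁻¹ v) - σ a⁻¹ v) by rw [apply_apply_inv]; abel]
          exact neg_mem (ha.2 _)⟩ }
    exact ((sup_le (c := K) (fun a ha => ⟨hAH ha, h.apply_sub_mem hC hA ha⟩)
      (fun a ha => ⟨hA₂.le h.le_H ha, h.apply_sub_mem hC hA₂ ha⟩)) hl).2 v
  have hinfW : ∀ v : qFix σ T₁ H, v ∈ fix (qRep σ T₁ H) L ↔ (v : V) ∈ fix σ L' := fun v => by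
    rw [← himg, mem_fix_img hL'H]
  have hsplit : qFix σ T₁ H ⊔ fix σ L' = ⊤ := by
    refine AddSubgroup.eq_top_of_le_card _ ?_
    have h1 := card_sup_mul_inf (qFix σ T₁ H) (fix σ L')
    have h2 := card_sup_mul_inf (fix σ A) (fix σ (cj (g : P) A))
    rw [← fix_sup, ← hL', card_fix_cj] at h2
    have h3 : Nat.card ↥(fix σ A ⊔ fix σ (cj (g : P) A)) ≤ Nat.card V :=
      Nat.card_le_card_of_injective _ Subtype.val_injective
    have h4 := hA.1.le
    rw [wt] at h4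
    have h5 := D.card_eq_mul_fix
    rw [D.card_fix_root, h.card_img_outer hC hA, ← himg, card_fix_img hL'H] at h5
    refine Nat.le_of_mul_le_mul_right ?_ (Nat.card_pos (α := ↥(qFix σ T₁ H ⊓ fix σ L')))
    rw [h1, h5]
    refine Nat.le_of_mul_le_mul_right ?_ (Nat.card_pos (α := V))
    calc Nat.card V * Nat.card ↥(qFix σ T₁ H ⊓ fix σ L') * Nat.card V
        ≤ Nat.card A * Nat.card (fix σ A) * Nat.card ↥(qFix σ T₁ H ⊓ fix σ L') *
            (Nat.card A * Nat.card (fix σ A)) := by gcongr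
      _ = Nat.card A * Nat.card A * Nat.card ↥(qFix σ T₁ H ⊓ fix σ L') *
            (Nat.card ↥(fix σ A ⊔ fix σ (cj (g : P) A)) * Nat.card (fix σ L')) := by rw [h2]; ring
      _ ≤ Nat.card A * Nat.card A * Nat.card ↥(qFix σ T₁ H ⊓ fix σ L') *
            (Nat.card V * Nat.card (fix σ L')) := by gcongr
      _ = _ := by ring
  have htriv : ∀ l ∈ L', (∀ w ∈ qFix σ T₁ H, σ l w = w) → l = 1 := by
    intro l hl hw
    refine h.inj (AddMonoidHom.ext fun v => ?_)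
    obtain ⟨w, hwW, f, hf, rfl⟩ := AddSubgroup.mem_sup.1 (hsplit.ge (AddSubgroup.mem_top v))
    show σ l (w + f) = σ 1 (w + f)
    rw [apply_one, map_add, hw w hwW, hf l hl]
  refine ⟨?_, hL'H, himg, hW, hsplit, htriv⟩
  let e : L' →* L :=
    ((QuotientGroup.mk' (qAct σ T₁ H).ker).comp (inclusion hL'H)).codRestrict L fun l =>
      himg.le (mk_mem_img (Y := L') (g := ⟨l, hL'H l.2⟩) l.2)
  have he : Function.Bijective e := by
    refine ⟨(injective_iff_map_eq_one e).2 fun l hl => Subtype.ext (htriv l l.2 ?_), ?_⟩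
    · exact h.mem_ker_iff.1 ((QuotientGroup.eq_one_iff (⟨(l : P), hL'H l.2⟩ : H)).1
        (congrArg Subtype.val hl))
    · rintro ⟨y, hy⟩
      obtain ⟨x, hx, rfl⟩ := himg.ge hy
      exact ⟨⟨x, mem_subgroupOf.1 hx⟩, rfl⟩
  let E : L' ≃* L := MulEquiv.ofBijective e he
  have hex : ∀ v : V, ∃ w : qFix σ T₁ H, v - w ∈ fix σ L' := fun v => by
    obtain ⟨w, hw, f, hf, rfl⟩ := AddSubgroup.mem_sup.1 (hsplit.ge (AddSubgroup.mem_top v))
    exact ⟨⟨w, hw⟩, by simpa using hf⟩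
  choose wv hwv using hex
  have hwd : ∀ (v : V) (w : qFix σ T₁ H), v - w ∈ fix σ L' → D.ψ (wv v) = D.ψ w := fun v w hw => by
    rw [← sub_eq_zero, ← map_sub, D.ker, hinfW, AddSubgroup.coe_sub,
      show (wv v : V) - w = (v - w) - (v - wv v) by abel]
    exact sub_mem hw (hwv v)
  let ψ' : V →+ (Fin 2 → D.F) := AddMonoidHom.mk' (fun v => D.ψ (wv v)) fun v v' => by
    rw [← map_add]
    refine hwd _ _ ?_
    rw [AddSubgroup.coe_add, show v + v' - ((wv v : V) + wv v') = (v - wv v) + (v' - wv v') by abel]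
    exact add_mem (hwv v) (hwv v')
  have hLA : A ≤ L' := le_sup_left
  refine ⟨{
    F := D.F
    φ := E.trans D.φ
    ψ := ψ'
    le := hLA
    surj := fun x => (D.surj x).elim fun w hw => ⟨w, by
      show D.ψ (wv w) = x
      rw [hwd w w (by rw [sub_self]; exact zero_mem _), hw]⟩
    ker := fun v => ?_
    equiv := fun l v => ?_
    root := fun l => ?_
    fixB := fun v hv => ?_ }⟩
  · show D.ψ (wv v) = 0 ↔ _
    rw [D.ker, hinfW]
    refine ⟨fun hw => by simpa using add_mem (hwv v) hw, fun hv => ?_⟩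
    have := sub_mem hv (hwv v)
    simpa using this
  · show D.ψ (wv (σ l v)) = (D.φ (e l)).1.mulVec (D.ψ (wv v))
    rw [← D.equiv]
    refine hwd _ _ ?_
    show σ (l : P) v - σ (l : P) (wv v : V) ∈ fix σ L'
    rw [← map_sub]
    intro x hx
    rw [(hwv v) l l.2, (hwv v) x hx]
  · show (l : P) ∈ A ↔ ∃ t, D.φ (e l) = CfsgLib.Linear.upperUni t
    rw [← D.root]
    refine ⟨fun hl => mk_mem_img (Y := A) (g := ⟨l, hL'H l.2⟩) hl, ?_⟩
    rintro ⟨y, hy, hyl⟩
    have hyA : (y : P) ∈ A := mem_subgroupOf.1 hy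
    have : l = ⟨(y : P), hLA hyA⟩ := he.1 (Subtype.ext hyl.symm)
    rw [this]; exact hyA
  · have h1 : (wv v : qFix σ T₁ H) ∈ fix (qRep σ T₁ H) (img σ T₁ H A) := D.fixB _ hv
    have h2 := (mem_fix_img hAH).1 h1
    have h3 := fix_anti σ hLA (hwv v)
    simpa using add_mem h3 h2

end Loc

end CfsgLib.FFCells
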