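import Cfsg.Agent.FFCells.LocalSetup

/-!
The quotient configuration on `W`, weights in `T₁`, and the minimal offenders of `T₁` outside `Q`.
-/

set_option autoImplicit false
set_option linter.style.haveILetI false

namespace CfsgLib.FFCells

open Subgroup CfsgLib.SL2Recognition

variable {P V : Type*} [Group P] [AddCommGroup V] [Finite P] [Finite V] {σ : P →* AddMonoid.End V}
  {p : ℕ} [Fact p.Prime] {T : Sylow p P} {M T₁ H : Subgroup P}

/-- A minimal offender conjugate under `H` to one of `T₁` outside `Q`. -/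
def IsOuter (σ : P →* AddMonoid.End V) (T₁ H A : Subgroup P) : Prop :=
  IsMinOff σ A ∧ ∃ g ∈ H, cj g A ≤ T₁ ∧ ¬ cj g A ≤ qCore T₁ H

theorem cj_qCore {g : P} (hg : g ∈ H) : cj g (qCore T₁ H) = qCore T₁ H :=
  cj_eq_self.2 (le_normalizer_qCore hg)

theorem IsOuter.le (hTH : T₁ ≤ H) {A : Subgroup P} (hA : IsOuter σ T₁ H A) : A ≤ H := by
  obtain ⟨-, g, hg, hle, -⟩ := hA
  refine ((cj_le_iff.1 hle).trans (cj_mono hTH)).trans (cj_le_of_mem (inv_mem hg))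

theorem IsOuter.map_cj {A : Subgroup P} (hA : IsOuter σ T₁ H A) {g : P} (hg : g ∈ H) :
    IsOuter σ T₁ H (cj g A) := by
  obtain ⟨hm, k, hk, h1, h2⟩ := hA
  refine ⟨hm.map_cj g, k * g⁻¹, mul_mem hk (inv_mem hg), ?_, ?_⟩ <;>
    rwa [cj_cj, inv_mul_cancel_right]

namespace Loc

variable (h : Loc σ T M T₁ H)
include h

theorem exists_pmin_quotient :
    ∃ (S : Sylow p (QG σ T₁ H)) (N : Subgroup (QG σ T₁ H)),
      (S : Subgroup (QG σ T₁ H)) = img σ T₁ H T₁ ∧ PMin S N ∧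
      ∀ R : Subgroup (QG σ T₁ H), R.Normal → IsPGroup p R → R = ⊥ := by
  obtain ⟨S₀, hS₀⟩ := h.exists_sylow
  set Z : Subgroup H := (qAct σ T₁ H).ker
  set f := QuotientGroup.mk' Z
  have hf : Function.Surjective f := QuotientGroup.mk'_surjective Z
  refine ⟨S₀.mapSurjective hf, (M.subgroupOf H).map f, ?_, ⟨?_, ?_, ?_⟩, ?_⟩
  · rw [Sylow.coe_mapSurjective, hS₀]; rfl
  · rw [Sylow.coe_mapSurjective]
    exact map_mono fun x hx => mem_subgroupOf.2 (h.le_M (mem_subgroupOf.1 (hS₀.le hx)))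
  · intro e
    apply h.not_le
    intro x hx
    obtain ⟨y, hy, hyx⟩ := e.ge (mem_top (f ⟨x, hx⟩))
    have h1 : y⁻¹ * ⟨x, hx⟩ ∈ Z := QuotientGroup.eq.1 hyx
    have h2 := h.mem_M_of_trivial (h.mem_ker_iff.1 h1)
    simpa using mul_mem (mem_subgroupOf.1 hy) h2
  · intro X hX hne y hy
    obtain ⟨g, rfl⟩ := hf y
    refine mem_map_of_mem f (mem_subgroupOf.2 ?_)
    refine h.minimal ((X.comap f).map H.subtype)
      (fun x hx => ⟨⟨x, h.le_H hx⟩, hX ?_, rfl⟩) (map_subtype_le _) (fun e => hne ?_) ⟨g, hy, rfl⟩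
    · rw [Sylow.coe_mapSurjective]; exact mem_map_of_mem f (hS₀.ge (mem_subgroupOf.2 hx))
    · have e1 : X.comap f = ⊤ :=
        map_injective H.subtype_injective (by rw [e, ← MonoidHom.range_eq_map, range_subtype])
      rw [← map_comap_eq_self_of_surjective hf X, e1, ← MonoidHom.range_eq_map,
        MonoidHom.range_eq_top.2 hf]
  · intro R hR hRp
    haveI := hR
    have hle := normal_le_sylow (T := S₀.mapSurjective hf) R hRp
    rw [Sylow.coe_mapSurjective] at hle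
    haveI : (R.comap f).Normal := hR.comap f
    have hpm : PMin S₀ (M.subgroupOf H) :=
      ⟨fun x hx => mem_subgroupOf.2 (h.le_M (mem_subgroupOf.1 (hS₀.le hx))),
        fun e => h.not_le (subgroupOf_eq_top.1 e),
        fun X hX hne y hy => mem_subgroupOf.2 (h.minimal (X.map H.subtype)
          (fun x hx => ⟨⟨x, h.le_H hx⟩, hX (hS₀.ge (mem_subgroupOf.2 hx)), rfl⟩) (map_subtype_le _)
          (fun e => hne (map_injective H.subtype_injective
            (by rw [e, ← MonoidHom.range_eq_map, range_subtype]))) ⟨y, hy, rfl⟩)⟩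
    have hM' : R.comap f ≤ M.subgroupOf H := fun x hx => by
      obtain ⟨s, hs, hsx⟩ := hle hx
      have h2 := h.mem_M_of_trivial (h.mem_ker_iff.1 (QuotientGroup.eq.1 hsx))
      have h3 := mem_subgroupOf.1 (hS₀.le hs)
      exact mem_subgroupOf.2 (by simpa using mul_mem (h.le_M h3) h2)
    have hn := hpm.inf_normal_le _ hM'
    set N := ((S₀ : Subgroup H) ⊓ R.comap f).map H.subtype with hN
    have hNT : N ≤ T₁ := by
      rintro _ ⟨y, hy, rfl⟩
      exact mem_subgroupOf.1 (hS₀.le hy.1)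
    have hNn : H ≤ normalizer (N : Set P) := fun x hx => mem_normalizer_of_cj_le (by
      rintro _ ⟨_, ⟨y, hy, rfl⟩, rfl⟩
      exact ⟨_, hn.conj_mem y hy ⟨x, hx⟩, rfl⟩)
    rw [Subgroup.eq_bot_iff_forall]
    intro y hy
    obtain ⟨s, hs, rfl⟩ := hle hy
    refine (QuotientGroup.eq_one_iff s).2 (h.mem_ker_iff.2 ?_)
    exact h.trivial_of_mem_qCore (le_qCore hNT hNn ⟨s, ⟨hs, hy⟩, rfl⟩)

theorem isMinOff_img {A : Subgroup P} (hA : IsMinOff σ A) (hAT : A ≤ T₁) (hAQ : ¬ A ≤ qCore T₁ H) :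
    Cfsg.IsElementaryAbelian p (img σ T₁ H A) ∧ img σ T₁ H A ≠ ⊥ ∧
      Nat.card (qFix σ T₁ H) ≤ wt (qRep σ T₁ H) (img σ T₁ H A) := by
  have hel := hA.elementary h.inj h.exp
  refine ⟨⟨⟨⟨?_⟩⟩, ?_⟩, fun e => hAQ fun a ha => h.mem_qCore_of_trivial (hAT ha) ?_, ?_⟩
  · rintro ⟨_, a, ha, rfl⟩ ⟨_, b, hb, rfl⟩
    refine Subtype.ext ?_
    show (QuotientGroup.mk' _ a : QG σ T₁ H) * QuotientGroup.mk' _ b = _ * _
    rw [← map_mul, ← map_mul]
    congr 1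
    exact Subtype.ext (hA.commute h.inj (mem_subgroupOf.1 ha) (mem_subgroupOf.1 hb))
  · rintro _ ⟨a, ha, rfl⟩
    rw [← map_pow, show a ^ p = 1 from Subtype.ext (hel.2 _ (mem_subgroupOf.1 ha)), map_one]
  · have h1 : (QuotientGroup.mk (⟨a, h.le_H (hAT ha)⟩ : H) : QG σ T₁ H) = 1 :=
      mem_bot.1 (e.le (mk_mem_img (Y := A) (g := ⟨a, h.le_H (hAT ha)⟩) ha))
    exact h.mem_ker_iff.1 ((QuotientGroup.eq_one_iff _).1 h1)
  · have h1 := h.wt_mul_card_le hAT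
    have h2 : wt σ (A ⊓ qCore T₁ H) ≤ Nat.card V := by
      rcases eq_or_ne (A ⊓ qCore T₁ H) ⊥ with e | hne
      · rw [e, wt_bot]
      · exact (hA.strict _ inf_le_left hne fun e => hAQ (e ▸ inf_le_right)).le
    refine Nat.le_of_mul_le_mul_left ?_ (Nat.card_pos (α := V))
    calc Nat.card V * Nat.card (qFix σ T₁ H) ≤ wt σ A * Nat.card (qFix σ T₁ H) :=
          Nat.mul_le_mul_right _ hA.le
      _ ≤ _ := h1.trans (Nat.mul_le_mul_right _ h2)

/-- Some minimal offender of `T₁` lies outside `Q`. -/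
theorem exists_outer : ∃ A, IsMinOff σ A ∧ A ≤ T₁ ∧ ¬ A ≤ qCore T₁ H := by
  by_contra hno
  push Not at hno
  set R : Subgroup P := ⨆ A : {A : Subgroup P // IsMinOff σ A ∧ A ≤ T₁}, A.1 with hR
  have hRT : R ≤ T₁ := iSup_le fun A => A.2.2
  have hinv : ∀ g : P, (∀ A : Subgroup P, IsMinOff σ A → A ≤ T₁ → cj g A ≤ T₁) →
      g ∈ normalizer (R : Set P) := fun g hg => mem_normalizer_of_cj_le (by
    rw [hR, cj, Subgroup.map_iSup]
    exact iSup_le fun A => le_iSup_of_le ⟨cj g A.1, A.2.1.map_cj g, hg A.1 A.2.1 A.2.2⟩ le_rfl)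
  obtain ⟨t, ht, htn, htN⟩ := h.exists_outside
  have hH : H ≤ normalizer (R : Set P) := fun g hg => hinv g fun A hA hAT =>
    ((cj_mono (hno A hA hAT)).trans (cj_qCore hg).le).trans qCore_le
  have := h.eq_bot_of_outside hRT hH ht htn
    (hinv t fun A _ hAT => (cj_mono hAT).trans (cj_eq_self.2 htN).le)
  obtain ⟨A, hA, hAT⟩ := h.hasOff
  exact hA.ne_bot (le_bot_iff.1
    ((le_iSup (fun A : {A : Subgroup P // IsMinOff σ A ∧ A ≤ T₁} => A.1) ⟨A, hA, hAT⟩).trans this.le))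

/-- The configuration on `W`. -/
theorem exists_quotient_config (hIH : Goal p (QG σ T₁ H) (qFix σ T₁ H)) :
    ∃ 𝒞, Config (qRep σ T₁ H) p (img σ T₁ H T₁) 𝒞 := by
  obtain ⟨S, N, hS, hpm, hop⟩ := h.exists_pmin_quotient
  obtain ⟨A, hA, hAT, hAQ⟩ := h.exists_outer
  obtain ⟨hel, hne, hle⟩ := h.isMinOff_img hA hAT hAQ
  have hexp : ∀ w : qFix σ T₁ H, p • w = 0 := fun w => Subtype.ext (h.exp w.1)
  obtain ⟨B, -, hB⟩ := exists_minOff (σ := qRep σ T₁ H) (p := p) qRep_injective hexp hel hne hle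
  obtain ⟨-, 𝒞, hC⟩ := hIH _ qRep_injective hexp S N hpm hop ⟨B, hB⟩
  exact ⟨𝒞, hS ▸ hC⟩

variable {𝒞 : Set (Subgroup (QG σ T₁ H) × Subgroup (QG σ T₁ H))}
  (hC : Config (qRep σ T₁ H) p (img σ T₁ H T₁) 𝒞)
include hC

theorem wt_le_inf {Y : Subgroup P} (hY : Y ≤ T₁) : wt σ Y ≤ wt σ (Y ⊓ qCore T₁ H) := by
  have h1 := h.wt_mul_card_le hY
  have h2 := hC.pre.wt_le (img_mono hY)
  exact Nat.le_of_mul_le_mul_right (h1.trans (Nat.mul_le_mul_left _ h2)) Nat.card_pos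

/-- Every subgroup of `T₁` has weight at most `|V|`. -/
theorem wt_le {Y : Subgroup P} (hY : Y ≤ T₁) : wt σ Y ≤ Nat.card V := by
  classical
  by_contra hlt
  push Not at hlt
  obtain ⟨Y₁, hY₁, hmax⟩ := Set.exists_max_image {Y : Subgroup P | Y ≤ T₁} (fun Y => wt σ Y)
    (Set.toFinite _) ⟨Y, hY⟩
  obtain ⟨Z, ⟨hZ, hZw⟩, hmin⟩ := Set.exists_min_image
    {Y : Subgroup P | Y ≤ T₁ ∧ wt σ Y = wt σ Y₁} (fun Y => Nat.card Y) (Set.toFinite _) ⟨Y₁, hY₁, rfl⟩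
  have hbig : Nat.card V < wt σ Z := hZw ▸ lt_of_lt_of_le hlt (hmax Y hY)
  have huniq : ∀ Z' : Subgroup P, Z' ≤ T₁ → wt σ Z' = wt σ Y₁ → Z ≤ Z' := by
    intro Z' hZ' hw
    have h1 := wt_mul_le (σ := σ) Z Z'
    rw [hZw, hw] at h1
    have h2 : wt σ (Z ⊔ Z') ≤ wt σ Y₁ := hmax _ (sup_le hZ hZ')
    have h3 : wt σ (Z ⊓ Z') = wt σ Y₁ := le_antisymm (hmax (Z ⊓ Z') (inf_le_left.trans hZ))
      (Nat.le_of_mul_le_mul_left (h1.trans (Nat.mul_le_mul_right _ h2)) (wt_pos Y₁))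
    exact (eq_of_le_of_card_ge inf_le_left (hmin _ ⟨inf_le_left.trans hZ, h3⟩)).ge.trans inf_le_right
  have hZQ : Z ≤ qCore T₁ H :=
    (huniq _ (inf_le_left.trans hZ) (le_antisymm (hmax _ (inf_le_left.trans hZ))
      (hZw ▸ h.wt_le_inf hC hZ))).trans inf_le_right
  have hinv : ∀ g : P, cj g Z ≤ T₁ → g ∈ normalizer (Z : Set P) := fun g hg =>
    cj_eq_self.1 (eq_of_le_of_card_ge (huniq _ hg (by rw [wt_cj, hZw])) (card_cj g Z).le).symm
  obtain ⟨t, ht, htn, htN⟩ := h.exists_outside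
  have := h.eq_bot_of_outside hZ
    (fun g hg => hinv g (((cj_mono hZQ).trans (cj_qCore hg).le).trans qCore_le)) ht htn
    (hinv t ((cj_mono hZ).trans (cj_eq_self.2 htN).le))
  rw [this, wt_bot] at hbig
  exact lt_irrefl _ hbig

theorem wt_le_pgroup {Y : Subgroup P} (hY : IsPGroup p Y) (hYH : Y ≤ H) : wt σ Y ≤ Nat.card V := by
  obtain ⟨S, hS⟩ := h.exists_sylow
  obtain ⟨S', hS'⟩ := (hY.comap_subtype (K := H)).exists_le_sylow
  obtain ⟨g, hg⟩ := MulAction.exists_smul_eq H S' S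
  rw [← wt_cj (g : P) Y]
  refine h.wt_le hC ?_
  rintro _ ⟨y, hy, rfl⟩
  refine mem_subgroupOf.1 (hS.le (show g * ⟨y, hYH hy⟩ * g⁻¹ ∈ (S : Subgroup H) from ?_))
  rw [← hg, Sylow.coe_subgroup_smul]
  exact ⟨⟨y, hYH hy⟩, hS' hy, rfl⟩

/-- A minimal offender of `T₁` outside `Q` maps to a root and spans with `W`. -/
theorem outer_spec {A : Subgroup P} (hA : IsMinOff σ A) (hAT : A ≤ T₁) (hAQ : ¬ A ≤ qCore T₁ H) :
    A ⊓ qCore T₁ H = ⊥ ∧ qFix σ T₁ H ⊔ fix σ A = ⊤ ∧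
      ∃ c : 𝒞, img σ T₁ H A = c.1.1 := by
  obtain ⟨hel, hne, hle⟩ := h.isMinOff_img hA hAT hAQ
  have h1 := h.wt_mul_card_le hAT
  have hAH := hAT.trans h.le_H
  have hwA : wt σ A = Nat.card V := le_antisymm (h.wt_le hC hAT) hA.le
  have hwI := hC.pre.wt_le (img_mono hAT)
  have hinf : A ⊓ qCore T₁ H = ⊥ := by
    by_contra hne'
    have h2 := hA.strict _ inf_le_left hne' fun e => hAQ (e ▸ inf_le_right)
    rw [hwA] at h1
    exact absurd (h1.trans (Nat.mul_le_mul_left _ hwI))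
      (_root_.not_le.2 (Nat.mul_lt_mul_of_pos_right h2 Nat.card_pos))
  have hcardA : Nat.card (img σ T₁ H A) = Nat.card A := by
    have := h.card_img hAT
    rwa [hinf, card_bot, one_mul] at this
  rw [hinf, wt_bot, hwA] at h1
  have hweq : wt (qRep σ T₁ H) (img σ T₁ H A) = Nat.card (qFix σ T₁ H) :=
    le_antisymm hwI (Nat.le_of_mul_le_mul_left h1 Nat.card_pos)
  have hsplit : qFix σ T₁ H ⊔ fix σ A = ⊤ := by
    refine AddSubgroup.eq_top_of_card_eq _ ?_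
    have h2 := card_sup_mul_inf (qFix σ T₁ H) (fix σ A)
    rw [← card_fix_img (T₁ := T₁) hAH] at h2
    rw [wt, hcardA] at hweq
    rw [wt] at hwA
    refine Nat.eq_of_mul_eq_mul_right (Nat.card_pos (α := fix (qRep σ T₁ H) (img σ T₁ H A))) ?_
    rw [h2, ← hweq, ← hwA]; ring
  refine ⟨hinf, hsplit, hC.pre.eq_root ⟨hne, ?_, hle, ?_⟩ (img_mono hAT)⟩
  · rintro _ ⟨a, ha, rfl⟩ _ ⟨b, hb, rfl⟩ w
    exact Subtype.ext (hA.quad a (mem_subgroupOf.1 ha) b (mem_subgroupOf.1 hb) w.1)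
  · intro B hB hBne hBA
    set A₀ : Subgroup P := ((B.comap (QuotientGroup.mk' _)) ⊓ A.subgroupOf H).map H.subtype with hA₀
    have hA₀A : A₀ ≤ A := by
      rintro _ ⟨y, hy, rfl⟩
      exact mem_subgroupOf.1 hy.2
    have himg : img σ T₁ H A₀ = B := by
      ext x
      constructor
      · rintro ⟨y, hy, rfl⟩
        obtain ⟨z, hz, hzy⟩ := mem_subgroupOf.1 hy
        rw [← Subtype.ext hzy]; exact hz.1
      · intro hx
        obtain ⟨y, hy, rfl⟩ := hB hx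
        exact ⟨y, mem_subgroupOf.2 ⟨y, ⟨hx, hy⟩, rfl⟩, rfl⟩
    have hA₀ne : A₀ ≠ ⊥ := fun e => hBne (by
      rw [← himg, e, img, bot_subgroupOf, Subgroup.map_bot])
    have hA₀A' : A₀ ≠ A := fun e => hBA (by rw [← himg, e])
    have h3 := hA.strict A₀ hA₀A hA₀ne hA₀A'
    have hcard0 : Nat.card (img σ T₁ H A₀) = Nat.card A₀ := by
      have := h.card_img (hA₀A.trans hAT)
      rwa [le_bot_iff.1 ((inf_le_inf_right _ hA₀A).trans hinf.le), card_bot, one_mul] at this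
    have h4 := card_sup_mul_inf (qFix σ T₁ H) (fix σ A₀)
    rw [top_le_iff.1 (hsplit.ge.trans (sup_le_sup_left (fix_anti σ hA₀A) _)), AddSubgroup.card_top,
      ← card_fix_img (T₁ := T₁) (hA₀A.trans hAH)] at h4
    rw [wt] at h3
    rw [← himg, wt, hcard0]
    refine Nat.lt_of_mul_lt_mul_left (a := Nat.card V) ?_
    calc Nat.card V * (Nat.card A₀ * Nat.card (fix (qRep σ T₁ H) (img σ T₁ H A₀)))
        = Nat.card A₀ * Nat.card (fix σ A₀) * Nat.card (qFix σ T₁ H) := by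
          rw [mul_left_comm, h4]; ring
      _ < Nat.card V * Nat.card (qFix σ T₁ H) := Nat.mul_lt_mul_of_pos_right h3 Nat.card_pos

end Loc

end CfsgLib.FFCells
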