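import Cfsg.Agent.FFCells.Single

/-!
A largest `p`-group `T₁` with a local subgroup outside `M` seeing a minimal offender, a minimal `H` over it,
`Q` the largest subgroup of `T₁` normalised by `H`, and the action of `H` on `W = fix Q`.
-/

set_option autoImplicit false
set_option linter.style.haveILetI false

namespace CfsgLib.FFCells

open Subgroup CfsgLib.SL2Recognition

/-- The statement proved by induction. -/
def Goal (p : ℕ) [Fact p.Prime] (P V : Type*) [Group P] [AddCommGroup V] : Prop :=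
  ∀ (σ : P →* AddMonoid.End V), Function.Injective σ → (∀ v : V, p • v = 0) →
    ∀ (T : Sylow p P) (M : Subgroup P), PMin T M →
      (∀ N : Subgroup P, N.Normal → IsPGroup p N → N = ⊥) → (∃ A, IsMinOff σ A) →
        (∃ z ∈ fix σ (T : Subgroup P), z ∉ fix σ ⊤) ∧ ∃ 𝒞, Config σ p (T : Subgroup P) 𝒞

variable {P V : Type*} [Group P] [AddCommGroup V]

/-- The local situation. -/
structure Loc (σ : P →* AddMonoid.End V) {p : ℕ} (T : Sylow p P) (M T₁ H : Subgroup P) : Prop where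
  inj : Function.Injective σ
  exp : ∀ v : V, p • v = 0
  pmin : PMin T M
  op : ∀ N : Subgroup P, N.Normal → IsPGroup p N → N = ⊥
  vec : ∃ z ∈ fix σ (T : Subgroup P), z ∉ fix σ ⊤
  le_T : T₁ ≤ (T : Subgroup P)
  ne_T : T₁ ≠ (T : Subgroup P)
  hasOff : ∃ A, IsMinOff σ A ∧ A ≤ T₁
  le_H : T₁ ≤ H
  not_le : ¬ H ≤ M
  minimal : ∀ X : Subgroup P, T₁ ≤ X → X ≤ H → X ≠ H → X ≤ M
  core : ∃ R : Subgroup P, R ≠ ⊥ ∧ R ≤ T₁ ∧ H ≤ normalizer (R : Set P)
  maxl : ∀ R Y : Subgroup P, R ≠ ⊥ → IsPGroup p R → R ≤ M → ¬ normalizer (R : Set P) ≤ M →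
    IsPGroup p Y → Y ≤ M → Y ≤ normalizer (R : Set P) → (∃ A, IsMinOff σ A ∧ A ≤ Y) →
      Nat.card Y ≤ Nat.card T₁

theorem normalizer_iSup_le {ι : Sort*} [Finite P] (X : ι → Subgroup P) {g : P}
    (h : ∀ i, g ∈ normalizer (X i : Set P)) : g ∈ normalizer ((⨆ i, X i : Subgroup P) : Set P) :=
  mem_normalizer_of_cj_le (by
    rw [cj, Subgroup.map_iSup]
    exact iSup_mono fun i => (cj_eq_self.2 (h i)).le)

/-- `NoLocal` fails exactly when such a situation exists. -/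
theorem exists_loc [Finite P] [Finite V] {σ : P →* AddMonoid.End V} {p : ℕ} [Fact p.Prime]
    {T : Sylow p P} {M : Subgroup P} (hinj : Function.Injective σ) (hp0 : ∀ v : V, p • v = 0)
    (hM : PMin T M) (hOp : ∀ N : Subgroup P, N.Normal → IsPGroup p N → N = ⊥)
    (hz : ∃ z ∈ fix σ (T : Subgroup P), z ∉ fix σ ⊤) (hno : ¬ NoLocal σ p M) :
    ∃ T₁ H, Loc σ T M T₁ H := by
  classical
  let good : Set (Subgroup P × Subgroup P) :=
    {q | q.1 ≠ ⊥ ∧ IsPGroup p q.1 ∧ q.1 ≤ M ∧ ¬ normalizer (q.1 : Set P) ≤ M ∧ IsPGroup p q.2 ∧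
      q.2 ≤ M ∧ q.2 ≤ normalizer (q.1 : Set P) ∧ ∃ A, IsMinOff σ A ∧ A ≤ q.2}
  have hne : good.Nonempty := by
    rw [NoLocal] at hno
    push Not at hno
    obtain ⟨R, h1, h2, h3, h4, B, h5, h6, h7⟩ := hno
    exact ⟨(R, B), h1, h2, h3, h4, h5.isPGroup hinj hp0, h6, h7, B, h5, le_rfl⟩
  obtain ⟨⟨R, S₀⟩, ⟨h1, h2, h3, h4, h5, h6, h7, A, hA, hAS⟩, hmax⟩ :=
    Set.exists_max_image good (fun q => Nat.card q.2) (Set.toFinite _) hne
  set S := R ⊔ S₀ with hS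
  have hSp : IsPGroup p S := h2.to_sup_of_normal_left' h5 h7
  have hSM : S ≤ M := sup_le h3 h6
  have hSN : S ≤ normalizer (R : Set P) := sup_le le_normalizer h7
  have hmax' : ∀ R' Y : Subgroup P, R' ≠ ⊥ → IsPGroup p R' → R' ≤ M → ¬ normalizer (R' : Set P) ≤ M →
      IsPGroup p Y → Y ≤ M → Y ≤ normalizer (R' : Set P) → (∃ A, IsMinOff σ A ∧ A ≤ Y) →
        Nat.card Y ≤ Nat.card S :=
    fun R' Y a b c d e f g i =>
      (hmax (R', Y) ⟨a, b, c, d, e, f, g, i⟩).trans (card_le_of_le le_sup_right)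
  obtain ⟨m, hm, hmT⟩ := hM.exists_cj_le hSp hSM
  set T₁ := cj m S
  set R₁ := cj m R
  have hR₁ : R₁ ≠ ⊥ := fun e =>
    h1 ((map_eq_bot_iff_of_injective _ (MulAut.conj m).injective).1 e)
  have hR₁T : R₁ ≤ T₁ := cj_mono le_sup_left
  have hR₁M : R₁ ≤ M := (cj_mono h3).trans (cj_le_of_mem hm)
  have hR₁N : T₁ ≤ normalizer (R₁ : Set P) :=
    (cj_mono hSN).trans (le_normalizer_map _)
  have hR₁not : ¬ normalizer (R₁ : Set P) ≤ M := fun hle => h4 fun g hg => by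
    have h := hle (le_normalizer_map (H := R) (MulAut.conj m).toMonoidHom (conj_mem_cj hg))
    simpa [mul_assoc] using mul_mem (mul_mem (inv_mem hm) h) hm
  obtain ⟨H, ⟨hTH, hHN, hHM⟩, hmin⟩ := Set.exists_min_image
    {H : Subgroup P | T₁ ≤ H ∧ H ≤ normalizer (R₁ : Set P) ∧ ¬ H ≤ M} (fun H => Nat.card H)
    (Set.toFinite _) ⟨_, hR₁N, le_rfl, hR₁not⟩
  refine ⟨T₁, H, hinj, hp0, hM, hOp, hz, hmT, fun e => ?_,
    ⟨cj m A, hA.map_cj m, cj_mono (hAS.trans le_sup_right)⟩, hTH, hHM, fun X h8 h9 h10 => ?_,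
    ⟨R₁, hR₁, hR₁T, hHN⟩, fun R' Y a b c d e f g i => ?_⟩
  · exact hR₁ (hM.eq_bot_of_normalized hOp (h2.map _) (e ▸ hR₁N) hHN hHM)
  · by_contra hXM
    exact h10 (eq_of_le_of_card_ge h9 (hmin X ⟨h8, h9.trans hHN, hXM⟩))
  · rw [card_cj]; exact hmax' R' Y a b c d e f g i

variable [Finite P] [Finite V] {σ : P →* AddMonoid.End V} {p : ℕ} [Fact p.Prime] {T : Sylow p P}
  {M T₁ H : Subgroup P}

/-- The largest subgroup of `T₁` normalised by `H`. -/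
def qCore (T₁ H : Subgroup P) : Subgroup P :=
  ⨆ R : {R : Subgroup P // R ≤ T₁ ∧ H ≤ normalizer (R : Set P)}, R.1

/-- The fixed points of `Q`. -/
def qFix (σ : P →* AddMonoid.End V) (T₁ H : Subgroup P) : AddSubgroup V := fix σ (qCore T₁ H)

theorem qCore_le : qCore T₁ H ≤ T₁ := iSup_le fun R => R.2.1

theorem le_normalizer_qCore : H ≤ normalizer (qCore T₁ H : Set P) :=
  fun _ hg => normalizer_iSup_le _ fun R => R.2.2 hg

theorem le_qCore {R : Subgroup P} (h1 : R ≤ T₁) (h2 : H ≤ normalizer (R : Set P)) :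
    R ≤ qCore T₁ H :=
  le_iSup (fun R : {R : Subgroup P // R ≤ T₁ ∧ H ≤ normalizer (R : Set P)} => R.1) ⟨R, h1, h2⟩

theorem apply_qFix {g : P} (hg : g ∈ H) {w : V} (hw : w ∈ qFix σ T₁ H) :
    σ g w ∈ qFix σ T₁ H := by
  show σ g w ∈ fix σ (qCore T₁ H)
  rw [← cj_eq_self.2 (le_normalizer_qCore (T₁ := T₁) hg), mem_fix_cj, apply_inv_apply]
  exact hw

/-- The action of `H` on `W`. -/
def qAct (σ : P →* AddMonoid.End V) (T₁ H : Subgroup P) :
    H →* AddMonoid.End (qFix σ T₁ H) where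
  toFun g := AddMonoidHom.mk' (fun w => ⟨σ g w, apply_qFix g.2 w.2⟩) fun a b =>
    Subtype.ext (map_add (σ (g : P)) a.1 b.1)
  map_one' := AddMonoidHom.ext fun w => Subtype.ext (apply_one σ w.1)
  map_mul' g h := AddMonoidHom.ext fun w => Subtype.ext (apply_mul σ g h w.1)

theorem qAct_apply (g : H) (w : qFix σ T₁ H) : (qAct σ T₁ H g w : V) = σ g w := rfl

/-- The faithful quotient. -/
abbrev QG (σ : P →* AddMonoid.End V) (T₁ H : Subgroup P) : Type _ := H ⧸ (qAct σ T₁ H).ker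

/-- The action of the quotient. -/
def qRep (σ : P →* AddMonoid.End V) (T₁ H : Subgroup P) :
    QG σ T₁ H →* AddMonoid.End (qFix σ T₁ H) :=
  QuotientGroup.lift (qAct σ T₁ H).ker (qAct σ T₁ H) le_rfl

theorem qRep_injective : Function.Injective (qRep σ T₁ H) := by
  rw [injective_iff_map_eq_one]
  intro x
  induction x using QuotientGroup.induction_on with
  | _ g => exact fun hg => (QuotientGroup.eq_one_iff g).2 (MonoidHom.mem_ker.2 hg)

theorem qRep_mk (g : H) (w : qFix σ T₁ H) :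
    (qRep σ T₁ H (QuotientGroup.mk g) w : V) = σ g w := rfl

/-- The image of a subgroup in the quotient. -/
def img (σ : P →* AddMonoid.End V) (T₁ H Y : Subgroup P) : Subgroup (QG σ T₁ H) :=
  (Y.subgroupOf H).map (QuotientGroup.mk' _)

theorem mk_mem_img {Y : Subgroup P} {g : H} (hg : (g : P) ∈ Y) :
    (QuotientGroup.mk g : QG σ T₁ H) ∈ img σ T₁ H Y :=
  ⟨g, mem_subgroupOf.2 hg, rfl⟩

theorem img_mono {Y Z : Subgroup P} (h : Y ≤ Z) : img σ T₁ H Y ≤ img σ T₁ H Z :=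
  map_mono fun _ hx => mem_subgroupOf.2 (h (mem_subgroupOf.1 hx))

theorem img_cj {g : P} (hg : g ∈ H) {Y : Subgroup P} :
    img σ T₁ H (cj g Y) = cj (QuotientGroup.mk (⟨g, hg⟩ : H)) (img σ T₁ H Y) := by
  ext x
  induction x using QuotientGroup.induction_on with
  | _ y =>
    constructor
    · rintro ⟨z, hz, hzy⟩
      rw [← hzy]
      refine mem_cj.2 ⟨(⟨g, hg⟩ : H)⁻¹ * z * ⟨g, hg⟩, mem_subgroupOf.2 ?_, by simp⟩
      exact mem_cj.1 (mem_subgroupOf.1 hz)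
    · intro hx
      obtain ⟨z, hz, hzy⟩ := mem_cj.1 hx
      refine ⟨(⟨g, hg⟩ : H) * z * (⟨g, hg⟩ : H)⁻¹, mem_subgroupOf.2 (conj_mem_cj (mem_subgroupOf.1 hz)), ?_⟩
      rw [QuotientGroup.mk'_apply] at hzy ⊢
      rw [QuotientGroup.mk_mul, QuotientGroup.mk_mul, hzy, QuotientGroup.mk_inv]
      group

theorem img_sup {Y Z : Subgroup P} (hY : Y ≤ H) (hZ : Z ≤ H) :
    img σ T₁ H (Y ⊔ Z) = img σ T₁ H Y ⊔ img σ T₁ H Z := by
  rw [img, img, img, subgroupOf_sup hY hZ, Subgroup.map_sup]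

theorem mem_fix_img {Y : Subgroup P} (hY : Y ≤ H) {w : qFix σ T₁ H} :
    w ∈ fix (qRep σ T₁ H) (img σ T₁ H Y) ↔ (w : V) ∈ fix σ Y := by
  constructor
  · intro h y hy
    have := congrArg (fun z : qFix σ T₁ H => (z : V)) (h _ (mk_mem_img (g := ⟨y, hY hy⟩) hy))
    exact this
  · rintro h _ ⟨y, hy, rfl⟩
    exact Subtype.ext (h y (mem_subgroupOf.1 hy))

theorem card_fix_img {Y : Subgroup P} (hY : Y ≤ H) :
    Nat.card (fix (qRep σ T₁ H) (img σ T₁ H Y)) = Nat.card ↥(qFix σ T₁ H ⊓ fix σ Y) :=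
  Nat.card_congr
    { toFun := fun w => ⟨w.1.1, w.1.2, (mem_fix_img hY).1 w.2⟩
      invFun := fun v => ⟨⟨v.1, v.2.1⟩, (mem_fix_img hY).2 v.2.2⟩
      left_inv := fun _ => rfl
      right_inv := fun _ => rfl }

namespace Loc

variable (h : Loc σ T M T₁ H)
include h

theorem pgroup : IsPGroup p T₁ := T.isPGroup'.to_le h.le_T

theorem le_M : T₁ ≤ M := h.le_T.trans h.pmin.le

theorem q_pgroup : IsPGroup p (qCore T₁ H) := h.pgroup.to_le qCore_le

theorem q_ne_bot : qCore T₁ H ≠ ⊥ := by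
  obtain ⟨R, hR, h1, h2⟩ := h.core
  exact fun e => hR (le_bot_iff.1 ((le_qCore h1 h2).trans e.le))

theorem not_normalizer_le {R : Subgroup P} (hH : H ≤ normalizer (R : Set P)) :
    ¬ normalizer (R : Set P) ≤ M := fun hle => h.not_le (hH.trans hle)

/-- An element of `N_T(T₁) ∖ T₁`. -/
theorem exists_outside : ∃ t ∈ (T : Subgroup P), t ∉ T₁ ∧ t ∈ normalizer (T₁ : Set P) :=
  exists_mem_normalizer_notMem T.isPGroup' h.le_T h.ne_T

/-- Nothing nontrivial in `T₁` is normalised by `H` and by such an element. -/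
theorem eq_bot_of_outside {R : Subgroup P} (hR : R ≤ T₁) (hH : H ≤ normalizer (R : Set P)) {t : P}
    (ht : t ∈ (T : Subgroup P)) (htn : t ∉ T₁) (htR : t ∈ normalizer (R : Set P)) : R = ⊥ := by
  by_contra hne
  obtain ⟨A, hA, hAT⟩ := h.hasOff
  set Y := T₁ ⊔ zpowers t
  have hYT : Y ≤ (T : Subgroup P) := sup_le h.le_T (zpowers_le.2 ht)
  have hcard := h.maxl R Y hne (h.pgroup.to_le hR) (hR.trans h.le_M) (h.not_normalizer_le hH)
    (T.isPGroup'.to_le hYT) (hYT.trans h.pmin.le)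
    (sup_le (h.le_H.trans hH) (zpowers_le.2 htR)) ⟨A, hA, hAT.trans le_sup_left⟩
  have e : T₁ = Y := eq_of_le_of_card_ge le_sup_left hcard
  exact htn (e.symm.le (mem_sup_right (mem_zpowers t)))

/-- A `p`-subgroup containing `T₁` of a local subgroup outside `M` is `T₁`. -/
theorem eq_of_le_local {R Y : Subgroup P} (hR : R ≠ ⊥) (hRp : IsPGroup p R) (hRM : R ≤ M)
    (hN : ¬ normalizer (R : Set P) ≤ M) (hY : IsPGroup p Y) (hYR : Y ≤ normalizer (R : Set P))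
    (hTY : T₁ ≤ Y) : Y = T₁ := by
  obtain ⟨A, hA, hAT⟩ := h.hasOff
  have h0 : Y ⊓ M = T₁ := by
    have hle : T₁ ≤ Y ⊓ M := le_inf hTY h.le_M
    exact (eq_of_le_of_card_ge hle (h.maxl R (Y ⊓ M) hR hRp hRM hN (hY.to_le inf_le_left)
      inf_le_right (inf_le_left.trans hYR) ⟨A, hA, hAT.trans hle⟩)).symm
  by_contra hne
  obtain ⟨y, hy, hyn, hyN⟩ := exists_mem_normalizer_notMem hY hTY (Ne.symm hne)
  -- `N(T₁) ≤ M`
  refine hyn (h0.le ⟨hy, ?_⟩)
  by_contra hyM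
  obtain ⟨t, ht, htn, htN⟩ := h.exists_outside
  set Y' := T₁ ⊔ zpowers t
  have hY'T : Y' ≤ (T : Subgroup P) := sup_le h.le_T (zpowers_le.2 ht)
  have hcard := h.maxl T₁ Y' (fun e => hA.ne_bot (le_bot_iff.1 (hAT.trans e.le))) h.pgroup h.le_M
    (fun hle => hyM (hle hyN)) (T.isPGroup'.to_le hY'T) (hY'T.trans h.pmin.le)
    (sup_le le_normalizer (zpowers_le.2 htN)) ⟨A, hA, hAT.trans le_sup_left⟩
  have e : T₁ = Y' := eq_of_le_of_card_ge le_sup_left hcard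
  exact htn (e.symm.le (mem_sup_right (mem_zpowers t)))

/-- `T₁` as a Sylow subgroup of `H`. -/
theorem exists_sylow : ∃ S : Sylow p H, (S : Subgroup H) = T₁.subgroupOf H := by
  obtain ⟨R, hR, hRT, hH⟩ := h.core
  obtain ⟨S, hS⟩ := (h.pgroup.comap_subtype (K := H)).exists_le_sylow
  refine ⟨S, le_antisymm ?_ hS⟩
  have h1 : (S : Subgroup H).map H.subtype = T₁ :=
    h.eq_of_le_local hR (h.pgroup.to_le hRT) (hRT.trans h.le_M) (h.not_normalizer_le hH)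
      (S.isPGroup'.map _) ((map_subtype_le _).trans hH)
      (fun x hx => ⟨⟨x, h.le_H hx⟩, hS hx, rfl⟩)
  intro x hx
  exact mem_subgroupOf.2 (h1.le ⟨x, hx, rfl⟩)

/-- A `p`-subgroup normalised by `H` lies in `Q`. -/
theorem le_qCore_of_pgroup {R : Subgroup P} (hRH : R ≤ H) (hR : IsPGroup p R)
    (hH : H ≤ normalizer (R : Set P)) : R ≤ qCore T₁ H := by
  obtain ⟨S, hS⟩ := h.exists_sylow
  haveI : (R.subgroupOf H).Normal :=
    ⟨fun n hn g => mem_subgroupOf.2 ((mem_normalizer_iff.1 (hH g.2) _).1 (mem_subgroupOf.1 hn))⟩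
  have h1 : R.subgroupOf H ≤ (S : Subgroup H) :=
    normal_le_sylow _ (hR.comap_subtype)
  exact le_qCore (fun x hx => mem_subgroupOf.1 (hS.le (h1 (mem_subgroupOf.2 hx : ⟨x, hRH hx⟩ ∈ _)))) hH

theorem exists_vec : ∃ z ∈ qFix σ T₁ H, ∀ g, σ g z = z → g ∈ M := by
  obtain ⟨z, hz, hz0⟩ := h.vec
  exact ⟨z, fix_anti σ (qCore_le.trans h.le_T) hz, fun g hg => h.pmin.le_stabilizer hz hz0 hg⟩

/-- The kernel on `W` lies in `M`. -/
theorem mem_M_of_trivial {g : P} (hg : ∀ w ∈ qFix σ T₁ H, σ g w = w) : g ∈ M := by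
  obtain ⟨z, hz, hzM⟩ := h.exists_vec
  exact hzM g (hg z hz)

theorem mem_ker_iff {g : H} :
    g ∈ (qAct σ T₁ H).ker ↔ ∀ w ∈ qFix σ T₁ H, σ g w = w := by
  constructor
  · intro hg w hw
    exact congrArg Subtype.val (DFunLike.congr_fun (MonoidHom.mem_ker.1 hg) ⟨w, hw⟩)
  · exact fun hg => MonoidHom.mem_ker.2 (AddMonoidHom.ext fun w => Subtype.ext (hg w w.2))

/-- The kernel meets `T₁` in `Q`. -/
theorem mem_qCore_of_trivial {g : P} (hg : g ∈ T₁) (hw : ∀ w ∈ qFix σ T₁ H, σ g w = w) :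
    g ∈ qCore T₁ H := by
  obtain ⟨S, hS⟩ := h.exists_sylow
  set Z : Subgroup H := (qAct σ T₁ H).ker with hZ
  have hpm : PMin S (M.subgroupOf H) :=
    ⟨fun x hx => mem_subgroupOf.2 (h.le_M (mem_subgroupOf.1 (hS.le hx))),
      fun e => h.not_le (subgroupOf_eq_top.1 e),
      fun X hX hne y hy => mem_subgroupOf.2 (h.minimal (X.map H.subtype)
        (fun x hx => ⟨⟨x, h.le_H hx⟩, hX (hS.ge (mem_subgroupOf.2 hx)), rfl⟩) (map_subtype_le _)
        (fun e => hne (map_injective H.subtype_injective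
          (by rw [e, ← MonoidHom.range_eq_map, range_subtype]))) ⟨y, hy, rfl⟩)⟩
  have hn := hpm.inf_normal_le Z fun y hy =>
    mem_subgroupOf.2 (h.mem_M_of_trivial (h.mem_ker_iff.1 hy))
  set N := ((S : Subgroup H) ⊓ Z).map H.subtype with hN
  have hNT : N ≤ T₁ := by
    rintro _ ⟨y, hy, rfl⟩
    exact mem_subgroupOf.1 (hS.le hy.1)
  have hNn : H ≤ normalizer (N : Set P) := fun x hx => mem_normalizer_of_cj_le (by
    rintro _ ⟨_, ⟨y, hy, rfl⟩, rfl⟩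
    exact ⟨_, hn.conj_mem y hy ⟨x, hx⟩, rfl⟩)
  exact le_qCore hNT hNn ⟨⟨g, h.le_H hg⟩, ⟨hS.ge (mem_subgroupOf.2 hg), h.mem_ker_iff.2 hw⟩, rfl⟩

theorem trivial_of_mem_qCore {g : P} (hg : g ∈ qCore T₁ H) :
    ∀ w ∈ qFix σ T₁ H, σ g w = w := fun _ hw => hw g hg

theorem qCore_le_H : qCore T₁ H ≤ H := qCore_le.trans h.le_H

theorem card_img {Y : Subgroup P} (hY : Y ≤ T₁) :
    Nat.card ↥(Y ⊓ qCore T₁ H) * Nat.card (img σ T₁ H Y) = Nat.card Y := by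
  have hYH := hY.trans h.le_H
  set f := (QuotientGroup.mk' (qAct σ T₁ H).ker).comp (inclusion hYH) with hf
  have hr : f.range = img σ T₁ H Y := by
    ext x
    constructor
    · rintro ⟨y, rfl⟩; exact mk_mem_img (Y := Y) (g := ⟨y, hYH y.2⟩) y.2
    · rintro ⟨y, hy, rfl⟩; exact ⟨⟨y, mem_subgroupOf.1 hy⟩, rfl⟩
  have hk : f.ker = (Y ⊓ qCore T₁ H).subgroupOf Y := by
    ext y
    rw [MonoidHom.mem_ker, mem_subgroupOf, Subgroup.mem_inf, and_iff_right y.2]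
    show (QuotientGroup.mk (⟨(y : P), hYH y.2⟩ : H) : QG σ T₁ H) = 1 ↔ _
    rw [QuotientGroup.eq_one_iff, h.mem_ker_iff]
    exact ⟨fun hw => h.mem_qCore_of_trivial (hY y.2) hw, h.trivial_of_mem_qCore⟩
  rw [← f.ker.index_mul_card, Subgroup.index_ker, hr, hk,
    Nat.card_congr (subgroupOfEquivOfLe inf_le_left).toEquiv, mul_comm]

/-- The weight through `W`. -/
theorem wt_mul_card_le {Y : Subgroup P} (hY : Y ≤ T₁) :
    wt σ Y * Nat.card (qFix σ T₁ H) ≤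
      wt σ (Y ⊓ qCore T₁ H) * wt (qRep σ T₁ H) (img σ T₁ H Y) := by
  have h1 := card_sup_mul_inf (qFix σ T₁ H) (fix σ Y)
  have h2 : qFix σ T₁ H ⊔ fix σ Y ≤ fix σ (Y ⊓ qCore T₁ H) :=
    sup_le (fix_anti σ inf_le_right) (fix_anti σ inf_le_left)
  rw [wt, wt, wt, card_fix_img (hY.trans h.le_H), ← h.card_img hY]
  have h3 : Nat.card ↥(qFix σ T₁ H ⊔ fix σ Y) ≤ Nat.card (fix σ (Y ⊓ qCore T₁ H)) :=
    Nat.card_le_card_of_injective _ (AddSubgroup.inclusion_injective h2)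
  calc Nat.card ↥(Y ⊓ qCore T₁ H) * Nat.card (img σ T₁ H Y) * Nat.card (fix σ Y) *
        Nat.card (qFix σ T₁ H)
      = Nat.card ↥(Y ⊓ qCore T₁ H) * Nat.card (img σ T₁ H Y) *
        (Nat.card (qFix σ T₁ H) * Nat.card (fix σ Y)) := by ring
    _ = Nat.card ↥(Y ⊓ qCore T₁ H) * Nat.card (img σ T₁ H Y) *
        (Nat.card ↥(qFix σ T₁ H ⊔ fix σ Y) * Nat.card ↥(qFix σ T₁ H ⊓ fix σ Y)) := by rw [h1]
    _ ≤ Nat.card ↥(Y ⊓ qCore T₁ H) * Nat.card (img σ T₁ H Y) *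
        (Nat.card (fix σ (Y ⊓ qCore T₁ H)) * Nat.card ↥(qFix σ T₁ H ⊓ fix σ Y)) := by gcongr
    _ = _ := by ring

end Loc

end CfsgLib.FFCells
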