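import Cfsg.Agent.FFCells.Family

/-!
A `p`-group `S` permuting a family of cells with roots in `S` and acting faithfully on their groups: every
subgroup of `S` has weight at most `|V|`, and the minimal offenders in `S` are exactly the roots.
-/

set_option autoImplicit false
set_option linter.style.haveILetI false

namespace CfsgLib.FFCells

open Subgroup CfsgLib.SL2Recognition

variable {P V : Type*} [Group P] [AddCommGroup V] [Finite P] [Finite V]
  {σ : P →* AddMonoid.End V}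

theorem exists_le_index_le {p : ℕ} [Fact p.Prime] {Y H : Subgroup P} (hY : IsPGroup p Y) (hH : H ≤ Y)
    (hne : H ≠ Y) : ∃ Y₀ : Subgroup P, H ≤ Y₀ ∧ Y₀ ≤ Y ∧ Y₀ ≠ Y ∧ Nat.card Y ≤ p * Nat.card Y₀ := by
  obtain ⟨n, hn⟩ := IsPGroup.iff_card.1 hY
  obtain ⟨m, hm⟩ := IsPGroup.iff_card.1 (hY.to_le hH)
  have hp := (Fact.out : p.Prime)
  have hlt : m < n := by
    by_contra hle
    push Not at hle
    exact hne (eq_of_le_of_card_ge hH (by rw [hn, hm]; exact Nat.pow_le_pow_right hp.pos hle))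
  have hHY : Nat.card (H.subgroupOf Y) = p ^ m := by
    rw [Nat.card_congr (subgroupOfEquivOfLe hH).toEquiv, hm]
  obtain ⟨K, hK, hHK⟩ := Sylow.exists_subgroup_card_pow_prime_le p (n := m) (m := n - 1)
    (by rw [hn]; exact pow_dvd_pow p (Nat.sub_le n 1)) (H.subgroupOf Y) hHY (by omega)
  refine ⟨K.map Y.subtype, fun x hx => ⟨⟨x, hH hx⟩, hHK (mem_subgroupOf.2 hx), rfl⟩, map_subtype_le K,
    fun e => ?_, ?_⟩
  · have : Nat.card (K.map Y.subtype) = Nat.card Y := by rw [e]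
    rw [card_map_of_injective Y.subtype_injective, hK, hn] at this
    have := Nat.pow_right_injective hp.two_le this
    omega
  · rw [card_map_of_injective Y.subtype_injective, hK, hn, ← pow_succ']
    exact Nat.pow_le_pow_right hp.pos (by omega)

/-- The vectors of `fix J` fixed by `Y` modulo the fixed points of the cells. -/
def fixMod (σ : P →* AddMonoid.End V) (𝒞 : Set (Subgroup P × Subgroup P)) (Y : Subgroup P) :
    AddSubgroup V where
  carrier := {v | v ∈ fix σ (rootsJoin 𝒞) ∧ ∀ y ∈ Y, σ y v - v ∈ fix σ (grpsJoin 𝒞)}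
  zero_mem' := ⟨zero_mem _, fun y _ => by simp⟩
  add_mem' := fun {v w} hv hw => ⟨add_mem hv.1 hw.1, fun y hy => by
    rw [map_add, add_sub_add_comm]; exact add_mem (hv.2 y hy) (hw.2 y hy)⟩
  neg_mem' := fun {v} hv => ⟨neg_mem hv.1, fun y hy => by
    rw [map_neg, ← neg_sub']; exact neg_mem (hv.2 y hy)⟩

theorem mul_card_le_of_lt {p : ℕ} [Fact p.Prime] (hp0 : ∀ v : V, p • v = 0) {U W : AddSubgroup V}
    (hUW : U ≤ W) (hne : U ≠ W) : p * Nat.card U ≤ Nat.card W := by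
  have hpg : IsPGroup p (Multiplicative W) := fun x => ⟨1, by
    rw [pow_one]
    exact congrArg Multiplicative.ofAdd (Subtype.ext (hp0 (x.toAdd : W).1) : p • x.toAdd = 0)⟩
  obtain ⟨n, hn⟩ := IsPGroup.iff_card.1 hpg
  obtain ⟨d, hd⟩ := AddSubgroup.card_dvd_of_le hUW
  have hn' : Nat.card W = p ^ n := hn
  obtain ⟨i, -, hi⟩ := (Nat.dvd_prime_pow Fact.out).1 (hn' ▸ hd ▸ dvd_mul_left d _ : d ∣ p ^ n)
  rcases i with - | i
  · rw [pow_zero] at hi
    rw [hi, mul_one] at hd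
    exact absurd (AddSubgroup.eq_of_le_of_card_ge hUW hd.le) hne
  · rw [hd, mul_comm, hi]
    exact Nat.mul_le_mul_left _ (Nat.le_self_pow (Nat.succ_ne_zero i) p)

/-- A `p`-group of cells' normalising elements. -/
structure Pre (σ : P →* AddMonoid.End V) (p : ℕ) (S : Subgroup P)
    (𝒞 : Set (Subgroup P × Subgroup P)) : Prop where
  inj : Function.Injective σ
  exp : ∀ v : V, p • v = 0
  pgroup : IsPGroup p S
  fam : Fam σ 𝒞
  root_le : ∀ c ∈ 𝒞, c.1 ≤ S
  equiv : ∀ g ∈ S, ∀ c ∈ 𝒞, (cj g c.1, cj g c.2) ∈ 𝒞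
  cent : ∀ x ∈ S, (∀ c ∈ 𝒞, ∀ l ∈ c.2, x * l = l * x) → x = 1

namespace Pre

variable {p : ℕ} [Fact p.Prime] {S : Subgroup P} {𝒞 : Set (Subgroup P × Subgroup P)}
  (h : Pre σ p S 𝒞)
include h

theorem join_le : rootsJoin 𝒞 ≤ S := iSup_le fun c => h.root_le c.1 c.2

/-- The image of a member. -/
def img {g : P} (hg : g ∈ S) (c : 𝒞) : 𝒞 := ⟨(cj g c.1.1, cj g c.1.2), h.equiv g hg c.1 c.2⟩

theorem img_inj {g : P} (hg : g ∈ S) : Function.Injective (h.img hg) := fun c d e => by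
  have h1 : cj g c.1.1 = cj g d.1.1 := congrArg (fun c : 𝒞 => c.1.1) e
  refine h.fam.root_inj h.inj ?_
  rw [← cj_inv_cj g c.1.1, h1, cj_inv_cj]

theorem norm_of_root {g : P} (hg : g ∈ S) {c : 𝒞} (hc : cj g c.1.1 = c.1.1) :
    Norm g c.1.1 c.1.2 := by
  have e : h.img hg c = c := h.fam.root_inj h.inj hc
  exact ⟨hc, congrArg (fun c : 𝒞 => c.1.2) e⟩

theorem exists_pow {g : P} (hg : g ∈ S) : ∃ k : ℕ, g ^ p ^ k = 1 :=
  (h.pgroup ⟨g, hg⟩).imp fun _ hk => congrArg Subtype.val hk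

/-- An element of `S` centralising every root lies in `J`. -/
theorem mem_join_of_commute {g : P} (hg : g ∈ S)
    (hc : ∀ c ∈ 𝒞, ∀ b ∈ c.1, g * b = b * g) : g ∈ rootsJoin 𝒞 := by
  classical
  haveI : Fintype 𝒞 := Fintype.ofFinite _
  obtain ⟨k, hk⟩ := h.exists_pow hg
  have hN : ∀ c : 𝒞, Norm g c.1.1 c.1.2 := fun c => h.norm_of_root hg (cj_eq_self.2
    (mem_normalizer_of_cj_le (by
      rintro _ ⟨b, hb, rfl⟩
      show g * b * g⁻¹ ∈ _
      rw [hc c.1 c.2 b hb, mul_inv_cancel_right]; exact hb)))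
  have hex : ∀ c : 𝒞, ∃ t, ∀ x ∈ c.1.2, g * x * g⁻¹ =
      (h.fam.data c).u t * x * ((h.fam.data c).u t)⁻¹ := fun c => by
    obtain ⟨b, hb, -, hbx⟩ := (h.fam.data c).exists_eq_root (hN c) (hc c.1 c.2)
      ((h.fam.data c).line_of_commute h.exp (hN c) hk (hc c.1 c.2))
    obtain ⟨t, rfl⟩ := (h.fam.data c).exists_u hb
    exact ⟨t, hbx⟩
  choose t ht using hex
  obtain ⟨j, hj, -, hjc⟩ := h.fam.exists_element h.inj t
  have e : j⁻¹ * g = 1 := by
    refine h.cent _ (mul_mem (inv_mem (h.join_le hj)) hg) fun c hc l hl => ?_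
    have h1 : j⁻¹ * (g * l * g⁻¹) * j = l := by
      rw [ht ⟨c, hc⟩ l hl, ← hjc ⟨c, hc⟩ l hl]; group
    calc j⁻¹ * g * l = j⁻¹ * (g * l * g⁻¹) * j * (j⁻¹ * g) := by group
      _ = l * (j⁻¹ * g) := by rw [h1]
  rwa [← inv_mul_eq_one.1 e]

theorem apply_fix {g : P} (hg : g ∈ S) {v : V} (hv : v ∈ fix σ (rootsJoin 𝒞)) :
    σ g v ∈ fix σ (rootsJoin 𝒞) := by
  refine fix_iSup _ fun c => ?_
  have e : cj g (h.img (inv_mem hg) c).1.1 = c.1.1 := cj_cj_inv g _
  show σ g v ∈ fix σ c.1.1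
  rw [← e, mem_fix_cj, apply_inv_apply]
  exact fix_anti σ (h.fam.root_le_join _) hv

theorem apply_fix_grps {g : P} (hg : g ∈ S) {v : V} (hv : v ∈ fix σ (grpsJoin 𝒞)) :
    σ g v ∈ fix σ (grpsJoin 𝒞) := by
  refine fix_iSup _ fun c => ?_
  have e : cj g (h.img (inv_mem hg) c).1.2 = c.1.2 := cj_cj_inv g _
  show σ g v ∈ fix σ c.1.2
  rw [← e, mem_fix_cj, apply_inv_apply]
  exact fix_anti σ (le_iSup (fun c : 𝒞 => c.1.2) _) hv

theorem ψ_img_eq_zero {g : P} (hg : g ∈ S) (c : 𝒞) {v : V} :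
    (h.fam.data (h.img hg c)).ψ (σ g v) = 0 ↔ (h.fam.data c).ψ v = 0 := by
  rw [(h.fam.data c).ker, (h.fam.data (h.img hg c)).ker]
  show σ g v ∈ fix σ (cj g c.1.2) ↔ _
  rw [mem_fix_cj, apply_inv_apply]

/-- An element of `S` trivial on the lines lies in `J`. -/
theorem mem_join_of_line {g : P} (hg : g ∈ S)
    (hl : ∀ v ∈ fix σ (rootsJoin 𝒞), σ g v - v ∈ fix σ (grpsJoin 𝒞)) : g ∈ rootsJoin 𝒞 := by
  classical
  haveI : Fintype 𝒞 := Fintype.ofFinite _
  obtain ⟨k, hk⟩ := h.exists_pow hg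
  refine h.mem_join_of_commute hg fun c hc => ?_
  set C : 𝒞 := ⟨c, hc⟩
  obtain ⟨v, hv, hvc⟩ := h.fam.exists_line (Function.update (fun _ => 0) C 1)
  have he : h.img hg C = C := by
    by_contra hne
    have h1 : (h.fam.data (h.img hg C)).ψ v = 0 := by
      rw [hvc, Function.update_of_ne hne]; ext i; fin_cases i <;> rfl
    have h2 : (h.fam.data (h.img hg C)).ψ (σ g v) = 0 := by
      rw [← sub_add_cancel (σ g v) v, map_add, h1, add_zero]
      exact h.fam.mem_fix_grps.1 (hl v hv) _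
    have h3 := congrFun ((h.ψ_img_eq_zero hg C).1 h2) 0
    rw [hvc, Function.update_self] at h3
    exact one_ne_zero h3
  have hN : Norm g c.1 c.2 :=
    h.norm_of_root (c := C) hg (congrArg (fun c : 𝒞 => c.1.1) he)
  refine (h.fam.data C).commute_root_of_line h.exp hN hk fun w hw => ?_
  obtain ⟨v', hv', hv'c⟩ :=
    h.fam.exists_line (Function.update (fun _ => 0) C ((h.fam.data C).ψ w 0))
  have hd : w - v' ∈ fix σ c.2 := by
    refine ((h.fam.data C).ker _).1 ?_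
    rw [map_sub, hv'c, Function.update_self, sub_eq_zero]
    ext i; fin_cases i
    · rfl
    · exact (h.fam.data C).mem_fix_iff.1 hw
  have e : σ g w - w = (σ g (w - v') - (w - v')) + (σ g v' - v') := by rw [map_sub]; abel
  rw [e]
  exact add_mem (sub_mem (CellData.apply_mem_fix_grp hN hd) hd)
    (fix_anti σ (le_iSup (fun c : 𝒞 => c.1.2) C) (hl v' hv'))

/-- The moved member: a maximal subgroup with more fixed vectors. -/
theorem exists_moved {Y : Subgroup P} (hJY : rootsJoin 𝒞 ≤ Y) (hYS : Y ≤ S) {c : 𝒞} {y₀ : P}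
    (hy₀ : y₀ ∈ Y) (hmove : cj y₀ c.1.1 ≠ c.1.1) :
    ∃ Y₀ : Subgroup P, rootsJoin 𝒞 ≤ Y₀ ∧ Y₀ ≤ Y ∧ Y₀ ≠ Y ∧ Nat.card Y ≤ p * Nat.card Y₀ ∧
      ∃ v ∈ fixMod σ 𝒞 Y₀, v ∉ fixMod σ 𝒞 Y := by
  classical
  haveI : Fintype 𝒞 := Fintype.ofFinite _
  set H : Subgroup P := Y ⊓ normalizer (c.1.1 : Set P) with hH
  have hJH : rootsJoin 𝒞 ≤ H := le_inf hJY (iSup_le fun d b hb => by
    rcases eq_or_ne d c with rfl | hdc
    · exact le_normalizer hb
    · refine mem_normalizer_of_cj_le ?_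
      rintro _ ⟨a, ha, rfl⟩
      show b * a * b⁻¹ ∈ _
      rw [((h.fam.root_orth hdc).commute h.inj hb ha).eq, mul_inv_cancel_right]; exact ha)
  have hHY : H ≠ Y := fun e => hmove (cj_eq_self.2 (e.ge hy₀).2)
  obtain ⟨Y₀, hHY₀, hY₀Y, hne, hcard⟩ := exists_le_index_le (h.pgroup.to_le hYS) inf_le_left hHY
  refine ⟨Y₀, hJH.trans hHY₀, hY₀Y, hne, hcard, ?_⟩
  set D := h.fam.data c
  have hN : ∀ x ∈ H, Norm x c.1.1 c.1.2 := fun x hx => h.norm_of_root (hYS hx.1) (cj_eq_self.2 hx.2)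
  -- the action of the stabiliser on the line
  have hlineex := fun r : D.F => h.fam.exists_line (Function.update (fun _ => 0) c r)
  choose e hef hec using hlineex
  have hec' : ∀ r, D.ψ (e r) = ![r, 0] := fun r => by rw [hec, Function.update_self]
  have he0 : ∀ r, ∀ d, d ≠ c → (h.fam.data d).ψ (e r) = 0 := fun r d hd => by
    rw [hec, Function.update_of_ne hd]; ext i; fin_cases i <;> rfl
  let act : H → D.F → D.F := fun x r => D.ψ (σ x (e r)) 0
  have hact : ∀ (x : H) v, D.ψ v 1 = 0 → D.ψ (σ x v) = ![act x (D.ψ v 0), 0] := fun x v hv => by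
    have h1 : D.ψ v = D.ψ (e (D.ψ v 0)) := by rw [hec']; ext i; fin_cases i <;> simp [hv]
    rw [D.ψ_congr (hN x x.2) h1]
    ext i; fin_cases i
    · rfl
    · exact D.mem_fix_iff.1 (CellData.apply_mem_fix_root (hN x x.2) (D.mem_fix_iff.2 (by rw [hec']; rfl)))
  letI : MulAction H D.F :=
    { smul := act
      one_smul := fun r => by
        show D.ψ (σ ((1 : H) : P) (e r)) 0 = r
        rw [show ((1 : H) : P) = 1 from rfl, apply_one, hec']; rfl
      mul_smul := fun x y r => by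
        show D.ψ (σ ((x * y : H) : P) (e r)) 0 = act x (act y r)
        rw [show ((x * y : H) : P) = (x : P) * y from rfl, apply_mul, hact x _ ?_]
        · rw [hact y _ (by rw [hec']; rfl), hec']; rfl
        · rw [hact y _ (by rw [hec']; rfl)]; rfl }
  have h0 : (0 : D.F) ∈ MulAction.fixedPoints H D.F := fun x => by
    show D.ψ (σ (x : P) (e 0)) 0 = 0
    have := D.ψ_congr (hN x x.2) (v := e 0) (w := 0) (by rw [hec', map_zero]; ext i; fin_cases i <;> rfl)
    rw [this]; simp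
  have hdvd : p ∣ Nat.card D.F := by
    haveI := D.charP h.exp
    rw [Nat.card_eq_fintype_card]
    exact CfsgLib.Linear.prime_dvd_card p
  obtain ⟨r, hr, hr0⟩ :=
    (h.pgroup.to_le (inf_le_left.trans hYS)).exists_fixed_point_of_prime_dvd_card_of_fixed_point D.F hdvd h0
  set v₀ := e r with hv₀def
  have hHv : ∀ x ∈ H, σ x v₀ - v₀ ∈ fix σ (grpsJoin 𝒞) := by
    intro x hx
    refine h.fam.mem_fix_grps.2 fun d => ?_
    rw [map_sub, sub_eq_zero]
    rcases eq_or_ne d c with rfl | hdc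
    · rw [hact ⟨x, hx⟩ _ (by rw [hec']; rfl), hec']
      show ![act ⟨x, hx⟩ r, 0] = _
      rw [show act ⟨x, hx⟩ r = r from hr ⟨x, hx⟩]
    · rw [he0 r d hdc]
      have hd' : h.img (inv_mem (hYS hx.1)) d ≠ c := fun e' => hdc (by
        refine h.fam.root_inj h.inj ?_
        have e2 : cj x⁻¹ d.1.1 = c.1.1 := congrArg (fun c : 𝒞 => c.1.1) e'
        rw [← cj_cj_inv x d.1.1, e2, cj_eq_self.2 hx.2])
      have h2 := (h.ψ_img_eq_zero (hYS hx.1) (h.img (inv_mem (hYS hx.1)) d)).2 (he0 r _ hd')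
      rwa [show h.img (hYS hx.1) (h.img (inv_mem (hYS hx.1)) d) = d from
        Subtype.ext (Prod.ext (cj_cj_inv x _) (cj_cj_inv x _))] at h2
  haveI : Fintype (Y₀ ⧸ H.subgroupOf Y₀) := Fintype.ofFinite _
  let term : Y₀ ⧸ H.subgroupOf Y₀ → V := fun q => σ (q.out : P) v₀
  have hterm : ∀ g : Y₀, ∀ q, σ g (term q) - term (g • q) ∈ fix σ (grpsJoin 𝒞) := by
    intro g q
    have hmem : ((g • q).out : Y₀)⁻¹ * (g * q.out) ∈ H.subgroupOf Y₀ := by
      rw [← QuotientGroup.eq, QuotientGroup.out_eq']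
      conv_lhs => rw [← QuotientGroup.out_eq' q]
      rfl
    have h1 := hHv _ (mem_subgroupOf.1 hmem)
    have h2 := h.apply_fix_grps (hYS (hY₀Y (g • q).out.2)) h1
    rw [map_sub, ← apply_mul] at h2
    simp only [Subgroup.coe_mul, InvMemClass.coe_inv, mul_inv_cancel_left] at h2
    rw [apply_mul] at h2
    exact h2
  refine ⟨∑ q, term q, ⟨sum_mem fun q _ => h.apply_fix (hYS (hY₀Y q.out.2)) (hef r), fun g hg => ?_⟩, ?_⟩
  · rw [map_sum]
    have hb : ∑ q, term q = ∑ q, term ((⟨g, hg⟩ : Y₀) • q) :=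
      ((MulAction.bijective (⟨g, hg⟩ : Y₀)).sum_comp term).symm
    rw [hb, ← Finset.sum_sub_distrib]
    exact sum_mem fun q _ => hterm ⟨g, hg⟩ q
  intro hbad
  obtain ⟨y, hy, hyY₀⟩ := SetLike.exists_of_lt (lt_of_le_of_ne hY₀Y hne)
  set d := h.img (hYS hy) c
  have hd0 : ∀ q, (h.fam.data d).ψ (term q) = 0 := by
    intro q
    by_contra hne0
    apply hyY₀
    have hq : (q.out : P) ∈ S := hYS (hY₀Y q.out.2)
    have hback : h.img hq (h.img (inv_mem hq) d) = d :=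
      Subtype.ext (Prod.ext (cj_cj_inv _ _) (cj_cj_inv _ _))
    have h1 : h.img (inv_mem hq) d = c := by
      by_contra hne1
      have h2 := (h.ψ_img_eq_zero hq (h.img (inv_mem hq) d)).2 (he0 r _ hne1)
      rw [hback] at h2
      exact hne0 h2
    have h2 : cj ((q.out : P)⁻¹ * y) c.1.1 = c.1.1 := by
      rw [← cj_cj]; exact congrArg (fun c : 𝒞 => c.1.1) h1
    have h3 : (q.out : P)⁻¹ * y ∈ H :=
      Subgroup.mem_inf.2 ⟨mul_mem (inv_mem (hY₀Y q.out.2)) hy, cj_eq_self.1 h2⟩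
    simpa using mul_mem q.out.2 (hHY₀ h3)
  have h1 : (h.fam.data d).ψ (σ y (∑ q, term q)) = 0 := by
    have := h.fam.mem_fix_grps.1 (hbad.2 y hy) d
    rw [map_sub, map_sum (h.fam.data d).ψ term, Finset.sum_eq_zero fun q _ => hd0 q, sub_zero] at this
    exact this
  have h2 : D.ψ (∑ q, term q) = 0 := (h.ψ_img_eq_zero (hYS hy) c).1 h1
  rw [map_sum, Finset.sum_eq_single ((1 : Y₀) : Y₀ ⧸ H.subgroupOf Y₀)] at h2
  · have hout : ((((1 : Y₀) : Y₀ ⧸ H.subgroupOf Y₀).out : Y₀) : P) ∈ H := by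
      have : (((1 : Y₀) : Y₀ ⧸ H.subgroupOf Y₀).out : Y₀)⁻¹ * 1 ∈ H.subgroupOf Y₀ := by
        rw [← QuotientGroup.eq, QuotientGroup.out_eq']
      rw [mul_one] at this
      simpa using inv_mem (mem_subgroupOf.1 this)
    have h3 := h.fam.mem_fix_grps.1 (hHv _ hout) c
    rw [map_sub] at h3
    change D.ψ (term _) - D.ψ v₀ = 0 at h3
    rw [h2, zero_sub, neg_eq_zero, hec'] at h3
    exact hr0 (by simpa using (congrFun h3 0).symm)
  · intro q _ hq
    by_contra hne0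
    apply hq
    have hqS : (q.out : P) ∈ S := hYS (hY₀Y q.out.2)
    have hback : h.img hqS (h.img (inv_mem hqS) c) = c :=
      Subtype.ext (Prod.ext (cj_cj_inv _ _) (cj_cj_inv _ _))
    have h1 : h.img (inv_mem hqS) c = c := by
      by_contra hne1
      have h2 := (h.ψ_img_eq_zero hqS (h.img (inv_mem hqS) c)).2 (he0 r _ hne1)
      rw [hback] at h2
      exact hne0 h2
    have h2 : cj (q.out : P)⁻¹ c.1.1 = c.1.1 := congrArg (fun c : 𝒞 => c.1.1) h1
    have h3 : (q.out : P)⁻¹ ∈ H := Subgroup.mem_inf.2 ⟨inv_mem (hY₀Y q.out.2), cj_eq_self.1 h2⟩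
    rw [← QuotientGroup.out_eq' q, QuotientGroup.eq]
    exact mem_subgroupOf.2 (by simpa using h3)
  · exact fun hn => absurd (Finset.mem_univ _) hn

/-- All members normalised, one line moved: a maximal subgroup with more fixed vectors. -/
theorem exists_unmoved {Y : Subgroup P} (hJY : rootsJoin 𝒞 ≤ Y) (hYS : Y ≤ S) (hne : rootsJoin 𝒞 ≠ Y)
    (hfixed : ∀ y ∈ Y, ∀ c : 𝒞, cj y c.1.1 = c.1.1) :
    ∃ Y₀ : Subgroup P, rootsJoin 𝒞 ≤ Y₀ ∧ Y₀ ≤ Y ∧ Y₀ ≠ Y ∧ Nat.card Y ≤ p * Nat.card Y₀ ∧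
      ∃ v ∈ fixMod σ 𝒞 Y₀, v ∉ fixMod σ 𝒞 Y := by
  classical
  haveI : Fintype 𝒞 := Fintype.ofFinite _
  have hN : ∀ y ∈ Y, ∀ c : 𝒞, Norm y c.1.1 c.1.2 := fun y hy c => h.norm_of_root (hYS hy) (hfixed y hy c)
  obtain ⟨y₀, hy₀, c, v₁, hv₁, hmv⟩ : ∃ y ∈ Y, ∃ c : 𝒞, ∃ v ∈ fix σ (rootsJoin 𝒞),
      (h.fam.data c).ψ (σ y v - v) ≠ 0 := by
    by_contra hcon
    push Not at hcon
    exact hne (le_antisymm hJY fun y hy =>
      h.mem_join_of_line (hYS hy) fun v hv => h.fam.mem_fix_grps.2 fun c => hcon y hy c v hv)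
  set D := h.fam.data c
  haveI := D.charP h.exp
  have hlineex := fun r : D.F => h.fam.exists_line (Function.update (fun _ => 0) c r)
  choose e hef hec using hlineex
  have hec' : ∀ r, D.ψ (e r) = ![r, 0] := fun r => by rw [hec, Function.update_self]
  let α : Y → D.F → D.F := fun y r => D.ψ (σ y (e r)) 0
  have hα : ∀ (y : Y) v, D.ψ v 1 = 0 → D.ψ (σ y v) = ![α y (D.ψ v 0), 0] := fun y v hv => by
    have h1 : D.ψ v = D.ψ (e (D.ψ v 0)) := by rw [hec']; ext i; fin_cases i <;> simp [hv]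
    rw [D.ψ_congr (hN y y.2 c) h1]
    ext i; fin_cases i
    · rfl
    · exact D.mem_fix_iff.1 (CellData.apply_mem_fix_root (hN y y.2 c) (D.mem_fix_iff.2 (by rw [hec']; rfl)))
  have hαmul : ∀ (x y : Y) r, α (x * y) r = α x (α y r) := fun x y r => by
    show D.ψ (σ ((x * y : Y) : P) (e r)) 0 = _
    rw [show ((x * y : Y) : P) = (x : P) * y from rfl, apply_mul, hα x _ ?_]
    · rw [hα y _ (by rw [hec']; rfl), hec']; rfl
    · rw [hα y _ (by rw [hec']; rfl)]; rfl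
  have hαone : ∀ r, α 1 r = r := fun r => by
    show D.ψ (σ ((1 : Y) : P) (e r)) 0 = r
    rw [show ((1 : Y) : P) = 1 from rfl, apply_one, hec']; rfl
  have hαadd : ∀ (y : Y) r s, α y (r + s) = α y r + α y s := fun y r s => by
    show D.ψ (σ (y : P) (e (r + s))) 0 = D.ψ (σ (y : P) (e r)) 0 + D.ψ (σ (y : P) (e s)) 0
    rw [← Pi.add_apply, ← map_add, ← map_add]
    exact congrFun (D.ψ_congr (hN y y.2 c) (by rw [map_add, hec', hec', hec']; simp)) 0
  have hαsemi : ∀ (y : Y) r s, α y (r * s) * α y 1 = α y r * α y s := fun y r s => by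
    obtain ⟨α', h', β, hα', -, -, hrel⟩ := D.exists_semilinear (hN y y.2 c)
    have hEq : ∀ r, α y r = α' r := fun r => by
      have h1 := hα' (e r) (by rw [hec']; rfl)
      rw [hec'] at h1
      exact congrFun h1 0
    simp only [hEq]
    have a := hrel r s
    have b := hrel r 1
    have d := hrel 1 s
    have f := hrel 1 1
    simp only [one_mul, mul_one] at b d f
    rw [a, b, d, f]; ring
  have hαinj : ∀ (y : Y) r s, α y r = α y s → r = s := fun y r s e1 => by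
    have := congrArg (α y⁻¹) e1
    rwa [← hαmul, ← hαmul, inv_mul_cancel, hαone, hαone] at this
  have hαz : ∀ y : Y, α y 0 = 0 := fun y => by
    have := hαadd y 0 0
    rw [add_zero] at this
    simpa using this
  have hα1 : ∀ y : Y, α y 1 ≠ 0 := fun y e1 =>
    one_ne_zero (hαinj y 1 0 (e1.trans (hαz y).symm))
  -- a nonzero vector of the line fixed by `Y`
  letI : MulAction Y D.F := { smul := α, one_smul := hαone, mul_smul := hαmul }
  have hdvd : p ∣ Nat.card D.F := by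
    rw [Nat.card_eq_fintype_card]
    exact CfsgLib.Linear.prime_dvd_card p
  obtain ⟨e₀, he₀, he₀ne⟩ := (h.pgroup.to_le hYS).exists_fixed_point_of_prime_dvd_card_of_fixed_point D.F
    hdvd (a := (0 : D.F)) fun y => hαz y
  have he₀' : ∀ y : Y, α y e₀ = e₀ := he₀
  -- the field automorphisms
  let θ : Y → (D.F ≃+* D.F) := fun y => RingEquiv.mk
    (Equiv.ofBijective (fun r => α y r / α y 1) (Finite.injective_iff_bijective.1 fun r s e1 =>
      hαinj y r s (by field_simp [hα1 y] at e1; exact e1)))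
    (fun r s => by
      show α y (r * s) / α y 1 = α y r / α y 1 * (α y s / α y 1)
      field_simp [hα1 y]
      linear_combination hαsemi y r s)
    (fun r s => by
      show α y (r + s) / α y 1 = α y r / α y 1 + α y s / α y 1
      rw [hαadd, add_div])
  have hθe : ∀ y x, α y (x * e₀) = θ y x * e₀ := fun y x => by
    show _ = α y x / α y 1 * e₀
    have := hαsemi y x e₀
    rw [he₀'] at this
    field_simp [hα1 y]
    linear_combination this
  have hθinj : ∀ y z : Y, (∀ x, α y (x * e₀) = α z (x * e₀)) → θ y = θ z := fun y z hyz =>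
    RingEquiv.ext fun x => mul_right_cancel₀ (Ne.symm he₀ne) (by rw [← hθe, ← hθe, hyz])
  let Θ : Y →* (D.F ≃+* D.F) := MonoidHom.mk' θ fun x y => RingEquiv.ext fun r =>
    mul_right_cancel₀ (Ne.symm he₀ne) (by
      show θ (x * y) r * e₀ = θ x (θ y r) * e₀
      rw [← hθe, hαmul, hθe y, hθe x])
  set R := Θ.range with hRdef
  have hne_bot : R ≠ ⊥ := by
    intro hbot
    refine hmv ?_
    have h1 : Θ ⟨y₀, hy₀⟩ = 1 := mem_bot.1 (hbot ▸ (⟨_, rfl⟩ : Θ ⟨y₀, hy₀⟩ ∈ R))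
    have hid : α ⟨y₀, hy₀⟩ (D.ψ v₁ 0) = D.ψ v₁ 0 := by
      have h2 := hθe ⟨y₀, hy₀⟩ (D.ψ v₁ 0 / e₀)
      rw [show θ ⟨y₀, hy₀⟩ = 1 from h1, div_mul_cancel₀ _ (Ne.symm he₀ne)] at h2
      rw [h2]
      show D.ψ v₁ 0 / e₀ * e₀ = _
      rw [div_mul_cancel₀ _ (Ne.symm he₀ne)]
    have hv1 := h.fam.mem_fix_join.1 hv₁ c
    rw [map_sub, sub_eq_zero, show y₀ = ((⟨y₀, hy₀⟩ : Y) : P) from rfl, hα _ _ hv1, hid]
    ext i; fin_cases i
    · rfl
    · exact hv1.symm
  haveI : Finite (D.F ≃+* D.F) :=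
    Finite.of_injective (fun f => (f : D.F → D.F)) DFunLike.coe_injective
  have hRp : IsPGroup p R := (h.pgroup.to_le hYS).of_surjective Θ.rangeRestrict Θ.rangeRestrict_surjective
  obtain ⟨R₀, -, hR₀R, hR₀ne, hR₀card⟩ := exists_le_index_le hRp bot_le (Ne.symm hne_bot)
  -- Artin: `R₀` has more fixed field elements
  obtain ⟨x, hx₀, hx⟩ : ∃ x : D.F, (∀ f ∈ R₀, f x = x) ∧ ∃ f ∈ R, f x ≠ x := by
    by_contra hno
    push Not at hno
    haveI : Fintype R := Fintype.ofFinite _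
    haveI : Fintype R₀ := Fintype.ofFinite _
    have heq : FixedPoints.subfield R₀ D.F = FixedPoints.subfield R D.F := SetLike.ext fun x =>
      ⟨fun (hx : ∀ g : R₀, g • x = x) =>
          show ∀ f : R, f • x = x from fun f => hno x (fun g hg => hx ⟨g, hg⟩) f f.2,
        fun (hx : ∀ f : R, f • x = x) => show ∀ g : R₀, g • x = x from fun g => hx ⟨g, hR₀R g.2⟩⟩
    have h1 := FixedPoints.finrank_eq_card R₀ D.F
    have h2 := FixedPoints.finrank_eq_card R D.F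
    rw [heq] at h1
    refine hR₀ne (eq_of_le_of_card_ge hR₀R ?_)
    rw [Nat.card_eq_fintype_card, Nat.card_eq_fintype_card, ← h1, ← h2]
  let Y₀ : Subgroup P := (R₀.comap Θ).map Y.subtype
  have hY₀le : Y₀ ≤ Y := map_subtype_le _
  refine ⟨Y₀, fun j hj => ⟨⟨j, hJY hj⟩, ?_, rfl⟩, hY₀le, fun e1 => ?_, ?_, e (x * e₀),
    ⟨hef _, fun y hy => ?_⟩, fun hbad => ?_⟩
  · show θ ⟨j, hJY hj⟩ ∈ R₀
    have : θ ⟨j, hJY hj⟩ = 1 := RingEquiv.ext fun r => mul_right_cancel₀ (Ne.symm he₀ne) (by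
      rw [← hθe]
      show D.ψ (σ j (e (r * e₀))) 0 = _
      rw [hef _ j hj, hec']; rfl)
    rw [this]; exact one_mem _
  · refine hR₀ne (le_antisymm hR₀R ?_)
    rintro _ ⟨y, rfl⟩
    obtain ⟨z, hz, hzy⟩ := e1.ge y.2
    rwa [← show z = y from Subtype.ext hzy]
  · show Nat.card Y ≤ p * Nat.card ((R₀.comap Θ).map Y.subtype)
    rw [card_map_of_injective Y.subtype_injective, ← (R₀.comap Θ).card_mul_index, index_comap,
      mul_comm p]
    refine Nat.mul_le_mul_left _ ?_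
    have h1 : Nat.card R₀ * R₀.relIndex R = Nat.card R :=
      CfsgLib.LocalEvenBasic.card_mul_relIndex_of_le R₀ R hR₀R
    exact Nat.le_of_mul_le_mul_left (by rw [h1, mul_comm]; exact hR₀card) Nat.card_pos
  · obtain ⟨y', hy', rfl⟩ := hy
    refine h.fam.mem_fix_grps.2 fun d => ?_
    rw [map_sub, sub_eq_zero]
    rcases eq_or_ne d c with rfl | hdc
    · change D.ψ (σ (y' : P) (e (x * e₀))) = D.ψ (e (x * e₀))
      rw [hα y' _ (by rw [hec']; rfl), hec']
      show ![α y' (x * e₀), 0] = _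
      rw [hθe, show θ y' x = x from hx₀ _ hy']
    · have hz : (h.fam.data d).ψ (e (x * e₀)) = 0 := by
        rw [hec, Function.update_of_ne hdc]; ext i; fin_cases i <;> rfl
      rw [hz]
      have hd : h.img (hYS y'.2) d = d := h.fam.root_inj h.inj (hfixed y' y'.2 d)
      have := (h.ψ_img_eq_zero (hYS y'.2) d).2 hz
      rwa [hd] at this
  · obtain ⟨f, ⟨y, rfl⟩, hf⟩ := hx
    refine hf ?_
    have h1 := h.fam.mem_fix_grps.1 (hbad.2 y y.2) c
    rw [map_sub, sub_eq_zero, hα y _ (by rw [hec']; rfl), hec'] at h1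
    exact mul_right_cancel₀ (Ne.symm he₀ne) ((hθe y x).symm.trans (congrFun h1 0))

/-- Every subgroup of `S` has weight at most `|V|`. -/
theorem wt_le {Y : Subgroup P} (hY : Y ≤ S) : wt σ Y ≤ Nat.card V := by
  classical
  have key : ∀ n, ∀ Y : Subgroup P, rootsJoin 𝒞 ≤ Y → Y ≤ S → Nat.card Y ≤ n →
      Nat.card Y * Nat.card (fixMod σ 𝒞 Y) ≤ Nat.card V := by
    intro n
    induction n with
    | zero => intro Y _ _ hn; exact absurd hn (not_le.2 Nat.card_pos)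
    | succ n ih =>
      intro Y hJY hYS hn
      rcases eq_or_ne (rootsJoin 𝒞) Y with he | hne
      · refine le_trans ?_ (h.fam.wt_join h.inj).le
        rw [wt, he]
        exact Nat.mul_le_mul_left _ (Nat.card_le_card_of_injective
          (AddSubgroup.inclusion (H := fixMod σ 𝒞 Y) fun v hv => he ▸ hv.1)
          (AddSubgroup.inclusion_injective _))
      · obtain ⟨Y₀, hJ₀, hY₀, hne₀, hcard, v, hv₀, hv⟩ :
            ∃ Y₀ : Subgroup P, rootsJoin 𝒞 ≤ Y₀ ∧ Y₀ ≤ Y ∧ Y₀ ≠ Y ∧ Nat.card Y ≤ p * Nat.card Y₀ ∧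
              ∃ v ∈ fixMod σ 𝒞 Y₀, v ∉ fixMod σ 𝒞 Y := by
          by_cases hmv : ∃ y ∈ Y, ∃ c : 𝒞, cj y c.1.1 ≠ c.1.1
          · obtain ⟨y, hy, c, hc⟩ := hmv
            exact h.exists_moved hJY hYS hy hc
          · push Not at hmv
            exact h.exists_unmoved hJY hYS hne hmv
        have hlt : Nat.card Y₀ < Nat.card Y :=
          lt_of_not_ge fun hge => hne₀ (eq_of_le_of_card_ge hY₀ hge)
        have hIH := ih Y₀ hJ₀ (hY₀.trans hYS) (by omega)
        have hsub : fixMod σ 𝒞 Y ≤ fixMod σ 𝒞 Y₀ := fun w hw => ⟨hw.1, fun y hy => hw.2 y (hY₀ hy)⟩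
        have hp : p * Nat.card (fixMod σ 𝒞 Y) ≤ Nat.card (fixMod σ 𝒞 Y₀) :=
          mul_card_le_of_lt h.exp hsub fun e1 => hv (e1 ▸ hv₀)
        calc Nat.card Y * Nat.card (fixMod σ 𝒞 Y)
            ≤ p * Nat.card Y₀ * Nat.card (fixMod σ 𝒞 Y) := Nat.mul_le_mul_right _ hcard
          _ = Nat.card Y₀ * (p * Nat.card (fixMod σ 𝒞 Y)) := by ring
          _ ≤ Nat.card Y₀ * Nat.card (fixMod σ 𝒞 Y₀) := Nat.mul_le_mul_left _ hp
          _ ≤ _ := hIH
  have hJS := h.join_le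
  have h1 : wt σ (Y ⊔ rootsJoin 𝒞) ≤ Nat.card V := by
    refine le_trans ?_ (key _ _ le_sup_right (sup_le hY hJS) le_rfl)
    have hle : fix σ (Y ⊔ rootsJoin 𝒞) ≤ fixMod σ 𝒞 (Y ⊔ rootsJoin 𝒞) := fun v hv =>
      show v ∈ fix σ (rootsJoin 𝒞) ∧ ∀ y ∈ Y ⊔ rootsJoin 𝒞, σ y v - v ∈ fix σ (grpsJoin 𝒞) from
        ⟨fix_anti σ le_sup_right hv, fun y hy => by rw [hv y hy, sub_self]; exact zero_mem _⟩
    exact Nat.mul_le_mul_left _
      (Nat.card_le_card_of_injective _ (AddSubgroup.inclusion_injective hle))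
  have h2 := (h.fam.wt_le_of_le h.inj (inf_le_right : Y ⊓ rootsJoin 𝒞 ≤ _)).1
  have h3 := wt_mul_le (σ := σ) Y (rootsJoin 𝒞)
  rw [h.fam.wt_join h.inj] at h3
  exact Nat.le_of_mul_le_mul_right (h3.trans (Nat.mul_le_mul h1 h2)) Nat.card_pos

/-- A commutative subgroup of weight at least `|V|` in `S` lies in `J`. -/
theorem le_join_of_comm {B : Subgroup P} (hBS : B ≤ S)
    (hq : ∀ a ∈ B, ∀ b ∈ B, a * b = b * a) (hB : Nat.card V ≤ wt σ B) :
    B ≤ rootsJoin 𝒞 := by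
  classical
  haveI : Fintype 𝒞 := Fintype.ofFinite _
  set J := rootsJoin 𝒞 with hJ
  have hI := h.fam.wt_le_of_le h.inj (inf_le_right : B ⊓ J ≤ J)
  have hU := h.wt_le (sup_le hBS h.join_le : B ⊔ J ≤ S)
  have hm := wt_mul_le (σ := σ) B J
  rw [h.fam.wt_join h.inj] at hm
  have hBI : Nat.card V ≤ wt σ (B ⊓ J) :=
    Nat.le_of_mul_le_mul_left (by
      calc Nat.card V * Nat.card V ≤ wt σ B * Nat.card V := Nat.mul_le_mul_right _ hB
        _ ≤ _ := hm.trans (Nat.mul_le_mul_right _ hU)) Nat.card_pos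
  have hsplit : fix σ B ⊔ fix σ J = fix σ (B ⊓ J) := by
    refine AddSubgroup.eq_of_le_of_card_ge (sup_le_fix_inf B J) ?_
    have h1 := CfsgLib.LocalEvenBasic.card_mul_le_inf_mul_sup B J
    have h2 := card_sup_mul_inf (fix σ B) (fix σ J)
    rw [← fix_sup] at h2
    by_contra hlt
    push Not at hlt
    have h4 : wt σ B * wt σ J < wt σ (B ⊔ J) * wt σ (B ⊓ J) := by
      calc wt σ B * wt σ J
          = Nat.card B * Nat.card J * (Nat.card (fix σ B) * Nat.card (fix σ J)) := by rw [wt, wt]; ring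
        _ ≤ Nat.card ↥(B ⊓ J) * Nat.card ↥(B ⊔ J) *
              (Nat.card ↥(fix σ B ⊔ fix σ J) * Nat.card (fix σ (B ⊔ J))) := by rw [← h2]; gcongr
        _ < Nat.card ↥(B ⊓ J) * Nat.card ↥(B ⊔ J) *
              (Nat.card (fix σ (B ⊓ J)) * Nat.card (fix σ (B ⊔ J))) :=
            Nat.mul_lt_mul_of_pos_left (Nat.mul_lt_mul_of_pos_right hlt Nat.card_pos)
              (Nat.mul_pos Nat.card_pos Nat.card_pos)
        _ = _ := by rw [wt, wt]; ring
    rw [h.fam.wt_join h.inj] at h4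
    have h5 : wt σ (B ⊔ J) * wt σ (B ⊓ J) ≤ wt σ B * Nat.card V :=
      (Nat.mul_le_mul hU hI.1).trans (Nat.mul_le_mul_right _ hB)
    omega
  obtain ⟨𝒟, h𝒟, hI'⟩ := hI.2 hBI
  intro t ht
  obtain ⟨k, hk⟩ := h.exists_pow (hBS ht)
  have htq : ∀ c : 𝒞, Norm t c.1.1 c.1.2 ∧
      ∀ v, σ t v - v ∈ fix σ c.1.1 := by
    intro c
    by_cases hc : c.1 ∈ 𝒟
    · have hcB : c.1.1 ≤ B := (le_iSup (fun d : 𝒟 => rt d.1) ⟨c.1, hc⟩).trans
        (hI'.ge.trans inf_le_left)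
      have hcomm : ∀ b ∈ c.1.1, t * b = b * t := fun b hb => hq t ht b (hcB hb)
      have hN : Norm t c.1.1 c.1.2 := h.norm_of_root (hBS ht) (cj_eq_self.2
        (mem_normalizer_of_cj_le (by
          rintro _ ⟨b, hb, rfl⟩
          show t * b * t⁻¹ ∈ _
          rw [hcomm b hb, mul_inv_cancel_right]; exact hb)))
      refine ⟨hN, fun v => ?_⟩
      obtain ⟨b, hb, hbv, -⟩ := (h.fam.data c).exists_eq_root hN hcomm
        ((h.fam.data c).line_of_commute h.exp hN hk hcomm)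
      rw [← sub_add_sub_cancel (σ t v) (σ b v) v]
      exact add_mem (fix_anti σ (h.fam.data c).le (hbv v)) ((h.fam.data c).apply_sub_mem_fix hb v)
    · -- `t` preserves the transversal coordinate outside `B ⊓ J`
      have hrep : ∀ r, ∃ f ∈ fix σ B, ∀ d : 𝒞,
          (h.fam.data d).ψ f 1 = Function.update (fun _ => 0) c r d := by
        intro r
        obtain ⟨v, hv⟩ := h.fam.exists_transversal (Function.update (fun _ => 0) c r)
        have hvI : v ∈ fix σ (B ⊓ J) := by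
          rw [hI', (h.fam.subset h𝒟).mem_fix_join]
          intro d
          have hdc : (⟨d.1, h𝒟 d.2⟩ : 𝒞) ≠ c := fun e1 => hc (e1 ▸ d.2)
          exact ((h.fam.subset h𝒟).data d).mem_fix_iff.1 ((h.fam.data ⟨d.1, h𝒟 d.2⟩).fixB v
            (by rw [hv, Function.update_of_ne hdc]))
        rw [← hsplit] at hvI
        obtain ⟨f, hf, j, hj, rfl⟩ := AddSubgroup.mem_sup.1 hvI
        refine ⟨f, hf, fun d => ?_⟩
        rw [← hv d, map_add, Pi.add_apply, h.fam.mem_fix_join.1 hj d, add_zero]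
      have hfix : h.img (hBS ht) c = c := by
        by_contra hne
        obtain ⟨f, hf, hfd⟩ := hrep 1
        have h1 : f ∈ fix σ (h.img (hBS ht) c).1.1 :=
          (h.fam.data _).fixB f (by rw [hfd, Function.update_of_ne hne])
        have h2 : σ t⁻¹ f ∈ fix σ c.1.1 := mem_fix_cj.1 h1
        rw [hf _ (inv_mem ht)] at h2
        have h3 := (h.fam.data c).mem_fix_iff.1 h2
        rw [hfd, Function.update_self] at h3
        exact one_ne_zero h3
      have hN : Norm t c.1.1 c.1.2 :=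
        h.norm_of_root (hBS ht) (congrArg (fun c : 𝒞 => c.1.1) hfix)
      refine ⟨hN, fun v => (h.fam.data c).fixB _ ?_⟩
      obtain ⟨α', h', β, -, hh, -⟩ := (h.fam.data c).exists_semilinear hN
      obtain ⟨f, hf, hfd⟩ := hrep ((h.fam.data c).ψ v 1)
      have hyf : (h.fam.data c).ψ f 1 = (h.fam.data c).ψ v 1 := by rw [hfd, Function.update_self]
      have e1 : (h.fam.data c).ψ (σ t v) 1 = (h.fam.data c).ψ (σ t f) 1 := by rw [hh, hh, hyf]
      rw [map_sub, Pi.sub_apply, e1, hf t ht, hyf, sub_self]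
  refine h.mem_join_of_line (hBS ht) fun v hv => h.fam.mem_fix_grps.2 fun c => ?_
  refine ((h.fam.data c).ker _).2 ?_
  exact (h.fam.data c).line_of_quot h.exp (htq c).1 hk (htq c).2 v (fix_anti σ (h.fam.root_le_join c) hv)

/-- A quadratic subgroup of weight at least `|V|` in `S` lies in `J`. -/
theorem le_join {B : Subgroup P} (hBS : B ≤ S)
    (hq : ∀ a ∈ B, ∀ b ∈ B, ∀ v, σ a (σ b v - v) = σ b v - v) (hB : Nat.card V ≤ wt σ B) :
    B ≤ rootsJoin 𝒞 :=
  h.le_join_of_comm hBS (fun a ha b hb => (commute_of_fix h.inj (hq a ha b hb) (hq b hb a ha)).eq) hB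

/-- The minimal offenders in `S` are the roots. -/
theorem eq_root {B : Subgroup P} (hB : IsMinOff σ B) (hBS : B ≤ S) : ∃ c : 𝒞, B = c.1.1 :=
  h.fam.eq_root_of_le h.inj hB (h.le_join hBS hB.quad hB.le)

end Pre

end CfsgLib.FFCells
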