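import Cfsg.Agent.FFCells.Cell

/-!
An element normalising a cell acts on its natural module semilinearly.
-/

set_option autoImplicit false

namespace CfsgLib.FFCells

open Subgroup Matrix CfsgLib.SL2Recognition CfsgLib.Linear
open scoped MatrixGroups

variable {P V : Type*} [Group P] [AddCommGroup V] {σ : P →* AddMonoid.End V}

/-- `g` normalises the root and the group of a cell. -/
structure Norm (g : P) (B L : Subgroup P) : Prop where
  root : cj g B = B
  grp : cj g L = L

theorem Norm.mul {g h : P} {B L : Subgroup P} (hg : Norm g B L) (hh : Norm h B L) :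
    Norm (g * h) B L :=
  ⟨by rw [← cj_cj, hh.root, hg.root], by rw [← cj_cj, hh.grp, hg.grp]⟩

theorem Norm.inv {g : P} {B L : Subgroup P} (hg : Norm g B L) : Norm g⁻¹ B L :=
  ⟨by conv_lhs => rw [← hg.root, cj_inv_cj],
    by conv_lhs => rw [← hg.grp, cj_inv_cj]⟩

theorem Norm.one (B L : Subgroup P) : Norm (1 : P) B L := ⟨cj_one B, cj_one L⟩

theorem Norm.pow {g : P} {B L : Subgroup P} (hg : Norm g B L) : ∀ n : ℕ, Norm (g ^ n) B L
  | 0 => by rw [pow_zero]; exact Norm.one B L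
  | n + 1 => by rw [pow_succ]; exact (hg.pow n).mul hg

namespace CellData

variable {B L : Subgroup P} (D : CellData σ B L) {g : P}

theorem apply_mem_fix_root (hg : Norm g B L) {v : V} (hv : v ∈ fix σ B) : σ g v ∈ fix σ B := by
  rw [← hg.root, mem_fix_cj, apply_inv_apply]; exact hv

theorem apply_mem_fix_grp (hg : Norm g B L) {v : V} (hv : v ∈ fix σ L) : σ g v ∈ fix σ L := by
  rw [← hg.grp, mem_fix_cj, apply_inv_apply]; exact hv

include D

theorem ψ_congr (hg : Norm g B L) {v w : V} (h : D.ψ v = D.ψ w) :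
    D.ψ (σ g v) = D.ψ (σ g w) := by
  rw [← sub_eq_zero, ← map_sub, ← map_sub, D.ker]
  exact apply_mem_fix_grp hg ((D.ker _).1 (by rw [map_sub, h, sub_self]))

theorem exists_param_conj (hg : Norm g B L) :
    ∃ β : D.F → D.F, ∀ s, g * D.u s * g⁻¹ = D.u (β s) := by
  have h : ∀ s, ∃ t, D.u t = g * D.u s * g⁻¹ := fun s => D.exists_u (by
    have := conj_mem_cj (g := g) (D.u_mem s)
    rwa [hg.root] at this)
  choose β hβ using h
  exact ⟨β, fun s => (hβ s).symm⟩

/-- The semilinear data of a normalising element. -/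
theorem exists_semilinear (hg : Norm g B L) :
    ∃ (α h : D.F →+ D.F) (β : D.F → D.F), (∀ v, D.ψ v 1 = 0 → D.ψ (σ g v) = ![α (D.ψ v 0), 0]) ∧
      (∀ v, D.ψ (σ g v) 1 = h (D.ψ v 1)) ∧ (∀ s, g * D.u s * g⁻¹ = D.u (β s)) ∧
      (∀ s y, α (s * y) = β s * h y) := by
  classical
  let e : D.F → D.F → V := fun x y => (D.surj ![x, y]).choose
  have he : ∀ x y, D.ψ (e x y) = ![x, y] := fun x y => (D.surj ![x, y]).choose_spec
  obtain ⟨β, hβ⟩ := D.exists_param_conj hg
  let α : D.F →+ D.F := AddMonoidHom.mk' (fun x => D.ψ (σ g (e x 0)) 0) fun x x' => by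
    rw [← Pi.add_apply, ← map_add, ← map_add]
    exact congrFun (D.ψ_congr hg (by rw [map_add, he, he, he]; simp)) 0
  let h : D.F →+ D.F := AddMonoidHom.mk' (fun y => D.ψ (σ g (e 0 y)) 1) fun y y' => by
    rw [← Pi.add_apply, ← map_add, ← map_add]
    exact congrFun (D.ψ_congr hg (by rw [map_add, he, he, he]; simp)) 1
  have hy0 : ∀ v, D.ψ v 1 = 0 → D.ψ (σ g v) 1 = 0 := fun v hv =>
    D.mem_fix_iff.1 (apply_mem_fix_root hg (D.mem_fix_iff.2 hv))
  have hα : ∀ v, D.ψ v 1 = 0 → D.ψ (σ g v) = ![α (D.ψ v 0), 0] := fun v hv => by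
    have h1 : D.ψ v = D.ψ (e (D.ψ v 0) 0) := by
      rw [he]; ext i; fin_cases i <;> simp [hv]
    ext i; fin_cases i
    · exact congrFun (D.ψ_congr hg h1) 0
    · exact hy0 v hv
  have hh : ∀ v, D.ψ (σ g v) 1 = h (D.ψ v 1) := fun v => by
    have h1 : D.ψ (v - e 0 (D.ψ v 1)) 1 = 0 := by rw [map_sub, Pi.sub_apply, he]; simp
    have := hy0 _ h1
    rw [map_sub, map_sub, Pi.sub_apply, sub_eq_zero] at this
    exact this
  refine ⟨α, h, β, hα, hh, hβ, fun s y => ?_⟩
  have e1 : σ g (σ (D.u s) (e 0 y)) = σ (D.u (β s)) (σ g (e 0 y)) := by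
    rw [← apply_mul, ← apply_mul, ← hβ s, inv_mul_cancel_right]
  have e2 : σ g (σ (D.u s) (e 0 y) - e 0 y) = σ (D.u (β s)) (σ g (e 0 y)) - σ g (e 0 y) := by
    rw [map_sub, e1]
  have e3 := congrFun (congrArg D.ψ e2) 0
  rw [hα _ (by rw [D.ψ_apply_sub]; rfl), D.ψ_apply_sub, D.ψ_apply_sub, hh, he] at e3
  simpa using e3

/-- Fixing the line pointwise and centralising the root, an element acts as a root element. -/
theorem exists_eq_root (hg : Norm g B L) (hc : ∀ b ∈ B, g * b = b * g)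
    (hα : ∀ v ∈ fix σ B, σ g v - v ∈ fix σ L) :
    ∃ b ∈ B, (∀ v, σ g v - σ b v ∈ fix σ L) ∧ ∀ x ∈ L, g * x * g⁻¹ = b * x * b⁻¹ := by
  classical
  let e : D.F → D.F → V := fun x y => (D.surj ![x, y]).choose
  have he : ∀ x y, D.ψ (e x y) = ![x, y] := fun x y => (D.surj ![x, y]).choose_spec
  obtain ⟨α, h, β, hα', hh, hβ, hrel⟩ := D.exists_semilinear hg
  have hαid : ∀ x, α x = x := fun x => by
    have h1 : e x 0 ∈ fix σ B := D.mem_fix_iff.2 (by rw [he]; rfl)
    have h2 := (D.ker _).2 (hα _ h1)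
    rw [map_sub, sub_eq_zero, hα' _ (by rw [he]; rfl), he] at h2
    simpa using congrFun h2 0
  have hβid : ∀ s, β s = s := fun s => D.u_injective (by
    rw [← hβ s, hc _ (D.u_mem s), mul_inv_cancel_right])
  have hhid : ∀ y, h y = y := fun y => by
    simpa [hαid, hβid] using (hrel 1 y).symm
  let f : D.F →+ D.F := AddMonoidHom.mk' (fun y => D.ψ (σ g (e 0 y)) 0) fun y y' => by
    rw [← Pi.add_apply, ← map_add, ← map_add]
    exact congrFun (D.ψ_congr hg (by rw [map_add, he, he, he]; simp)) 0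
  have hτ : ∀ v, D.ψ (σ g v) = ![D.ψ v 0 + f (D.ψ v 1), D.ψ v 1] := fun v => by
    have h1 : D.ψ v = D.ψ (e (D.ψ v 0) 0 + e 0 (D.ψ v 1)) := by
      rw [map_add, he, he]; ext i; fin_cases i <;> simp
    have h2 := D.ψ_congr hg h1
    rw [map_add, map_add, hα' (e (D.ψ v 0) 0) (by rw [he]; rfl), he, hαid] at h2
    rw [h2]
    ext i; fin_cases i
    · simp [f]
    · simp [hh, he, hhid]
  have hlin : ∀ y, f y = y * f 1 := by
    have hmem : g * D.low 1 * g⁻¹ ∈ L := by
      have := conj_mem_cj (g := g) (D.low_mem 1)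
      rwa [hg.grp] at this
    set m := D.φ ⟨_, hmem⟩ with hm
    have hcomp : ∀ y, ((m.1) *ᵥ ![0, y]) 1 = y - f y := by
      intro y
      have h1 := D.ψ (σ g⁻¹ (e 0 y))
      have h2 : D.ψ (σ (g * D.low 1 * g⁻¹) (e 0 y)) = m.1 *ᵥ ![0, y] := by
        rw [show g * D.low 1 * g⁻¹ = ((⟨_, hmem⟩ : L) : P) from rfl, D.equiv, he]
      have h3 : D.ψ (σ g⁻¹ (e 0 y)) = ![-f y, y] := by
        have h4 := hτ (σ g⁻¹ (e 0 y))
        rw [apply_apply_inv, he] at h4
        have hy : D.ψ (σ g⁻¹ (e 0 y)) 1 = y := by simpa using (congrFun h4 1).symm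
        have hx := congrFun h4 0
        simp [hy] at hx
        ext i; fin_cases i
        · simpa using eq_neg_of_add_eq_zero_left hx.symm
        · exact hy
      rw [← h2, apply_mul, apply_mul, hτ, D.ψ_low, h3]
      simp [sub_eq_add_neg]
    intro y
    have a1 := hcomp 1
    have ay := hcomp y
    simp [mulVec, dotProduct, Fin.sum_univ_two] at a1 ay
    linear_combination ay - y * a1
  refine ⟨D.u (f 1), D.u_mem _, fun v => ?_, fun x hx => ?_⟩
  · rw [← D.ker, map_sub, sub_eq_zero, hτ, D.ψ_u, hlin (D.ψ v 1)]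
    ext i; fin_cases i <;> simp [mul_comm]
  · have hb : ∀ v, D.ψ (σ g v) = D.ψ (σ (D.u (f 1)) v) := fun v => by
      rw [hτ, D.ψ_u, hlin (D.ψ v 1)]; ext i; fin_cases i <;> simp [mul_comm]
    have h1 : g * x * g⁻¹ ∈ L := by
      have := conj_mem_cj (g := g) hx
      rwa [hg.grp] at this
    have h2 : D.u (f 1) * x * (D.u (f 1))⁻¹ ∈ L :=
      mul_mem (mul_mem (D.u_memL _) hx) (inv_mem (D.u_memL _))
    have key : D.φ ⟨_, h1⟩ = D.φ ⟨_, h2⟩ := by
      refine Subtype.ext ((Matrix.toLin' : Matrix (Fin 2) (Fin 2) D.F ≃ₗ[D.F] _).injective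
        (LinearMap.ext fun c => ?_))
      obtain ⟨v, rfl⟩ := D.surj c
      rw [Matrix.toLin'_apply, Matrix.toLin'_apply, ← D.equiv, ← D.equiv]
      show D.ψ (σ (g * x * g⁻¹) v) = D.ψ (σ (D.u (f 1) * x * (D.u (f 1))⁻¹) v)
      have hbi : D.ψ (σ g⁻¹ v) = D.ψ (σ (D.u (f 1))⁻¹ v) := by
        have h3 := hb (σ g⁻¹ v)
        rw [apply_apply_inv] at h3
        have hUn : Norm (D.u (f 1))⁻¹ B L :=
          ⟨le_antisymm (cj_le_of_mem (inv_mem (D.u_mem _))) (fun z hz => mem_cj.2 (by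
              simpa using mul_mem (mul_mem (D.u_mem _) hz) (inv_mem (D.u_mem _)))),
            le_antisymm (cj_le_of_mem (inv_mem (D.u_memL _))) (fun z hz => mem_cj.2 (by
              simpa using mul_mem (mul_mem (D.u_memL _) hz) (inv_mem (D.u_memL _))))⟩
        rw [D.ψ_congr hUn h3, apply_inv_apply]
      rw [apply_mul, apply_mul, apply_mul σ _ (D.u (f 1))⁻¹, apply_mul, hb,
        D.ψ_congr (g := D.u (f 1))]
      · exact ⟨le_antisymm (cj_le_of_mem (D.u_mem _)) (fun z hz => mem_cj.2 (by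
            simpa using mul_mem (mul_mem (inv_mem (D.u_mem _)) hz) (D.u_mem _))),
          le_antisymm (cj_le_of_mem (D.u_memL _)) (fun z hz => mem_cj.2 (by
            simpa using mul_mem (mul_mem (inv_mem (D.u_memL _)) hz) (D.u_memL _)))⟩
      · rw [show x = ((⟨x, hx⟩ : L) : P) from rfl, D.equiv, D.equiv, hbi]
    exact congrArg Subtype.val (D.φ.injective key)

end CellData

/-- An element of `p`-power order in a finite field scales trivially. -/
theorem eq_one_of_pow_prime_pow {F : Type*} [Field F] {p : ℕ} [Fact p.Prime] [CharP F p] {c : F}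
    {k : ℕ} (h : c ^ p ^ k = 1) : c = 1 := by
  haveI : ExpChar F p := ExpChar.prime Fact.out
  exact iterateFrobenius_inj F p k (by simpa [iterateFrobenius_def] using h)

namespace CellData

variable {B L : Subgroup P} (D : CellData σ B L) {g : P} {p : ℕ} [Fact p.Prime]
include D

/-- A `p`-element fixing the line pointwise centralises the root. -/
theorem commute_root_of_line (hp0 : ∀ v : V, p • v = 0) (hg : Norm g B L) {k : ℕ}
    (hk : g ^ p ^ k = 1) (hα : ∀ v ∈ fix σ B, σ g v - v ∈ fix σ L) :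
    ∀ b ∈ B, g * b = b * g := by
  haveI := D.charP hp0
  obtain ⟨α, h, β, hα', hh, hβ, hrel⟩ := D.exists_semilinear hg
  have hαid : ∀ x, α x = x := fun x => by
    obtain ⟨v, hv⟩ := D.surj ![x, 0]
    have h2 := (D.ker _).2 (hα _ (D.mem_fix_iff.2 (by rw [hv]; rfl)))
    rw [map_sub, sub_eq_zero, hα' _ (by rw [hv]; rfl), hv] at h2
    simpa using congrFun h2 0
  have hy : ∀ y, h y * β 1 = y := fun y => by
    simpa [hαid, mul_comm] using (hrel 1 y).symm
  have hb0 : β 1 ≠ 0 := fun e => one_ne_zero (α := D.F) (by simpa [e] using (hy 1).symm)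
  have hmul : ∀ y, h y = h 1 * y := fun y => by
    refine mul_right_cancel₀ hb0 ?_
    rw [hy, mul_assoc, mul_comm y, ← mul_assoc, hy, one_mul]
  have hiter : ∀ (n : ℕ) v, D.ψ (σ (g ^ n) v) 1 = h 1 ^ n * D.ψ v 1 := by
    intro n
    induction n with
    | zero => intro v; simp [apply_one]
    | succ n ih => intro v; rw [pow_succ', apply_mul, hh, ih, hmul, pow_succ', mul_assoc]
  have h1 : h 1 = 1 := by
    obtain ⟨v, hv⟩ := D.surj ![0, 1]
    refine eq_one_of_pow_prime_pow (p := p) (k := k) ?_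
    have := hiter (p ^ k) v
    rw [hk, apply_one, hv] at this
    simpa using this.symm
  intro b hb
  obtain ⟨s, rfl⟩ := D.exists_u hb
  have hs : β s = s := by
    have := hrel s 1
    rw [mul_one, hαid, h1, mul_one] at this
    exact this.symm
  have := hβ s
  rw [hs, mul_inv_eq_iff_eq_mul] at this
  exact this

/-- A `p`-element centralising the root fixes the line pointwise. -/
theorem line_of_commute (hp0 : ∀ v : V, p • v = 0) (hg : Norm g B L) {k : ℕ} (hk : g ^ p ^ k = 1)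
    (hc : ∀ b ∈ B, g * b = b * g) : ∀ v ∈ fix σ B, σ g v - v ∈ fix σ L := by
  haveI := D.charP hp0
  obtain ⟨α, h, β, hα', hh, hβ, hrel⟩ := D.exists_semilinear hg
  have hβid : ∀ s, β s = s := fun s => D.u_injective (by
    rw [← hβ s, hc _ (D.u_mem s), mul_inv_cancel_right])
  have hmul : ∀ y, α y = α 1 * y := fun y => by
    have h1 := hrel y 1
    have h2 := hrel 1 1
    rw [mul_one, hβid] at h1
    rw [mul_one, hβid, one_mul] at h2
    rw [h1, h2, mul_comm]
  have hiter : ∀ (n : ℕ) v, D.ψ v 1 = 0 →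
      D.ψ (σ (g ^ n) v) 0 = α 1 ^ n * D.ψ v 0 := by
    intro n
    induction n with
    | zero => intro v _; simp [apply_one]
    | succ n ih =>
      intro v hv
      have h0 : D.ψ (σ (g ^ n) v) 1 = 0 :=
        D.mem_fix_iff.1 (apply_mem_fix_root (hg.pow n) (D.mem_fix_iff.2 hv))
      rw [pow_succ', apply_mul, hα' _ h0]
      show α _ = _
      rw [hmul, ih v hv, pow_succ', mul_assoc]
  have h1 : α 1 = 1 := by
    obtain ⟨v, hv⟩ := D.surj ![1, 0]
    refine eq_one_of_pow_prime_pow (p := p) (k := k) ?_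
    have := hiter (p ^ k) v (by rw [hv]; rfl)
    rw [hk, apply_one, hv] at this
    simpa using this.symm
  intro v hv
  rw [← D.ker, map_sub, sub_eq_zero, hα' v (D.mem_fix_iff.1 hv), hmul, h1, one_mul]
  ext i; fin_cases i <;> simp [D.mem_fix_iff.1 hv]

/-- A `p`-element trivial on the quotient by `fix B` fixes the line pointwise. -/
theorem line_of_quot (hp0 : ∀ v : V, p • v = 0) (hg : Norm g B L) {k : ℕ} (hk : g ^ p ^ k = 1)
    (hq : ∀ v, σ g v - v ∈ fix σ B) : ∀ v ∈ fix σ B, σ g v - v ∈ fix σ L := by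
  haveI := D.charP hp0
  obtain ⟨α, h, β, hα', hh, hβ, hrel⟩ := D.exists_semilinear hg
  have hhid : ∀ y, h y = y := fun y => by
    obtain ⟨v, hv⟩ := D.surj ![0, y]
    have := D.mem_fix_iff.1 (hq v)
    rw [map_sub, Pi.sub_apply, hh, hv, sub_eq_zero] at this
    simpa using this
  have hmul : ∀ y, α y = α 1 * y := fun y => by
    have h1 := hrel 1 y
    have h2 := hrel 1 1
    rw [one_mul, hhid] at h1 h2
    rw [mul_one] at h2
    rw [h1, h2]
  have hiter : ∀ (n : ℕ) v, D.ψ v 1 = 0 →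
      D.ψ (σ (g ^ n) v) 0 = α 1 ^ n * D.ψ v 0 := by
    intro n
    induction n with
    | zero => intro v _; simp [apply_one]
    | succ n ih =>
      intro v hv
      have h0 : D.ψ (σ (g ^ n) v) 1 = 0 :=
        D.mem_fix_iff.1 (apply_mem_fix_root (hg.pow n) (D.mem_fix_iff.2 hv))
      rw [pow_succ', apply_mul, hα' _ h0]
      show α _ = _
      rw [hmul, ih v hv, pow_succ', mul_assoc]
  have h1 : α 1 = 1 := by
    obtain ⟨v, hv⟩ := D.surj ![1, 0]
    refine eq_one_of_pow_prime_pow (p := p) (k := k) ?_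
    have := hiter (p ^ k) v (by rw [hv]; rfl)
    rw [hk, apply_one, hv] at this
    simpa using this.symm
  intro v hv
  rw [← D.ker, map_sub, sub_eq_zero, hα' v (D.mem_fix_iff.1 hv), hmul, h1, one_mul]
  ext i; fin_cases i <;> simp [D.mem_fix_iff.1 hv]

end CellData

end CfsgLib.FFCells
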