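import Cfsg.Agent.FFCells.Config
import Cfsg.Agent.FFCells.Core

/-!
The case in which no local subgroup outside `M` sees a minimal offender of `M`: a single normal `SL₂(q)`.
-/

set_option autoImplicit false
set_option linter.style.haveILetI false

namespace CfsgLib.FFCells

open Subgroup CfsgLib.SL2Recognition

variable {P V : Type*} [Group P] [Finite P] [AddCommGroup V] [Finite V] {σ : P →* AddMonoid.End V}
  {p : ℕ} [Fact p.Prime] {T : Sylow p P} {M : Subgroup P}

/-- A `p`-subgroup of `T` normalised by `T` and by something outside `M` is trivial. -/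
theorem PMin.eq_bot_of_normalized (h : PMin T M)
    (hOp : ∀ N : Subgroup P, N.Normal → IsPGroup p N → N = ⊥) {R : Subgroup P} (hR : IsPGroup p R)
    (hT : (T : Subgroup P) ≤ normalizer (R : Set P)) {X : Subgroup P}
    (hX : X ≤ normalizer (R : Set P)) (hXM : ¬ X ≤ M) : R = ⊥ :=
  hOp R (normalizer_eq_top_iff.1 (h.eq_top hT fun hle => hXM (hX.trans hle))) hR

theorem not_normal_of_minOff (hOp : ∀ N : Subgroup P, N.Normal → IsPGroup p N → N = ⊥) {A : Subgroup P}
    (hA : IsMinOff σ A) (hAT : A ≤ (T : Subgroup P)) : ¬ (T : Subgroup P).Normal := fun hn =>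
  hA.ne_bot (le_bot_iff.1 (hAT.trans (hOp _ hn T.isPGroup').le))

/-- Every minimal offender has a conjugate in `T`. -/
theorem exists_minOff_le (hinj : Function.Injective σ) (hp0 : ∀ v : V, p • v = 0)
    (hoff : ∃ A, IsMinOff σ A) : ∃ A, IsMinOff σ A ∧ A ≤ (T : Subgroup P) := by
  obtain ⟨A, hA⟩ := hoff
  obtain ⟨Q, hQ⟩ := (hA.isPGroup hinj hp0).exists_le_sylow
  obtain ⟨g, hg⟩ := MulAction.exists_smul_eq P Q T
  refine ⟨cj g A, hA.map_cj g, (cj_mono hQ).trans ?_⟩
  rw [← hg, Sylow.coe_subgroup_smul]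
  rintro _ ⟨x, hx, rfl⟩
  exact ⟨x, hx, rfl⟩

/-- The normaliser condition of the first case. -/
def NoLocal (σ : P →* AddMonoid.End V) (p : ℕ) (M : Subgroup P) : Prop :=
  ∀ R : Subgroup P, R ≠ ⊥ → IsPGroup p R → R ≤ M → ¬ normalizer (R : Set P) ≤ M →
    ∀ B, IsMinOff σ B → B ≤ M → ¬ B ≤ normalizer (R : Set P)

/-- Without such local subgroups there is one cell. -/
theorem exists_config_single (hinj : Function.Injective σ) (hp0 : ∀ v : V, p • v = 0) (hM : PMin T M)
    (hOp : ∀ N : Subgroup P, N.Normal → IsPGroup p N → N = ⊥)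
    (hz : ∃ z ∈ fix σ (T : Subgroup P), z ∉ fix σ ⊤) {A : Subgroup P} (hA : IsMinOff σ A)
    (hAT : A ≤ (T : Subgroup P)) (hno : NoLocal σ p M) :
    ∃ 𝒞, Config σ p (T : Subgroup P) 𝒞 := by
  obtain ⟨z, hzT, hz0⟩ := hz
  have hnorm := hM.normalizer_le (not_normal_of_minOff hOp hA hAT)
  have hAM : A ≤ M := hAT.trans hM.le
  have hA1 : ∀ Y : Subgroup P, IsPGroup p Y → A ≤ Y → Y ≤ M := by
    intro Y hY hAY
    by_contra hYM
    obtain ⟨y, hy, hyn, hyN⟩ := exists_mem_normalizer_notMem hY (inf_le_left : Y ⊓ M ≤ Y)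
      fun e => hYM (e ▸ inf_le_right)
    refine hno (Y ⊓ M) (fun e => hA.ne_bot (le_bot_iff.1 ((le_inf hAY hAM).trans e.le)))
      (hY.to_le inf_le_left) inf_le_right (fun hle => hyn ⟨hy, hle hyN⟩) A hA hAM ?_
    exact (le_inf hAY hAM).trans le_normalizer
  have hA2 : ∀ g : P, cj g A ≤ M → g ∈ M := by
    intro g hg
    obtain ⟨m, hm, hle⟩ := hM.exists_cj_le ((hA.isPGroup hinj hp0).map _) hg
    rw [cj_cj] at hle
    set k := m * g with hk
    have h1 : A ≤ cj k⁻¹ (T : Subgroup P) := cj_le_iff.1 hle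
    have h2 := hA1 _ (T.isPGroup'.map _) h1
    obtain ⟨m', hm', hle'⟩ := hM.exists_cj_le (T.isPGroup'.map _) h2
    rw [cj_cj] at hle'
    have h3 := hnorm (mem_normalizer_of_cj_le hle')
    have h4 : k⁻¹ ∈ M := by simpa using mul_mem (inv_mem hm') h3
    simpa [hk] using mul_mem (inv_mem hm) (inv_mem h4)
  have hcore : CoreHyp σ p M ⊤ A :=
    ⟨hinj, hp0, fun Y => hM.exists_fix hzT hz0, hA, le_top, hAM, fun x _ hx hle => hx (hA2 x hle)⟩
  obtain ⟨L, -, hLM, ⟨D⟩⟩ := hcore.exists_cell fun h => hM.ne_top (top_le_iff.1 h)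
  have horth : ∀ m ∈ M, ∀ m' ∈ M, Orth σ (cj m A) (cj m' A) := by
    intro m hm m' hm'
    have h := (hcore.orth_cj D le_top hLM (mul_mem (inv_mem hm') hm) (mem_top _)).map_cj m'
    rwa [cj_cj, mul_inv_cancel_left] at h
  set E : Subgroup P := ⨆ m : M, cj (m : P) A with hE
  have hEE : Orth σ E E :=
    Orth.iSup_right hinj fun m => (Orth.iSup_right hinj fun m' : M => horth m m.2 m' m'.2).symm
  have hEM : E ≤ M := iSup_le fun m => (cj_mono hAM).trans (cj_le_of_mem m.2)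
  have hEinv : ∀ m ∈ M, cj m E ≤ E := fun m hm => by
    rw [cj_le_iff]
    refine iSup_le fun m' => cj_le_iff.1 ?_
    rw [cj_cj]
    exact le_iSup (fun m' : M => cj (m' : P) A) ⟨m * m', mul_mem hm m'.2⟩
  have hEp : IsPGroup p E := by
    let K : Subgroup P :=
      { carrier := {x | x ∈ E ∧ x ^ p = 1}
        one_mem' := ⟨one_mem _, one_pow p⟩
        mul_mem' := fun {x y} hx hy =>
          ⟨mul_mem hx.1 hy.1, by rw [(hEE.commute hinj hx.1 hy.1).mul_pow, hx.2, hy.2, one_mul]⟩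
        inv_mem' := fun {x} hx => ⟨inv_mem hx.1, by rw [inv_pow, hx.2, inv_one]⟩ }
    have hle : E ≤ K := iSup_le fun m x hx =>
      ⟨le_iSup (fun m : M => cj (m : P) A) m hx, (hA.map_cj _).pow_eq_one hinj hp0 hx⟩
    exact fun x => ⟨1, Subtype.ext (by rw [pow_one]; exact (hle x.2).2)⟩
  have hET : E ≤ (T : Subgroup P) := by
    have h : IsPGroup p ↥(E ⊔ (T : Subgroup P)) :=
      hEp.to_sup_of_normal_left' T.isPGroup' fun t ht => mem_normalizer_of_cj_le (hEinv t (hM.le ht))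
    exact le_sup_left.trans (T.is_maximal' h le_sup_right).le
  have hAE : A ≤ E := le_iSup_of_le ⟨1, one_mem M⟩ (cj_one A).ge
  have hwM : D.weyl ∉ M := fun hw => D.weyl_notMem (D.mem_normalizer_of_mem hAM hLM D.weyl_mem hw)
  have hNM : ∀ n : P, n ∈ normalizer (A : Set P) → n ∈ M := fun n hn =>
    hA2 n ((cj_eq_self.2 hn).le.trans hAM)
  have hout : ∀ g ∉ M, ∃ a ∈ A, (a * D.weyl)⁻¹ * g ∈ M := by
    intro g hg
    obtain ⟨l, hl, hlm⟩ := hcore.exists_mul D le_top (mem_top g)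
    have hln : l ∉ normalizer (A : Set P) := fun hn =>
      hg (by simpa using mul_mem (hNM l hn) hlm)
    obtain ⟨b, hb, hbn⟩ := D.exists_bruhat hl hln
    exact ⟨b, hb, by simpa [mul_assoc] using mul_mem (hNM _ hbn) hlm⟩
  have hEA : E ≤ A := by
    intro d hd
    obtain ⟨a, ha, ham⟩ := hout (d * D.weyl) fun h =>
      hwM (by simpa using mul_mem (inv_mem (hEM hd)) h)
    set d' := a⁻¹ * d with hd'
    have hd'E : d' ∈ E := mul_mem (inv_mem (hAE ha)) hd
    have hfix : D.weyl⁻¹ * d' * D.weyl ∈ M := by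
      rw [hd']; simpa [mul_assoc] using ham
    have hcore' : d' ∈ M.normalCore := by
      intro g
      by_cases hg : g⁻¹ ∈ M
      · have hg' : g ∈ M := by simpa using inv_mem hg
        exact mul_mem (mul_mem hg' (hEM hd'E)) hg
      · obtain ⟨b, hb, hbm⟩ := hout g⁻¹ hg
        have hc : b⁻¹ * d' * b = d' := by
          rw [mul_assoc, (hEE.commute hinj hd'E (hAE hb)).eq, inv_mul_cancel_left]
        set m := (b * D.weyl)⁻¹ * g⁻¹ with hm
        have e : g * d' * g⁻¹ = m⁻¹ * (D.weyl⁻¹ * (b⁻¹ * d' * b) * D.weyl) * m := by rw [hm]; group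
        rw [e, hc]
        exact mul_mem (mul_mem (inv_mem hbm) hfix) hbm
    have h1 : d' ∈ (T : Subgroup P) ⊓ M.normalCore := ⟨hET hd'E, hcore'⟩
    rw [hM.inf_normal_eq_bot hOp _ M.normalCore_le, mem_bot, hd', inv_mul_eq_one] at h1
    rw [← h1]; exact ha
  have hcjA : ∀ m ∈ M, cj m A = A := fun m hm => cj_eq_self.2 (mem_normalizer_of_cj_le
    ((le_iSup (fun m : M => cj (m : P) A) ⟨m, hm⟩).trans hEA))
  have hconj : ∀ g : P, cj g A ≤ L := by
    intro g
    obtain ⟨l, hl, hlm⟩ := hcore.exists_mul D le_top (mem_top g)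
    rw [show g = l * (l⁻¹ * g) by group, ← cj_cj, hcjA _ hlm]
    exact (cj_mono D.le).trans (cj_le_of_mem hl)
  have hLn : ∀ g : P, cj g L = L := fun g => cj_eq_self.2 (mem_normalizer_of_cj_le (by
    conv_lhs => rw [← D.gen_weyl, cj, Subgroup.map_sup]
    refine sup_le (hconj g) ?_
    show cj g (cj D.weyl A) ≤ L
    rw [cj_cj]; exact hconj _))
  have hgen : L ⊔ (T : Subgroup P) = ⊤ :=
    hM.eq_top le_sup_right fun h => hLM (le_sup_left.trans h)
  set c : Subgroup P × Subgroup P := (A, L) with hc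
  have hcent : ∀ x ∈ (T : Subgroup P), (∀ l ∈ L, x * l = l * x) → x = 1 := by
    intro x hx hxl
    set R := (T : Subgroup P) ⊓ centralizer (L : Set P) with hRdef
    have hTR : (T : Subgroup P) ≤ normalizer (R : Set P) := fun t ht => by
      refine mem_normalizer_of_cj_le (le_inf ((cj_mono inf_le_left).trans (cj_le_of_mem ht)) ?_)
      rintro _ ⟨y, hy, rfl⟩
      refine mem_centralizer_iff.2 fun l hl => ?_
      have hl' : t⁻¹ * l * t ∈ L := mem_cj.1 ((hLn t).ge hl)
      have e := mem_centralizer_iff.1 hy.2 _ hl'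
      show l * (t * y * t⁻¹) = t * y * t⁻¹ * l
      calc l * (t * y * t⁻¹) = t * (t⁻¹ * l * t * y) * t⁻¹ := by group
        _ = t * (y * (t⁻¹ * l * t)) * t⁻¹ := by rw [e]
        _ = _ := by group
    have hLR : L ≤ normalizer (R : Set P) := fun l hl => mem_normalizer_of_cj_le (by
      rintro _ ⟨y, hy, rfl⟩
      show l * y * l⁻¹ ∈ R
      rw [mem_centralizer_iff.1 hy.2 l hl, mul_inv_cancel_right]; exact hy)
    have hR := hM.eq_bot_of_normalized hOp (T.isPGroup'.to_le inf_le_left) hTR hLR hLM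
    have hxR : x ∈ R := ⟨hx, mem_centralizer_iff.2 fun l hl => (hxl l hl).symm⟩
    exact mem_bot.1 (hR.le hxR)
  refine ⟨{c}, ⟨⟨hinj, hp0, T.isPGroup', ⟨fun d hd => ?_, fun d hd e he hne => ?_⟩, fun d hd => ?_,
    fun g hg d hd => ?_, fun x hx hxc => hcent x hx (hxc c rfl)⟩, ⟨c, rfl⟩, fun d hd e he => ?_, ?_,
    fun d hd e he hne => ?_, fun d hd e he f hf hne => ?_⟩⟩
  · obtain rfl := Set.mem_singleton_iff.1 hd; exact ⟨D⟩
  · obtain rfl := Set.mem_singleton_iff.1 hd
    exact absurd (Set.mem_singleton_iff.1 he).symm hne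
  · obtain rfl := Set.mem_singleton_iff.1 hd; exact hAT
  · obtain rfl := Set.mem_singleton_iff.1 hd
    exact Set.mem_singleton_iff.2 (Prod.ext (hcjA g (hM.le hg)) (hLn g))
  · obtain rfl := Set.mem_singleton_iff.1 hd
    obtain rfl := Set.mem_singleton_iff.1 he
    exact ⟨1, one_mem _, cj_one _, cj_one _⟩
  · refine eq_top_iff.2 (hgen.ge.trans (sup_le_sup_right ?_ _))
    exact le_iSup (fun d : ({c} : Set (Subgroup P × Subgroup P)) => d.1.2) ⟨c, rfl⟩
  · obtain rfl := Set.mem_singleton_iff.1 hd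
    exact absurd (Set.mem_singleton_iff.1 he).symm hne
  · exact absurd ((Set.mem_singleton_iff.1 hd).trans (Set.mem_singleton_iff.1 hf).symm) hne

end CfsgLib.FFCells
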