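import Cfsg.Agent.FFCells.Family

/-!
Transvections of a module of exponent two and the cells with two-element roots.
-/

set_option autoImplicit false

namespace CfsgLib.FFCells

open Subgroup Matrix CfsgLib.SL2Recognition CfsgLib.Linear
open scoped MatrixGroups

variable {P V : Type*} [Group P] [AddCommGroup V] {σ : P →* AddMonoid.End V}

/-- `x • d` for `x : ZMod 2`. -/
def sc (x : ZMod 2) (d : V) : V := if x = 0 then 0 else d

@[simp] theorem sc_zero (d : V) : sc (0 : ZMod 2) d = 0 := rfl

@[simp] theorem sc_one (d : V) : sc (1 : ZMod 2) d = d := rfl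

theorem zmod_two_cases : ∀ x : ZMod 2, x = 0 ∨ x = 1 := by decide

theorem sc_add {d : V} (h2 : ∀ v : V, v + v = 0) (x y : ZMod 2) : sc (x + y) d = sc x d + sc y d := by
  rcases zmod_two_cases x with rfl | rfl <;> rcases zmod_two_cases y with rfl | rfl
  · simp
  · simp
  · simp
  · rw [show (1 + 1 : ZMod 2) = 0 from rfl, sc_zero, sc_one, h2]

theorem map_sc (g : V →+ V) (x : ZMod 2) (d : V) : g (sc x d) = sc x (g d) := by
  rcases zmod_two_cases x with rfl | rfl <;> simp

theorem apply_sc (g : P) (x : ZMod 2) (d : V) : σ g (sc x d) = sc x (σ g d) := by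
  rcases zmod_two_cases x with rfl | rfl <;> simp

theorem map_sc_zmod (f : V →+ ZMod 2) (x : ZMod 2) (d : V) : f (sc x d) = x * f d := by
  rcases zmod_two_cases x with rfl | rfl <;> simp

theorem add_sc_eq_zero {x : ZMod 2} {d : V} (hd : d ≠ 0) (h : sc x d = 0) : x = 0 := by
  rcases zmod_two_cases x with rfl | rfl
  · rfl
  · exact absurd h hd

/-- `g` is the transvection with vector `d` and functional `f`. -/
def IsTrv (σ : P →* AddMonoid.End V) (g : P) (d : V) (f : V →+ ZMod 2) : Prop :=
  ∀ v, σ g v = v + sc (f v) d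

theorem IsTrv.sub {g : P} {d : V} {f : V →+ ZMod 2} (h : IsTrv σ g d f) (v : V) :
    σ g v - v = sc (f v) d := by rw [h]; abel

theorem IsTrv.mul {g g' : P} {d : V} {f f' : V →+ ZMod 2} (h2 : ∀ v : V, v + v = 0)
    (h : IsTrv σ g d f) (h' : IsTrv σ g' d f') (h0 : f d = 0) : IsTrv σ (g * g') d (f + f') :=
  fun v => by
    rw [apply_mul, h', map_add, h v, apply_sc (σ := σ) g, h d, h0, sc_zero, add_zero,
      AddMonoidHom.add_apply, sc_add h2]
    abel

/-- Conjugation by a transvection. -/
theorem IsTrv.conj {g k : P} {d e : V} {f φ : V →+ ZMod 2} (h2 : ∀ v : V, v + v = 0)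
    (h : IsTrv σ g d f) (hk : IsTrv σ k e φ) (he : φ e = 0) :
    IsTrv σ (k * g * k⁻¹) (d + sc (φ d) e) (f + (AddMonoidHom.mulLeft (f e)).comp φ) := fun v => by
  have hinv : σ k⁻¹ v = v + sc (φ v) e := by
    apply apply_injective σ k
    rw [apply_apply_inv, map_add, hk v, apply_sc (σ := σ) k, hk e, he, sc_zero, add_zero, add_assoc,
      h2, add_zero]
  have hf : f (σ k⁻¹ v) = (f + (AddMonoidHom.mulLeft (f e)).comp φ) v := by
    rw [hinv, map_add, map_sc_zmod, AddMonoidHom.add_apply, AddMonoidHom.comp_apply,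
      AddMonoidHom.coe_mulLeft, mul_comm]
  rw [apply_mul, apply_mul, h (σ k⁻¹ v), map_add, apply_apply_inv, apply_sc (σ := σ) k, hk d, hf]

theorem IsTrv.ext (hinj : Function.Injective σ) {g g' : P} {d : V} {f : V →+ ZMod 2}
    (h : IsTrv σ g d f) (h' : IsTrv σ g' d f) : g = g' :=
  hinj (AddMonoidHom.ext fun v => (h v).trans (h' v).symm)

theorem IsTrv.inv_eq (h2 : ∀ v : V, v + v = 0) (hinj : Function.Injective σ) {g : P} {d : V}
    {f : V →+ ZMod 2} (h : IsTrv σ g d f) (h0 : f d = 0) : g * g = 1 :=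
  hinj (AddMonoidHom.ext fun v => by
    show σ (g * g) v = σ 1 v
    rw [apply_one, apply_mul, h v, map_add, h v, apply_sc (σ := σ) g, h d, h0, sc_zero, add_zero,
      add_assoc, h2, add_zero])

/-- A transvection generates a minimal offender. -/
theorem IsTrv.isMinOff [Finite P] [Finite V] (h2 : ∀ v : V, v + v = 0) (hinj : Function.Injective σ)
    {g : P} {d : V} {f : V →+ ZMod 2} (h : IsTrv σ g d f) (h0 : f d = 0) {v₀ : V} (hv₀ : f v₀ = 1)
    (hd : d ≠ 0) : IsMinOff σ (zpowers g) := by
  have hgg := h.inv_eq h2 hinj h0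
  have hg1 : g ≠ 1 := fun e => hd (by
    have := h v₀
    rw [e, apply_one, hv₀, sc_one] at this
    simpa using this)
  have hord : orderOf g = 2 := orderOf_eq_prime (by rw [pow_two]; exact hgg) hg1
  have hmem : ∀ x ∈ zpowers g, x = 1 ∨ x = g := by
    intro x hx
    obtain ⟨n, rfl⟩ := mem_zpowers_iff.1 hx
    rw [← zpow_mod_orderOf, hord]
    rcases Int.emod_two_eq n with e | e <;> simp [e]
  refine ⟨fun e => hg1 (zpowers_eq_bot.1 e), fun a ha b hb v => ?_, ?_, fun A₀ hle hne hne' => ?_⟩
  · rcases hmem a ha with rfl | rfl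
    · exact apply_one σ _
    rcases hmem b hb with rfl | rfl
    · simp [apply_one]
    rw [h.sub, apply_sc (σ := σ) b, h d, h0, sc_zero, add_zero]
  · have e : fix σ (zpowers g) = f.ker := AddSubgroup.ext fun v => by
      rw [AddMonoidHom.mem_ker]
      refine ⟨fun hv => add_sc_eq_zero hd ?_, fun hv x hx => ?_⟩
      · rw [← h.sub, hv g (mem_zpowers g), sub_self]
      · rcases hmem x hx with rfl | rfl
        · exact apply_one σ v
        · rw [h v, hv, sc_zero, add_zero]
    rw [wt, Nat.card_zpowers, hord, e, AddSubgroup.card_eq_card_quotient_mul_card_addSubgroup f.ker]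
    refine Nat.mul_le_mul_right _ ?_
    rw [Nat.card_congr (QuotientAddGroup.quotientKerEquivRange f).toEquiv]
    exact (Nat.card_le_card_of_injective _ Subtype.val_injective).trans (Nat.card_zmod 2).le
  · exfalso
    obtain ⟨x, hx, hx1⟩ := A₀.bot_or_exists_ne_one.resolve_left hne
    rcases hmem x (hle hx) with rfl | rfl
    · exact hx1 rfl
    · exact hne' (le_antisymm hle (zpowers_le.2 hx))

/-- The three transvections of a cell with two-element root. -/
structure Triple (σ : P →* AddMonoid.End V) (B L : Subgroup P) where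
  a : P
  d : P
  α : V
  δ : V
  fa : V →+ ZMod 2
  fd : V →+ ZMod 2
  ha : IsTrv σ a α fa
  hd : IsTrv σ d δ fd
  memB : a ∈ B
  memL : d ∈ L
  rootB : ∀ b ∈ B, b = 1 ∨ b = a
  notB : d ∉ B
  gen : ∀ K : Subgroup P, a ∈ K → d ∈ K → L ≤ K
  aa : fa α = 0
  dd : fd δ = 0
  ad : fa δ = 1
  da : fd α = 1
  inv : ∀ g ∈ L, g * g = 1 → g ∉ B → g = d ∨ g = a * d * a
  moved : α ∉ fix σ L

theorem CellData.exists_triple [Finite P] {B L : Subgroup P} (D : CellData σ B L)
    (hq : Nat.card B = 2) : Nonempty (Triple σ B L) := by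
  classical
  have h2F : Nat.card D.F = 2 := by rw [← D.card_root]; exact hq
  have hF : ∀ x : D.F, x = 0 ∨ x = 1 := fun x => by
    by_contra hx
    push Not at hx
    have h3 := Nat.card_le_card_of_injective
      (fun i : Fin 3 => (![0, 1, x] i : D.F)) (by
        intro i j hij
        fin_cases i <;> fin_cases j <;> simp_all [Ne.symm hx.1, Ne.symm hx.2])
    rw [h2F] at h3
    simp at h3
  have h11 : (1 : D.F) + 1 = 0 := by
    rcases hF (1 + 1) with h | h
    · exact h
    · exact absurd (by simpa using h) (one_ne_zero (α := D.F))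
  have hneg : (-1 : D.F) = 1 := (eq_neg_of_add_eq_zero_left h11).symm
  let ι : D.F →+ ZMod 2 := AddMonoidHom.mk' (fun x => if x = 0 then 0 else 1) fun x y => by
    rcases hF x with rfl | rfl <;> rcases hF y with rfl | rfl <;> simp [h11] <;> rfl
  have hι0 : ι 0 = 0 := if_pos rfl
  have hι1 : ι 1 = 1 := if_neg one_ne_zero
  obtain ⟨v₀, hv₀⟩ := D.surj ![0, 1]
  set a := D.u 1 with hadef
  set α := σ a v₀ - v₀ with hαdef
  let fa : V →+ ZMod 2 := ι.comp ((Pi.evalAddMonoidHom (fun _ => D.F) 1).comp D.ψ)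
  have hfa : ∀ v, fa v = ι (D.ψ v 1) := fun _ => rfl
  have ha : IsTrv σ a α fa := fun v => by
    rw [hfa]
    rcases hF (D.ψ v 1) with h | h
    · rw [h, hι0, sc_zero, add_zero]; exact D.fixB v h a (D.u_mem 1)
    · rw [h, hι1, sc_one]
      have h1 : σ a (v - v₀) = v - v₀ :=
        D.fixB _ (by rw [map_sub, Pi.sub_apply, h, hv₀]; simp) a (D.u_mem 1)
      rw [map_sub, sub_eq_sub_iff_sub_eq_sub] at h1
      rw [hαdef, ← h1]; abel
  have hψα : D.ψ α = ![1, 0] := by
    rw [hαdef, D.ψ_apply_sub, hv₀]; simp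
  set w := D.weyl
  set d := w * a * w⁻¹ with hddef
  have hdlow : d = D.low 1 := by
    have e : D.φ.symm (weylSL D.F) * D.φ.symm (upperUni 1) * (D.φ.symm (weylSL D.F))⁻¹ =
        D.φ.symm (lowerUni 1) := by
      apply D.φ.injective
      simp only [map_mul, map_inv, MulEquiv.apply_symm_apply]
      rw [mul_inv_eq_iff_eq_mul]
      refine Subtype.ext ?_
      simp only [Matrix.SpecialLinearGroup.coe_mul, upperUni_val, lowerUni_val, CellData.weylSL_val]
      ext i j; fin_cases i <;> fin_cases j <;> simp [Matrix.mul_apply, Fin.sum_univ_two, hneg, h11]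
    exact congrArg Subtype.val e
  set δ := σ w α with hδdef
  let fd : V →+ ZMod 2 := fa.comp (σ w⁻¹ : V →+ V)
  have hd : IsTrv σ d δ fd := fun v => by
    show σ (w * a * w⁻¹) v = v + sc (fa (σ w⁻¹ v)) δ
    rw [apply_mul, apply_mul, ha, map_add, apply_apply_inv, apply_sc (σ := σ) w]
  have hwm : (D.φ ⟨w, D.weyl_mem⟩) = weylSL D.F := by
    rw [show (⟨w, D.weyl_mem⟩ : L) = D.φ.symm (weylSL D.F) from rfl, D.φ.apply_symm_apply]
  have hψδ : D.ψ δ = ![0, 1] := by
    rw [hδdef, show w = ((⟨w, D.weyl_mem⟩ : L) : P) from rfl, D.equiv, hwm, hψα, CellData.weylSL_val]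
    ext i; fin_cases i <;> simp [mulVec, dotProduct, Fin.sum_univ_two, hneg]
  have hwinv : ∀ v, D.ψ (σ w⁻¹ v) 1 = D.ψ v 0 := fun v => by
    rw [show w⁻¹ = ((⟨w, D.weyl_mem⟩⁻¹ : L) : P) from rfl, D.equiv, map_inv, hwm,
      Matrix.SpecialLinearGroup.coe_inv, CellData.weylSL_val, adjugate_fin_two]
    simp [mulVec, dotProduct, Fin.sum_univ_two, hneg]
  refine ⟨{
    a := a, d := d, α := α, δ := δ, fa := fa, fd := fd, ha := ha, hd := hd
    memB := D.u_mem 1
    memL := hdlow ▸ D.low_mem 1
    rootB := fun b hb => ?_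
    notB := fun hdB => ?_
    gen := fun K h1 h2 => D.le_of_mem (fun t => ?_) (fun t => ?_)
    aa := by rw [hfa, hψα]; exact hι0
    dd := by show fa (σ w⁻¹ δ) = 0; rw [hfa, hwinv, hψδ]; exact hι0
    ad := by rw [hfa, hψδ]; exact hι1
    da := by show fa (σ w⁻¹ α) = 1; rw [hfa, hwinv, hψα]; exact hι1
    inv := fun g hg hgg hgB => ?_
    moved := fun hm => one_ne_zero (α := D.F) (by
      simpa [hψα] using congrFun ((D.ker _).2 hm) 0) }⟩
  · obtain ⟨t, rfl⟩ := D.exists_u hb
    rcases hF t with rfl | rfl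
    · exact Or.inl (by
        show ((D.φ.symm (upperUni 0) : L) : P) = 1
        rw [upperUni, Matrix.SpecialLinearGroup.transvection_coeff_zero, map_one]; rfl)
    · exact Or.inr rfl
  · rw [hdlow] at hdB
    obtain ⟨t, ht⟩ := (D.root ⟨D.low 1, D.low_mem 1⟩).1 hdB
    rw [show (⟨D.low 1, D.low_mem 1⟩ : L) = D.φ.symm (lowerUni 1) from rfl, D.φ.apply_symm_apply] at ht
    simpa [lowerUni_val, upperUni_val] using
      congrArg (fun m : SL(2, D.F) => m.1 1 0) ht
  · rcases hF t with rfl | rfl
    · rw [show D.u 0 = 1 by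
        show ((D.φ.symm (upperUni 0) : L) : P) = 1
        rw [upperUni, Matrix.SpecialLinearGroup.transvection_coeff_zero, map_one]; rfl]
      exact one_mem K
    · exact h1
  · rcases hF t with rfl | rfl
    · rw [show D.low 0 = 1 by
        show ((D.φ.symm (lowerUni 0) : L) : P) = 1
        rw [lowerUni, Matrix.SpecialLinearGroup.transvection_coeff_zero, map_one]; rfl]
      exact one_mem K
    · rw [← hdlow]; exact h2
  · set m := D.φ ⟨g, hg⟩ with hm
    have hmm : m * m = 1 := by
      rw [hm, ← map_mul, show (⟨g, hg⟩ : L) * ⟨g, hg⟩ = 1 from Subtype.ext hgg, map_one]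
    have hnot : ∀ t, m ≠ upperUni t := fun t e => hgB ((D.root ⟨g, hg⟩).2 ⟨t, e⟩)
    have hcases : m = lowerUni 1 ∨ m = upperUni 1 * lowerUni 1 * upperUni 1 := by
      have hsq := congrArg Subtype.val hmm
      rw [Matrix.SpecialLinearGroup.coe_mul, Matrix.SpecialLinearGroup.coe_one] at hsq
      have hdet := m.2
      rw [Matrix.det_fin_two] at hdet
      have e00 := congrFun (congrFun hsq 0) 0
      have e01 := congrFun (congrFun hsq 0) 1
      simp [Matrix.mul_apply, Fin.sum_univ_two] at e00 e01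
      rcases hF (m.1 0 0) with h00 | h00 <;> rcases hF (m.1 0 1) with h01 | h01 <;>
        rcases hF (m.1 1 0) with h10 | h10 <;> rcases hF (m.1 1 1) with h11' | h11' <;>
        simp [h00, h01, h10, h11', h11] at hdet e00 e01 <;>
        first
          | (refine Or.inl (Subtype.ext ?_); rw [lowerUni_val]; ext i j
             fin_cases i <;> fin_cases j <;> simp [h00, h01, h10, h11'] <;> done)
          | (refine Or.inr (Subtype.ext ?_)
             rw [Matrix.SpecialLinearGroup.coe_mul, Matrix.SpecialLinearGroup.coe_mul, upperUni_val,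
               lowerUni_val]
             ext i j
             fin_cases i <;> fin_cases j <;>
               simp [Matrix.mul_apply, Fin.sum_univ_two, h00, h01, h10, h11', h11] <;> done)
          | (refine absurd (Subtype.ext ?_) (hnot (m.1 0 1))
             rw [upperUni_val]; ext i j
             fin_cases i <;> fin_cases j <;> simp [h00, h01, h10, h11'] <;> done)
    rw [hdlow]
    rcases hcases with h | h
    · exact Or.inl (congrArg Subtype.val ((congrArg D.φ.symm (hm ▸ h)).symm.trans
        (D.φ.symm_apply_apply _)).symm)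
    · refine Or.inr ?_
      have : (⟨g, hg⟩ : L) = D.φ.symm (upperUni 1) * D.φ.symm (lowerUni 1) * D.φ.symm (upperUni 1) :=
        D.φ.injective (by simp only [map_mul, MulEquiv.apply_symm_apply]; exact h)
      exact congrArg Subtype.val this

end CfsgLib.FFCells
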